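import Cfsg.Agent.Fg24.Brauer.Degree

/-!
# The degrees in the principal block when `n` is not of the form `(hup + u² + u + h) / (u + 1)`
-/

set_option autoImplicit false

open Cfsg

namespace Cfsg.Agent.Fg24.Brauer

open Cfsg.Agent.BlockThms.OrderP

universe u

/-- The exceptional values of the number of Sylow subgroups. -/
def FForm (p n : ℕ) : Prop :=
  ∃ h u : ℕ, 0 < h ∧ 0 < u ∧ n * (u + 1) = h * u * p + u ^ 2 + u + h

theorem fform_of_int {p n : ℕ} {h u : ℤ} (hh : 0 < h) (hu : 0 < u)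
    (he : (n : ℤ) * (u + 1) = h * u * p + u ^ 2 + u + h) : FForm p n := by
  lift h to ℕ using hh.le
  lift u to ℕ using hu.le
  exact ⟨h, u, by exact_mod_cast hh, by exact_mod_cast hu, by exact_mod_cast he⟩

theorem deg_plus_gen {p n u : ℕ} (hp : 2 ≤ p) (hu : 0 < u) (hn : 0 < n)
    (hdvd : u * p + 1 ∣ (p - 1) * (n * p + 1)) : u = n ∨ FForm p n := by
  have h0 : ((u * p + 1 : ℕ) : ℤ) ∣ ((p : ℤ) - 1) * ((n : ℤ) * p + 1) := by
    have h := Int.natCast_dvd_natCast.2 hdvd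
    push_cast [Nat.cast_sub (show 1 ≤ p by omega)] at h ⊢
    exact h
  obtain ⟨k, hk⟩ : ((u * p + 1 : ℕ) : ℤ) ∣ ((u : ℤ) + 1) * ((n : ℤ) - u) := by
    have h1 := dvd_sub (h0.mul_left ((u : ℤ) ^ 2))
      (dvd_mul_right ((u * p + 1 : ℕ) : ℤ) ((n : ℤ) * u * p + u - n * u - n))
    rwa [show (u : ℤ) ^ 2 * (((p : ℤ) - 1) * ((n : ℤ) * p + 1)) - ((u * p + 1 : ℕ) : ℤ) *
      ((n : ℤ) * u * p + u - n * u - n) = ((u : ℤ) + 1) * ((n : ℤ) - u) by push_cast; ring] at h1
  push_cast at hk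
  have hu' : (0 : ℤ) < u := by exact_mod_cast hu
  have hp' : (2 : ℤ) ≤ p := by exact_mod_cast hp
  rcases lt_trichotomy k 0 with hk0 | hk0 | hk0
  · exfalso
    have h2 : ((u : ℤ) + 1) ∣ k * ((p : ℤ) - 1) := ⟨k * p - ((n : ℤ) - u), by linear_combination hk⟩
    have h3 : ((u : ℤ) + 1) ≤ (-k) * ((p : ℤ) - 1) :=
      Int.le_of_dvd (mul_pos (by omega) (by omega)) (by rw [neg_mul, dvd_neg]; exact h2)
    have hn' : (0 : ℤ) < n := by exact_mod_cast hn
    nlinarith [mul_le_mul_of_nonneg_left h3 hu'.le, mul_pos (show (0 : ℤ) < (u : ℤ) + 1 by omega) hn']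
  · left
    rw [hk0, mul_zero] at hk
    rcases mul_eq_zero.1 hk with h | h <;> omega
  · right
    exact fform_of_int hk0 hu' (by linear_combination hk)

theorem deg_minus_gen {p n u : ℕ} (hp : 2 ≤ p) (hu : 0 < u) (hn : 0 < n)
    (hdvd : u * p - 1 ∣ (p - 1) * (n * p + 1)) :
    u = 1 ∨ FForm p n ∨ u * p - 1 = (p - 1) * (n * p + 1) := by
  have h1u : 1 ≤ u * p := Nat.mul_pos hu (by omega)
  have h0 : ((u * p - 1 : ℕ) : ℤ) ∣ ((p : ℤ) - 1) * ((n : ℤ) * p + 1) := by
    have h := Int.natCast_dvd_natCast.2 hdvd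
    push_cast [Nat.cast_sub (show 1 ≤ p by omega)] at h ⊢
    exact h
  obtain ⟨k, hk⟩ : ((u * p - 1 : ℕ) : ℤ) ∣ ((u : ℤ) - 1) * ((n : ℤ) + u) := by
    have h1 := dvd_sub (dvd_mul_right ((u * p - 1 : ℕ) : ℤ) ((n : ℤ) * u * p + n + u - n * u))
      (h0.mul_left ((u : ℤ) ^ 2))
    rwa [show ((u * p - 1 : ℕ) : ℤ) * ((n : ℤ) * u * p + n + u - n * u) -
      (u : ℤ) ^ 2 * (((p : ℤ) - 1) * ((n : ℤ) * p + 1)) = ((u : ℤ) - 1) * ((n : ℤ) + u) by
        push_cast [Nat.cast_sub h1u]; ring] at h1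
  push_cast [Nat.cast_sub h1u] at hk
  have hu' : (0 : ℤ) < u := by exact_mod_cast hu
  have hp' : (2 : ℤ) ≤ p := by exact_mod_cast hp
  have hn' : (0 : ℤ) < n := by exact_mod_cast hn
  by_cases hu1 : u = 1
  · exact Or.inl hu1
  right
  have hu2 : (2 : ℤ) ≤ u := by omega
  have hk0 : 0 < k := by
    by_contra h
    nlinarith [mul_pos (show (0 : ℤ) < (u : ℤ) - 1 by omega) (show (0 : ℤ) < (n : ℤ) + u by omega),
      mul_nonneg (show (0 : ℤ) ≤ -k by omega) (show (0 : ℤ) ≤ (u : ℤ) * p - 1 by nlinarith)]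
  by_cases hkn : k < n
  · left
    set w : ℤ := (n : ℤ) + u - 1 - k * p with hw
    have h2 : (n : ℤ) - k = u * w := by rw [hw]; linear_combination -hk
    have hw0 : 0 < w := by
      by_contra h
      nlinarith [mul_nonneg hu'.le (show (0 : ℤ) ≤ -w by omega)]
    exact fform_of_int hk0 hw0 (by rw [hw] at h2 ⊢; linear_combination h2)
  · right
    have h2 : ((u : ℤ) - 1) ∣ k * ((p : ℤ) - 1) :=
      ⟨(n : ℤ) + u - k * p, by linear_combination -hk⟩
    have h3 : ((u : ℤ) - 1) ≤ k * ((p : ℤ) - 1) := Int.le_of_dvd (mul_pos hk0 (by omega)) h2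
    have h4 : k * ((p : ℤ) - 1) ≤ (u : ℤ) - 1 := by
      refine le_of_mul_le_mul_left ?_ hu'
      nlinarith [mul_le_mul_of_nonneg_left (show (n : ℤ) ≤ k by omega)
        (show (0 : ℤ) ≤ (u : ℤ) - 1 by omega)]
    have h5 : (u : ℤ) - 1 = k * ((p : ℤ) - 1) := le_antisymm h3 h4
    have h6 : k = n := by
      have h7 : ((u : ℤ) - 1) * k = ((u : ℤ) - 1) * n := by linear_combination -hk + (u : ℤ) * h5
      exact mul_left_cancel₀ (by omega) h7
    have h8 : ((u * p - 1 : ℕ) : ℤ) = (((p - 1) * (n * p + 1) : ℕ) : ℤ) := by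
      push_cast [Nat.cast_sub h1u, Nat.cast_sub (show 1 ≤ p by omega)]
      rw [h6] at h5
      linear_combination (p : ℤ) * h5
    exact_mod_cast h8

variable {G : Type u} [Group G] [Fintype G] {p : ℕ} [Fact p.Prime] {P : Sylow p G} {e : ℕ}

/-- The degree of an exceptional character divides the class length of an element of order `p`. -/
theorem BlockData.degree_Y_dvd (D : BlockData P e) (hS : Setup P e) {n : ℕ}
    (hcx : ∀ x ∈ (P : Subgroup G), x ≠ 1 →
      (Subgroup.centralizer ({x} : Set G)).index = e * (n * p + 1))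
    {η : IrrCharacter G} (hη : η ∈ D.Y) : charDegree (η : G → ℂ) ∣ e * (n * p + 1) := by
  classical
  have hp : p.Prime := Fact.out
  obtain ⟨x, hx, hx1, -⟩ := hS.exists_gen
  have hdY : ∀ θ ∈ D.Y, (θ : G → ℂ) 1 = (η : G → ℂ) 1 := fun θ hθ =>
    D.regY θ hθ η hη 1 not_dvd_one_order
  have hcard : ((fiber p x).card : ℂ) ≠ 0 :=
    Nat.cast_ne_zero.2 (Finset.card_ne_zero.2 ⟨x, self_mem_fiber hx⟩)
  have hXavg : ∀ χ ∈ D.X, avg p (χ : G → ℂ) x = (D.a χ : ℂ) := by
    intro χ hχ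
    rw [avg, Finset.sum_congr rfl (g := fun _ => (D.a χ : ℂ)) (fun g hg => ?_), Finset.sum_const,
      nsmul_eq_mul, inv_mul_cancel_left₀ hcard]
    rw [← Blocks.pPartOf_mul_pPrimePartOf hp g, mem_fiber.1 hg]
    refine D.valX χ hχ x hx hx1 _ ?_ (Blocks.not_dvd_orderOf_pPrimePartOf hp g)
    rw [← hS.centralizer_eq hx hx1, Subgroup.mem_centralizer_singleton_iff]
    have h := (Blocks.commute_pPartOf_pPrimePartOf (p := p) g).eq
    rw [mem_fiber.1 hg] at h
    exact h.symm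
  have htot : ∑ χ : IrrCharacter G, (χ : G → ℂ) 1 * avg p (χ : G → ℂ) x = 0 := by
    simp only [avg, ← mul_assoc, mul_comm _ ((fiber p x).card : ℂ)⁻¹]
    simp only [mul_assoc, ← Finset.mul_sum]
    refine mul_eq_zero_of_right _ ?_
    simp only [Finset.mul_sum]
    rw [Finset.sum_comm]
    refine Finset.sum_eq_zero fun g hg => ?_
    rw [Char.regular_eq_sum, if_neg]
    intro h1
    rw [h1, mem_fiber, (Blocks.pPartOf_eq_one_iff hp 1).2 not_dvd_one_order] at hg
    exact hx1 hg.symm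
  rw [← Finset.sum_add_sum_compl (D.X ∪ D.Y), Finset.sum_union D.disj,
    Finset.sum_eq_zero (s := (D.X ∪ D.Y)ᶜ) (fun χ hχ => by
      rw [Finset.mem_compl, Finset.mem_union, not_or] at hχ
      rw [D.out χ hχ.1 hχ.2 x hx hx1, mul_zero]), add_zero,
    Finset.sum_congr rfl (s₁ := D.X) (g := fun χ => (D.a χ : ℂ) * (χ : G → ℂ) 1)
      (fun χ hχ => by rw [hXavg χ hχ, mul_comm]),
    Finset.sum_congr rfl (s₁ := D.Y) (g := fun θ => (η : G → ℂ) 1 * (θ : G → ℂ) x)
      (fun θ hθ => by rw [hdY θ hθ, ← D.avgY θ hθ x hx hx1]), ← Finset.mul_sum] at htot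
  have hrel := D.rel η hη 1 not_dvd_one_order
  have hYsum : ∑ θ ∈ D.Y, (θ : G → ℂ) x = (D.s : ℂ) := by
    refine mul_left_cancel₀ (Char.IsIrr.one_ne_zero η.2) ?_
    linear_combination htot - hrel
  have hint : IsIntegral ℤ (((e * (n * p + 1) : ℕ) : ℂ) * (D.s : ℂ) /
      (charDegree (η : G → ℂ) : ℂ)) := by
    rw [← hYsum, Finset.mul_sum, Finset.sum_div]
    refine IsIntegral.sum _ fun θ hθ => ?_
    have h := Char.centralCharacter_isIntegral θ.2 x
    rw [hcx x hx hx1, hdY θ hθ, degree_cast] at h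
    exact h
  refine Char.nat_dvd_of_isIntegral (Blocks.charDegree_pos η.2).ne' ?_
  rcases D.s_or with hs | hs <;> rw [hs] at hint
  · simpa using hint
  · have := hint.neg
    simpa [neg_div] using this

/-- The degrees of the nontrivial non-exceptional characters. -/
theorem BlockData.degree_cases_gen (D : BlockData P e) (hperf : commutator G = ⊤)
    (hS : Setup P e) {n : ℕ} (hn : 0 < n) (hF : ¬ FForm p n)
    (hcx : ∀ x ∈ (P : Subgroup G), x ≠ 1 →
      (Subgroup.centralizer ({x} : Set G)).index = e * (n * p + 1))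
    (χ : IrrCharacter G) (hχ : χ ∈ D.X) (hχt : χ ≠ Blocks.triv G) :
    (D.a χ = 1 ∧ charDegree (χ : G → ℂ) = n * p + 1) ∨
      (D.a χ = -1 ∧ (charDegree (χ : G → ℂ) = p - 1 ∨
        charDegree (χ : G → ℂ) = (p - 1) * (n * p + 1))) := by
  have hp : p.Prime := Fact.out
  obtain ⟨hedvd, -⟩ := hS.exists_y
  have hdvd : charDegree (χ : G → ℂ) ∣ (p - 1) * (n * p + 1) :=
    (D.degree_dvd hS hcx hχ).trans (Nat.mul_dvd_mul_right hedvd _)
  have h2 : 2 ≤ charDegree (χ : G → ℂ) := by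
    by_contra h
    refine hχt (eq_triv_of_degree_one hperf ?_)
    rw [degree_cast, show charDegree (χ : G → ℂ) = 1 by
      have := Blocks.charDegree_pos χ.2; omega, Nat.cast_one]
  set d := charDegree (χ : G → ℂ) with hd
  rcases D.a_or χ hχ with ha | ha
  · left
    refine ⟨ha, ?_⟩
    have hm : (d : ℤ) ≡ 1 [ZMOD p] := ha ▸ D.degX χ hχ
    obtain ⟨u, hu⟩ : ∃ u, d = u * p + 1 := by
      have h3 : d ≡ 1 [MOD p] := Int.natCast_modEq_iff.1 hm
      refine ⟨d / p, ?_⟩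
      have h4 : d % p = 1 := (show d % p = 1 % p from h3).trans (Nat.mod_eq_of_lt hp.one_lt)
      conv_lhs => rw [← Nat.div_add_mod d p, h4, mul_comm]
    have hu0 : 0 < u := Nat.pos_of_ne_zero fun h => by rw [h] at hu; simp at hu; omega
    rcases deg_plus_gen hp.two_le hu0 hn (hu ▸ hdvd) with h | h
    · rw [hu, h]
    · exact absurd h hF
  · right
    refine ⟨ha, ?_⟩
    have hm : (d : ℤ) ≡ -1 [ZMOD p] := ha ▸ D.degX χ hχ
    obtain ⟨u, hu⟩ : ∃ u, d + 1 = u * p := by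
      have h3 : (p : ℤ) ∣ ((d + 1 : ℕ) : ℤ) := by
        push_cast
        rw [← sub_neg_eq_add]
        exact Int.modEq_iff_dvd.1 hm.symm
      obtain ⟨u, hu⟩ := Int.natCast_dvd_natCast.1 h3
      exact ⟨u, hu.trans (mul_comm _ _)⟩
    have hu0 : 0 < u := Nat.pos_of_ne_zero fun h => by rw [h] at hu; simp at hu
    have hu' : d = u * p - 1 := by omega
    rcases deg_minus_gen hp.two_le hu0 hn (hu' ▸ hdvd) with rfl | h | h
    · left; omega
    · exact absurd h hF
    · right; omega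

/-- Some character in the block has degree `p - 1`. -/
theorem BlockData.exists_minus (D : BlockData P e) (hperf : commutator G = ⊤) (hS : Setup P e)
    (he : 2 ≤ e) {n : ℕ} (hn : 0 < n) (hF : ¬ FForm p n)
    (hcx : ∀ x ∈ (P : Subgroup G), x ≠ 1 →
      (Subgroup.centralizer ({x} : Set G)).index = e * (n * p + 1)) :
    ∃ θ ∈ D.X, D.a θ = -1 ∧ charDegree (θ : G → ℂ) = p - 1 := by
  classical
  have hp : p.Prime := Fact.out
  by_contra hno
  push Not at hno
  obtain ⟨hedvd, -⟩ := hS.exists_y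
  have hep : e < p := by
    have := Nat.le_of_dvd (Nat.sub_pos_of_lt hp.one_lt) hedvd
    have := hp.two_le
    omega
  obtain ⟨η, hη⟩ : D.Y.Nonempty := Finset.card_pos.1 (by
    rw [D.cardY]
    exact Nat.div_pos (Nat.le_of_dvd (Nat.sub_pos_of_lt hp.one_lt) hedvd) (by omega))
  set N := n * p + 1 with hN
  have hdiv : ∀ χ ∈ D.X.erase (Blocks.triv G),
      (N : ℤ) ∣ D.a χ * (charDegree (χ : G → ℂ) : ℤ) := by
    intro χ hχ
    obtain ⟨h1, h2⟩ := Finset.mem_erase.1 hχ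
    rcases D.degree_cases_gen hperf hS hn hF hcx χ h2 h1 with ⟨-, h⟩ | ⟨ha, h | h⟩
    · rw [h]; exact dvd_mul_left _ _
    · exact absurd h (hno χ h2 ha)
    · rw [h, Nat.cast_mul]; exact (dvd_mul_left _ _).mul_left _
  have hrel := D.rel η hη 1 not_dvd_one_order
  have hrelZ : D.s * (charDegree (η : G → ℂ) : ℤ) +
      (1 + ∑ χ ∈ D.X.erase (Blocks.triv G), D.a χ * (charDegree (χ : G → ℂ) : ℤ)) = 0 := by
    rw [← Finset.add_sum_erase _ _ D.triv_mem, D.a_triv] at hrel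
    simp only [degree_cast, Blocks.charDegree_eq (n := 1) (χ := ((Blocks.triv G : IrrCharacter G) : G → ℂ))
      (by simp [Blocks.triv])] at hrel
    push_cast at hrel
    rw [one_mul] at hrel
    exact_mod_cast hrel
  have hNdvd : (N : ℤ) ∣ D.s * (charDegree (η : G → ℂ) : ℤ) + 1 := by
    have h := Finset.dvd_sum hdiv
    rw [show D.s * (charDegree (η : G → ℂ) : ℤ) + 1 =
      -∑ χ ∈ D.X.erase (Blocks.triv G), D.a χ * (charDegree (χ : G → ℂ) : ℤ) by linarith, dvd_neg]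
    exact h
  set d := charDegree (η : G → ℂ) with hd
  have hco : d.Coprime N := by
    rw [Nat.coprime_iff_gcd_eq_one]
    have h1 : ((Nat.gcd d N : ℕ) : ℤ) ∣ D.s * (d : ℤ) + 1 :=
      (Int.natCast_dvd_natCast.2 (Nat.gcd_dvd_right d N)).trans hNdvd
    rw [dvd_add_right ((Int.natCast_dvd_natCast.2 (Nat.gcd_dvd_left d N)).mul_left _)] at h1
    exact Nat.dvd_one.1 (by exact_mod_cast h1)
  have hde : d ≤ e := Nat.le_of_dvd (by omega) (hco.dvd_of_dvd_mul_right (D.degree_Y_dvd hS hcx hη))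
  have hNp : p < N := Nat.lt_succ_of_le (Nat.le_mul_of_pos_left p hn)
  have hzero : D.s * (d : ℤ) + 1 = 0 := by
    refine Int.eq_zero_of_abs_lt_dvd hNdvd ?_
    rw [abs_lt]
    rcases D.s_or with hs | hs <;> rw [hs] <;> constructor <;> omega
  have hd1 : d = 1 := by rcases D.s_or with hs | hs <;> rw [hs] at hzero <;> omega
  have h1 := eq_triv_of_degree_one hperf (χ := η) (by rw [degree_cast, ← hd, hd1, Nat.cast_one])
  exact Finset.disjoint_right.1 D.disj hη (h1 ▸ D.triv_mem)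

/-- The arithmetic: `c` is not negative. -/
theorem c_nonneg {A n p e t c : ℤ} (hA : 0 ≤ A) (hn : 0 ≤ n) (ht : 1 ≤ t) (he : 2 ≤ e)
    (hp : e * t + 1 = p) (hcount : A * (n + 1) + c + 1 = e)
    (hsum : 1 + A * (n * p + 1) ^ 2 + (c + A * n) * (p - 1) ^ 2 + t * (e - c * p) ^ 2 ≤
      p * e * (n * p + 1)) : 0 ≤ c := by
  by_contra hc
  have key : 1 + A * (n * p + 1) ^ 2 + (c + A * n) * (p - 1) ^ 2 + t * (e - c * p) ^ 2 -
      p * e * (n * p + 1) = c * p ^ 2 * (t * c - n - 1) - n * p ^ 2 := by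
    linear_combination (n * p ^ 2 + 1) * hcount + (e - 2 * c * p) * hp
  have h1 : 1 ≤ -c := by omega
  have h2 : n + 2 ≤ n + 1 - t * c := by nlinarith
  have h3 : 0 < p ^ 2 := by nlinarith
  nlinarith [mul_le_mul h1 h2 (by omega) (by omega)]

/-- The arithmetic: `c ≤ j`, and `c = j` unless the exceptional form occurs. -/
theorem c_eq_j {p n e t j c : ℕ} (hp : p.Prime) (he : 2 ≤ e) (het : e * t + 1 = p) (hce : c < e)
    (hc : 0 < c) (hnj : n + 1 = j * t) (hF : ¬ FForm p n) (hD1 : c * p - e ≠ 1)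
    (hdvd : c * p - e ∣ e * (n * p + 1)) : c = j := by
  have hep : e < p := by
    rcases Nat.eq_zero_or_pos t with rfl | h
    · simp at het; exact absurd het hp.one_lt.ne
    · have := Nat.le_mul_of_pos_right e h; omega
  have ht : 0 < t := by
    rcases Nat.eq_zero_or_pos t with rfl | h
    · simp at het; exact absurd het hp.one_lt.ne
    · exact h
  have hcp : p ≤ c * p := Nat.le_mul_of_pos_left p hc
  obtain ⟨D, hD⟩ : ∃ D : ℕ, D = c * p - e := ⟨_, rfl⟩
  rw [← hD] at hdvd hD1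
  have hD0 : 0 < D := by omega
  have hDz : (D : ℤ) = c * p - e := by rw [hD, Nat.cast_sub (by omega)]; push_cast; rfl
  have hnz : (n : ℤ) + 1 = j * t := by exact_mod_cast hnj
  have hpz : (e : ℤ) * t + 1 = p := by exact_mod_cast het
  have h1 : (D : ℤ) ∣ (p : ℤ) * ((p : ℤ) * (c * t * ((j : ℤ) - c))) := by
    have h2 : (D : ℤ) ∣ (e : ℤ) * ((n : ℤ) * p + 1) := by exact_mod_cast Int.natCast_dvd_natCast.2 hdvd
    have h3 := dvd_add h2 (dvd_mul_right (D : ℤ) (-(e : ℤ) * t + (p : ℤ) * t * ((j : ℤ) - c)))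
    rwa [show (e : ℤ) * ((n : ℤ) * p + 1) + (D : ℤ) * (-(e : ℤ) * t + (p : ℤ) * t * ((j : ℤ) - c)) =
      (p : ℤ) * ((p : ℤ) * (c * t * ((j : ℤ) - c))) by
        rw [hDz]; linear_combination ((e : ℤ) * p) * hnz + ((e : ℤ) - c * p * 0) * hpz] at h3
  have hco : IsCoprime (D : ℤ) (p : ℤ) := by
    rw [Int.isCoprime_iff_nat_coprime]
    simp only [Int.natAbs_natCast]
    refine (hp.coprime_iff_not_dvd.2 fun h => ?_).symm
    rw [hD] at h
    have h4 : p ∣ e := by
      have h5 := Nat.dvd_sub (dvd_mul_left p c) h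
      rwa [Nat.sub_sub_self (by omega)] at h5
    have := Nat.le_of_dvd (by omega) h4
    omega
  obtain ⟨k, hk⟩ := hco.dvd_of_dvd_mul_left (hco.dvd_of_dvd_mul_left h1)
  rcases lt_trichotomy c j with hlt | heq | hgt
  · exfalso
    refine hF (fform_of_int (h := k) (u := (c : ℤ) * t - 1) ?_ ?_ ?_)
    · by_contra hk0
      have h6 : (D : ℤ) * k ≤ 0 := mul_nonpos_of_nonneg_of_nonpos (by omega) (by omega)
      have h7 : (0 : ℤ) < c * t * ((j : ℤ) - c) :=
        mul_pos (mul_pos (by omega) (by omega)) (by omega)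
      linarith
    · by_contra h
      have h8 : c * t ≤ 1 := by
        have : ((c * t : ℕ) : ℤ) ≤ 1 := by push_cast; omega
        exact_mod_cast this
      have h9 : c * t = 1 := le_antisymm h8 (Nat.mul_pos hc ht)
      obtain ⟨rfl, rfl⟩ := mul_eq_one.1 h9
      omega
    · have e1 : ((c : ℤ) * t - 1) * p + 1 = t * D := by rw [hDz]; linear_combination hpz
      linear_combination ((c : ℤ) * t) * hnz + (t : ℤ) * hk - k * e1
  · exact heq
  · exfalso
    have hk1 : k ≤ -1 := by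
      by_contra hk0
      have h6 : (0 : ℤ) ≤ (D : ℤ) * k := mul_nonneg (by omega) (by omega)
      have h7 : (c : ℤ) * t * ((j : ℤ) - c) < 0 :=
        mul_neg_of_pos_of_neg (mul_pos (by omega) (by omega)) (by omega)
      linarith
    have h6 : (D : ℤ) * k ≤ (D : ℤ) * -1 := mul_le_mul_of_nonneg_left hk1 (by omega)
    rw [← hk, hDz] at h6
    have h8 : (1 : ℤ) ≤ (c : ℤ) * t := by exact_mod_cast Nat.mul_pos hc ht
    have h9 : (c : ℤ) + 1 ≤ e := by exact_mod_cast hce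
    have h10 : (0 : ℤ) ≤ ((c : ℤ) * t - 1) * ((e : ℤ) - c) := mul_nonneg (by omega) (by omega)
    have hj : 1 ≤ j := by
      rcases Nat.eq_zero_or_pos j with rfl | h
      · simp at hnj
      · exact h
    have h11 : (0 : ℤ) < (c : ℤ) * t * j := mul_pos (by omega) (by omega)
    nlinarith [mul_pos (show (0 : ℤ) < c by omega) (show (0 : ℤ) < 1 by omega)]

set_option maxHeartbeats 800000 in
/-- The degrees when `n` is not exceptional. -/
theorem exists_pre (hperf : commutator G = ⊤) (hS : Setup P e) (he : 2 ≤ e)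
    (hcore : ∀ K : Subgroup G, K.Normal → ¬ p ∣ Nat.card K → K = ⊥) (D : BlockData P e) {n v : ℕ}
    (hn : 0 < n) (hidx : (Subgroup.normalizer (P : Set G)).index = n * p + 1)
    (hC : Nat.card (Subgroup.centralizer (P : Set G)) = p * v)
    (hG : Nat.card G = (n * p + 1) * (e * (p * v)))
    (hcx : ∀ x ∈ (P : Subgroup G), x ≠ 1 →
      (Subgroup.centralizer ({x} : Set G)).index = e * (n * p + 1))
    (hF : ¬ FForm p n) :
    ∃ t j A c : ℕ, Pre D n t A c ∧ n + 1 = j * t ∧ (c = 0 ∨ c = j) := by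
  classical
  have hp : p.Prime := Fact.out
  obtain ⟨θ₀, hθX, ha0, hd0⟩ := D.exists_minus hperf hS he hn hF hcx
  have hCP := D.cent_eq hS hcore hθX ha0 hd0
  have hv1 : v = 1 := by
    rw [hCP, hS.card] at hC
    exact (Nat.eq_of_mul_eq_mul_left hp.pos (hC.symm.trans (mul_one p).symm))
  subst hv1
  have hcardG : Nat.card G = p * e * (n * p + 1) := by rw [hG]; ring
  obtain ⟨hedvd, -⟩ := hS.exists_y
  obtain ⟨t, ht⟩ := hedvd
  have hp1 : e * t + 1 = p := by have := hp.one_lt; omega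
  have ht0 : 0 < t := by
    rcases Nat.eq_zero_or_pos t with rfl | h
    · simp at hp1; exact absurd hp1 hp.one_lt.ne
    · exact h
  have hep : e < p := by have := Nat.le_mul_of_pos_right e ht0; omega
  have hdeg : ∀ χ ∈ D.X, χ ≠ Blocks.triv G →
      (D.a χ = 1 ∧ charDegree (χ : G → ℂ) = n * p + 1) ∨
      (D.a χ = -1 ∧ charDegree (χ : G → ℂ) = p - 1) := by
    intro χ h1 h2
    rcases D.degree_cases_gen hperf hS hn hF hcx χ h1 h2 with h | ⟨ha, h | h⟩
    · exact Or.inl h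
    · exact Or.inr ⟨ha, h⟩
    · exfalso
      have h4 : charDegree (χ : G → ℂ) ^ 2 ≤ Nat.card G := by
        rw [← sum_degree_sq]
        exact Finset.single_le_sum (f := fun ψ : IrrCharacter G => charDegree (ψ : G → ℂ) ^ 2)
          (fun _ _ => Nat.zero_le _) (Finset.mem_univ χ)
      rw [h, hcardG, mul_pow, pow_two (n * p + 1), ← mul_assoc] at h4
      have h5 := Nat.le_of_mul_le_mul_right h4 (Nat.succ_pos _)
      have hpe : p * e ≤ p * (p - 1) := Nat.mul_le_mul_left p (by omega)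
      have hN : 2 * p + 1 ≤ (p - 1) ^ 2 * (n * p + 1) → True := fun _ => trivial
      obtain ⟨q, hq⟩ : ∃ q, p = q + 1 := ⟨p - 1, by omega⟩
      rw [show p - 1 = q by omega, hq] at h5 hpe
      have hq2 : 2 ≤ q := by omega
      have h6 : q + 2 ≤ n * (q + 1) + 1 := by
        have := Nat.le_mul_of_pos_left (q + 1) hn
        omega
      have h7 := Nat.mul_le_mul_left (q ^ 2) h6
      nlinarith [Nat.mul_le_mul hq2 (le_refl q)]
  set d : IrrCharacter G → ℕ := fun χ => charDegree (χ : G → ℂ) with hd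
  set Xn := D.X.erase (Blocks.triv G) with hXn
  set A := (Xn.filter fun χ => D.a χ = 1).card with hA
  set B := (Xn.filter fun χ => ¬ D.a χ = 1).card with hB
  have hAB : A + B + 1 = e := by
    rw [hA, hB, Finset.card_filter_add_card_filter_not, hXn,
      Finset.card_erase_of_mem D.triv_mem, D.cardX]
    omega
  have hmA : ∀ χ ∈ Xn.filter (fun χ => D.a χ = 1), D.a χ = 1 ∧ d χ = n * p + 1 := fun χ hχ => by
    obtain ⟨h1, h2⟩ := Finset.mem_filter.1 hχ
    rcases hdeg χ (Finset.mem_of_mem_erase h1) (Finset.ne_of_mem_erase h1) with h | h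
    · exact h
    · rw [h.1] at h2; omega
  have hmB : ∀ χ ∈ Xn.filter (fun χ => ¬ D.a χ = 1), D.a χ = -1 ∧ d χ = p - 1 := fun χ hχ => by
    obtain ⟨h1, h2⟩ := Finset.mem_filter.1 hχ
    rcases hdeg χ (Finset.mem_of_mem_erase h1) (Finset.ne_of_mem_erase h1) with h | h
    · exact absurd h.1 h2
    · exact h
  obtain ⟨η, hη⟩ : D.Y.Nonempty := Finset.card_pos.1 (by
    rw [D.cardY, ht, Nat.mul_div_cancel_left t (show 0 < e by omega)]; exact ht0)
  have hYd : ∀ θ ∈ D.Y, d θ = d η := fun θ hθ => by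
    have h := D.regY θ hθ η hη 1 not_dvd_one_order
    rw [degree_cast, degree_cast] at h
    exact Nat.cast_inj.1 h
  have hdtriv : d (Blocks.triv G) = 1 := Blocks.charDegree_eq (by simp [Blocks.triv])
  set c : ℤ := (B : ℤ) - A * n with hc
  have hABz : (A : ℤ) + B + 1 = e := by exact_mod_cast hAB
  have hrel : D.s * (d η : ℤ) + ((e : ℤ) - c * p) = 0 := by
    have h := D.rel η hη 1 not_dvd_one_order
    have e1 : ∑ χ ∈ Xn.filter (fun χ => D.a χ = 1), (D.a χ : ℂ) * (χ : G → ℂ) 1 =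
        (A : ℂ) * ((n : ℂ) * p + 1) := by
      rw [Finset.sum_congr rfl (g := fun _ => (n : ℂ) * p + 1) (fun χ hχ => by
        rw [degree_cast, (hmA χ hχ).1, show charDegree (χ : G → ℂ) = n * p + 1 from (hmA χ hχ).2]; push_cast; ring), Finset.sum_const, ← hA,
        nsmul_eq_mul]
    have e2 : ∑ χ ∈ Xn.filter (fun χ => ¬ D.a χ = 1), (D.a χ : ℂ) * (χ : G → ℂ) 1 =
        (B : ℂ) * (1 - (p : ℂ)) := by
      rw [Finset.sum_congr rfl (g := fun _ => 1 - (p : ℂ)) (fun χ hχ => by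
        rw [degree_cast, (hmB χ hχ).1, show charDegree (χ : G → ℂ) = p - 1 from (hmB χ hχ).2,
          Nat.cast_sub hp.pos]; push_cast; ring),
        Finset.sum_const, ← hB, nsmul_eq_mul]
    rw [← Finset.add_sum_erase _ _ D.triv_mem, ← hXn,
      ← Finset.sum_filter_add_sum_filter_not Xn (fun χ => D.a χ = 1), e1, e2, D.a_triv,
      degree_cast, degree_cast, show charDegree ((Blocks.triv G : IrrCharacter G) : G → ℂ) = 1
        from hdtriv] at h
    have h' : (D.s : ℂ) * (d η : ℂ) + (1 + (A : ℂ) * ((n : ℂ) * p + 1) - (B : ℂ) * ((p : ℂ) - 1)) = 0 := by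
      push_cast at h ⊢
      linear_combination h
    have h'' : D.s * (d η : ℤ) + (1 + (A : ℤ) * ((n : ℤ) * p + 1) - (B : ℤ) * ((p : ℤ) - 1)) = 0 := by
      exact_mod_cast h'
    rw [hc]
    linear_combination h'' - hABz
  have hDz : (d η : ℤ) ^ 2 = ((e : ℤ) - c * p) ^ 2 := by
    rcases D.s_or with hs | hs <;> rw [hs] at hrel
    · rw [show (d η : ℤ) = -((e : ℤ) - c * p) by linarith]; ring
    · rw [show (d η : ℤ) = ((e : ℤ) - c * p) by linarith]
  have htotal : 1 + A * (n * p + 1) ^ 2 + B * (p - 1) ^ 2 + t * d η ^ 2 +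
      ∑ χ ∈ (D.X ∪ D.Y)ᶜ, d χ ^ 2 = Nat.card G := by
    have e1 : ∑ χ ∈ Xn.filter (fun χ => D.a χ = 1), d χ ^ 2 = A * (n * p + 1) ^ 2 := by
      rw [Finset.sum_congr rfl (g := fun _ => (n * p + 1) ^ 2) (fun χ hχ => by rw [(hmA χ hχ).2]),
        Finset.sum_const, ← hA, smul_eq_mul]
    have e2 : ∑ χ ∈ Xn.filter (fun χ => ¬ D.a χ = 1), d χ ^ 2 = B * (p - 1) ^ 2 := by
      rw [Finset.sum_congr rfl (g := fun _ => (p - 1) ^ 2) (fun χ hχ => by rw [(hmB χ hχ).2]),
        Finset.sum_const, ← hB, smul_eq_mul]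
    have e3 : ∑ χ ∈ D.Y, d χ ^ 2 = t * d η ^ 2 := by
      rw [Finset.sum_congr rfl (g := fun _ => d η ^ 2) (fun χ hχ => by rw [hYd χ hχ]),
        Finset.sum_const, D.cardY, ht, Nat.mul_div_cancel_left t (show 0 < e by omega), smul_eq_mul]
    have e4 := Finset.sum_add_sum_compl (D.X ∪ D.Y) (fun χ => d χ ^ 2)
    rw [Finset.sum_union D.disj, ← Finset.add_sum_erase _ _ D.triv_mem, ← hXn,
      ← Finset.sum_filter_add_sum_filter_not Xn (fun χ => D.a χ = 1), e1, e2, e3, hdtriv] at e4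
    rw [← sum_degree_sq, ← e4]
    ring
  set R := ∑ χ ∈ (D.X ∪ D.Y)ᶜ, d χ ^ 2 with hR
  have hpZ : (e : ℤ) * t + 1 = p := by exact_mod_cast hp1
  have htZ : 1 + (A : ℤ) * ((n : ℤ) * p + 1) ^ 2 + (c + A * n) * ((p : ℤ) - 1) ^ 2 +
      t * ((e : ℤ) - c * p) ^ 2 + (R : ℤ) = (p : ℤ) * e * ((n : ℤ) * p + 1) := by
    rw [hcardG] at htotal
    have h := congrArg (Nat.cast : ℕ → ℤ) htotal
    push_cast [Nat.cast_sub hp.pos] at h
    rw [← hDz, show c + (A : ℤ) * n = B by rw [hc]; ring]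
    linarith
  have hcount : (A : ℤ) * ((n : ℤ) + 1) + c + 1 = e := by rw [hc]; linear_combination hABz
  have hc0 : 0 ≤ c := c_nonneg (Int.natCast_nonneg A) (Int.natCast_nonneg n)
    (by exact_mod_cast ht0) (by exact_mod_cast he) hpZ hcount
    (by linarith [Int.natCast_nonneg R])
  obtain ⟨cN, hcN⟩ : ∃ cN : ℕ, c = cN := ⟨c.toNat, by omega⟩
  obtain ⟨j, hj⟩ : e * t ∣ e * (n + 1) := by
    have h1 := D.degree_dvd hS hcx hθX
    rw [hd0, show p - 1 = e * t by omega] at h1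
    have h2 : e * (n * p + 1) = e * t * (e * n) + e * (n + 1) := by rw [← hp1]; ring
    exact (Nat.dvd_add_right (dvd_mul_right _ _)).1 (h2 ▸ h1)
  rw [mul_assoc] at hj
  have hnj : n + 1 = j * t := by
    rw [Nat.eq_of_mul_eq_mul_left (show 0 < e by omega) hj, mul_comm]
  have hcountN : A * (n + 1) + cN + 1 = e := by
    rw [hcN] at hcount
    exact_mod_cast hcount
  have hDlin : d η ≠ 1 := fun h => by
    have h1 := eq_triv_of_degree_one hperf (χ := η)
      (by rw [degree_cast, show charDegree (η : G → ℂ) = 1 from h, Nat.cast_one])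
    exact Finset.disjoint_right.1 D.disj hη (h1 ▸ D.triv_mem)
  have hdη : d η = if cN = 0 then e else cN * p - e := by
    rw [hcN] at hDz
    split_ifs with h
    · rw [h] at hDz
      have : ((d η ^ 2 : ℕ) : ℤ) = ((e ^ 2 : ℕ) : ℤ) := by push_cast; rw [hDz]; push_cast; ring
      exact Nat.pow_left_injective two_ne_zero (Nat.cast_inj.1 this)
    · have hle : e ≤ cN * p := le_trans hep.le (Nat.le_mul_of_pos_left p (Nat.pos_of_ne_zero h))
      have : ((d η ^ 2 : ℕ) : ℤ) = (((cN * p - e) ^ 2 : ℕ) : ℤ) := by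
        push_cast [Nat.cast_sub hle]; rw [hDz]; ring
      exact Nat.pow_left_injective two_ne_zero (Nat.cast_inj.1 this)
  have hcj : cN = 0 ∨ cN = j := by
    by_cases h : cN = 0
    · exact Or.inl h
    right
    rw [if_neg h] at hdη
    refine c_eq_j hp he hp1 (by omega) (Nat.pos_of_ne_zero h) hnj hF (hdη ▸ hDlin) ?_
    rw [← hdη]
    exact D.degree_Y_dvd hS hcx hη
  refine ⟨t, j, A, cN, ⟨hS, hCP, hn, hp1, he, hcardG, hidx, hcountN,
    fun χ h1 h2 => hdeg χ h1 h2, hA.symm, fun θ hθ => (hYd θ hθ).trans hdη, fun h => ?_, ?_⟩,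
    hnj, hcj⟩
  · have hcj' : cN = j := hcj.resolve_left h
    have hle : e ≤ cN * p := le_trans hep.le (Nat.le_mul_of_pos_left p (Nat.pos_of_ne_zero h))
    have h2 : ((n * p + 1 : ℕ) : ℤ) = ((t * (cN * p - e) : ℕ) : ℤ) := by
      have h3 : (n : ℤ) + 1 = (j : ℤ) * t := by exact_mod_cast hnj
      push_cast [Nat.cast_sub hle]
      rw [hcj']
      linear_combination (p : ℤ) * h3 + hpZ
    exact_mod_cast h2
  · have hgoal : ((R : ℕ) : ℤ) = ((n * p ^ 2 : ℕ) : ℤ) := by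
      push_cast
      have h3 : (n : ℤ) + 1 = (j : ℤ) * t := by exact_mod_cast hnj
      have key : (c : ℤ) * ((t : ℤ) * c - n - 1) = 0 := by
        rcases hcj with h | h <;> rw [hcN, h]
        · simp
        · linear_combination (j : ℤ) * (-h3)
      linear_combination htZ - ((n : ℤ) * p ^ 2 + 1) * hcount - ((e : ℤ) - 2 * c * p) * hpZ -
        (p : ℤ) ^ 2 * key
    exact Nat.cast_inj.1 hgoal

end Cfsg.Agent.Fg24.Brauer
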