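import Cfsg.Agent.SmallOrder.RecogPSL
import Cfsg.Agent.Zassenhaus.PSL
import Cfsg.Agent.Zassenhaus.OddInverted

/-!
# Simple groups of order `p (p ^ 2 - 1) / 2` with `p + 1` Sylow `p`-subgroups
-/

set_option autoImplicit false
set_option linter.unusedSectionVars false

open OnePoint

namespace Cfsg.Agent.Fg24.Brauer.PSL

open Zassenhaus

universe u

variable {p : ℕ} [hp : Fact p.Prime]

theorem card_onePoint : Nat.card (OnePoint (ZMod p)) = p + 1 := by
  show Nat.card (Option (ZMod p)) = p + 1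
  rw [Finite.card_option, Nat.card_zmod]

instance : Finite (OnePoint (ZMod p)) := inferInstanceAs (Finite (Option (ZMod p)))

variable {G : Type u} [Group G] [Finite G] [MulAction G (OnePoint (ZMod p))]

/-- An action by affine maps with square multipliers on the stabilizer of `∞`. -/
structure Act (G : Type u) [Group G] [MulAction G (OnePoint (ZMod p))] (m : ℕ) : Prop where
  faithful : ∀ g : G, (∀ x : OnePoint (ZMod p), g • x = x) → g = 1
  stab : ∀ g : G, g • (∞ : OnePoint (ZMod p)) = ∞ →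
    ∃ a b : ZMod p, a ^ m = 1 ∧ ∀ i : ZMod p, g • (i : OnePoint (ZMod p)) = ((a * i + b : ZMod p) : OnePoint (ZMod p))
  aff : ∀ a b : ZMod p, a ^ m = 1 → ∃ g : G, g • (∞ : OnePoint (ZMod p)) = ∞ ∧
    ∀ i : ZMod p, g • (i : OnePoint (ZMod p)) = ((a * i + b : ZMod p) : OnePoint (ZMod p))
  moves : ∃ g : G, g • (∞ : OnePoint (ZMod p)) ≠ ∞

namespace Act

variable {m : ℕ} (A : Act (p := p) G m)
include A

theorem exists_to_infty (x : OnePoint (ZMod p)) : ∃ g : G, g • x = ∞ := by
  induction x using OnePoint.rec with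
  | infty => exact ⟨1, one_smul _ _⟩
  | coe i =>
    obtain ⟨g, hg⟩ := A.moves
    obtain ⟨c, hc⟩ : ∃ c : ZMod p, g • (∞ : OnePoint (ZMod p)) = (c : OnePoint (ZMod p)) := by
      obtain ⟨o, ho⟩ : ∃ o, g • (∞ : OnePoint (ZMod p)) = o := ⟨_, rfl⟩
      induction o using OnePoint.rec with
      | infty => exact absurd ho hg
      | coe c => exact ⟨c, ho⟩
    obtain ⟨s, -, hs⟩ := A.aff 1 (i - c) (one_pow m)
    refine ⟨(s * g)⁻¹, ?_⟩
    rw [inv_smul_eq_iff, mul_smul, hc, hs, one_mul, add_sub_cancel]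

theorem exists_to_pair {x y : OnePoint (ZMod p)} (hxy : x ≠ y) :
    ∃ g : G, g • x = ∞ ∧ g • y = ((0 : ZMod p) : OnePoint (ZMod p)) := by
  obtain ⟨g, hg⟩ := A.exists_to_infty x
  obtain ⟨o, ho⟩ : ∃ o, g • y = o := ⟨_, rfl⟩
  induction o using OnePoint.rec with
  | infty => exact absurd (MulAction.injective g (hg.trans ho.symm)) hxy
  | coe i =>
    obtain ⟨s, hs0, hs⟩ := A.aff 1 (-i) (one_pow m)
    exact ⟨s * g, by rw [mul_smul, hg, hs0], by rw [mul_smul, ho, hs, one_mul, add_neg_cancel]⟩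

theorem zctx : ZCtx G (OnePoint (ZMod p)) where
  two := by
    intro x y u v hxy huv
    obtain ⟨g, hg1, hg2⟩ := A.exists_to_pair hxy
    obtain ⟨k, hk1, hk2⟩ := A.exists_to_pair huv
    exact ⟨k⁻¹ * g, by rw [mul_smul, hg1, inv_smul_eq_iff, hk1],
      by rw [mul_smul, hg2, inv_smul_eq_iff, hk2]⟩
  three := by
    intro g x y z hxy hyz hxz hx hy hz
    obtain ⟨k, hk1, hk2⟩ := A.exists_to_pair hxy
    have hkx : (k * g * k⁻¹) • (∞ : OnePoint (ZMod p)) = ∞ := by
      rw [← hk1, mul_smul, mul_smul, inv_smul_smul, hx]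
    have hky : (k * g * k⁻¹) • ((0 : ZMod p) : OnePoint (ZMod p)) = ((0 : ZMod p) : OnePoint (ZMod p)) := by
      rw [← hk2, mul_smul, mul_smul, inv_smul_smul, hy]
    obtain ⟨a, b, -, hab⟩ := A.stab _ hkx
    rw [hab, mul_zero, zero_add, coe_eq_coe] at hky
    obtain ⟨o, ho⟩ : ∃ o, k • z = o := ⟨_, rfl⟩
    have hkz : (k * g * k⁻¹) • o = o := by rw [← ho, mul_smul, mul_smul, inv_smul_smul, hz]
    induction o using OnePoint.rec with
    | infty => exact absurd (MulAction.injective k (hk1.trans ho.symm)) hxz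
    | coe i =>
      have hi : i ≠ 0 := fun h => hyz (MulAction.injective k (hk2.trans (h ▸ ho).symm))
      rw [hab, hky, add_zero, coe_eq_coe] at hkz
      have ha : a = 1 := by rwa [mul_eq_right₀ hi] at hkz
      have h1 : k * g * k⁻¹ = 1 := A.faithful _ fun w => by
        induction w using OnePoint.rec with
        | infty => exact hkx
        | coe j => rw [hab, hky, ha, one_mul, add_zero]
      exact conj_eq_one_iff.1 h1

theorem card_twoPt (hG : Nat.card G = p * m * (p + 1)) :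
    Nat.card (twoPt G (∞ : OnePoint (ZMod p)) ((0 : ZMod p) : OnePoint (ZMod p))) = m := by
  classical
  have : MulAction.IsPretransitive G (OnePoint (ZMod p)) := ⟨fun x y => by
    obtain ⟨g, hg⟩ := A.exists_to_infty x
    obtain ⟨k, hk⟩ := A.exists_to_infty y
    exact ⟨k⁻¹ * g, by rw [mul_smul, hg, inv_smul_eq_iff, hk]⟩⟩
  set S := MulAction.stabilizer G (∞ : OnePoint (ZMod p))
  have hidx : S.index = p + 1 := by rw [MulAction.index_stabilizer_of_transitive, card_onePoint]
  choose sh hsh0 hsh using fun b : ZMod p => A.aff 1 b (one_pow m)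
  have hcard : Nat.card S = Nat.card (ZMod p × twoPt G (∞ : OnePoint (ZMod p))
      ((0 : ZMod p) : OnePoint (ZMod p))) := by
    refine (Nat.card_eq_of_bijective (fun q : ZMod p × twoPt G (∞ : OnePoint (ZMod p))
      ((0 : ZMod p) : OnePoint (ZMod p)) => (⟨sh q.1 * q.2, mul_mem (show sh q.1 ∈ S from hsh0 q.1) q.2.2.1⟩ : S))
      ⟨fun q q' h => ?_, fun g => ?_⟩).symm
    · have h' : sh q.1 * (q.2 : G) = sh q'.1 * (q'.2 : G) := congrArg Subtype.val h
      have h1 : q.1 = q'.1 := by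
        have h2 := congrArg (fun x : G => x • ((0 : ZMod p) : OnePoint (ZMod p))) h'
        simp only [mul_smul] at h2
        rw [show (q.2 : G) • ((0 : ZMod p) : OnePoint (ZMod p)) = _ from q.2.2.2,
          show (q'.2 : G) • ((0 : ZMod p) : OnePoint (ZMod p)) = _ from q'.2.2.2, hsh, hsh,
          coe_eq_coe] at h2
        simpa using h2
      rw [h1] at h'
      exact Prod.ext h1 (Subtype.ext (mul_left_cancel h'))
    · obtain ⟨a, b, -, hg⟩ := A.stab g g.2
      refine ⟨(b, ⟨(sh b)⁻¹ * g, ?_, ?_⟩), Subtype.ext (mul_inv_cancel_left _ _)⟩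
      · show (sh b)⁻¹ * (g : G) ∈ S
        exact mul_mem (inv_mem (show sh b ∈ S from hsh0 b)) g.2
      · show ((sh b)⁻¹ * (g : G)) • ((0 : ZMod p) : OnePoint (ZMod p)) = _
        rw [mul_smul, hg, inv_smul_eq_iff, hsh]
        simp
  rw [Nat.card_prod, Nat.card_zmod] at hcard
  have h := Subgroup.index_mul_card S
  rw [hidx, hcard, hG, mul_comm (p * m)] at h
  exact Nat.eq_of_mul_eq_mul_left hp.out.pos (Nat.eq_of_mul_eq_mul_left (Nat.succ_pos p) h)

/-- The case of an odd two-point stabilizer. -/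
theorem iso_of_odd [IsSimpleGroup G] (hm : 2 * m + 1 = p) (hodd : Odd m) (hm2 : 2 ≤ m)
    (hG : Nat.card G = p * m * (p + 1)) :
    Nonempty (G ≃* Matrix.ProjectiveSpecialLinearGroup (Fin 2) (ZMod p)) := by
  classical
  have C := A.zctx
  have h3 : 3 ≤ Nat.card (OnePoint (ZMod p)) := by rw [card_onePoint]; omega
  set z0 : OnePoint (ZMod p) := ((0 : ZMod p) : OnePoint (ZMod p)) with hz0
  have hne : (∞ : OnePoint (ZMod p)) ≠ z0 := (coe_ne_infty _).symm
  have hD := A.card_twoPt hG
  have hoddD : Odd (Nat.card (twoPt G (∞ : OnePoint (ZMod p)) z0)) := by rw [hD]; exact hodd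
  obtain ⟨-, -, hinv⟩ := C.twoPt_inverted_odd h3 hne hoddD
    (fun h => by rw [h, Subgroup.card_bot] at hD; omega) fun q hq hqd => by
      rintro ⟨N, hN, hidx⟩
      rw [hD] at hqd
      have hqp : q < p := lt_of_le_of_lt (Nat.le_of_dvd (by omega) hqd) (by omega)
      have hpG : p ∣ Nat.card G := ⟨m * (p + 1), by rw [hG]; ring⟩
      rcases hN.eq_bot_or_eq_top with rfl | rfl
      · rw [Subgroup.index_bot] at hidx
        rw [hidx] at hpG
        exact hqp.ne' ((Nat.prime_dvd_prime_iff_eq hp.out hq).1 (hp.out.dvd_of_dvd_pow hpG))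
      · rw [Subgroup.index_top, eq_comm, Nat.pow_eq_one] at hidx
        rcases hidx with h | h
        · exact hq.ne_one h
        · have hqG : q ∣ Nat.card G := by rw [hG]; exact (hqd.mul_left p).mul_right _
          have := hq.factorization_pos_of_dvd Nat.card_pos.ne' hqG
          omega
  obtain ⟨s, hs1, hs2⟩ := C.two hne hne.symm
  have hss : s * s = 1 := by
    have hmem : s * s ∈ twoPt G (∞ : OnePoint (ZMod p)) z0 :=
      ⟨by show (s * s) • (∞ : OnePoint (ZMod p)) = _; rw [mul_smul, hs1, hs2],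
        by show (s * s) • z0 = _; rw [mul_smul, hs2, hs1]⟩
    have h := hinv s hs1 hs2 _ hmem
    rw [show s * (s * s) * s⁻¹ = s * s by group] at h
    refine eq_one_of_sq (g := s * s) ?_ (by nth_rewrite 1 [h]; rw [inv_mul_cancel])
    refine hoddD.of_dvd_nat ?_
    have := orderOf_dvd_natCard (⟨_, hmem⟩ : twoPt G (∞ : OnePoint (ZMod p)) z0)
    rwa [← Subgroup.orderOf_coe] at this
  have hs1' : s ≠ 1 := fun h => hne (by rw [← hs1, h, one_smul])
  have hfree : ∀ x : OnePoint (ZMod p), s • x ≠ x := by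
    intro x hx
    obtain ⟨k, hk⟩ := A.exists_to_infty x
    have : MulAction.IsPretransitive G (OnePoint (ZMod p)) := ⟨fun x y => by
      obtain ⟨g, hg⟩ := A.exists_to_infty x
      obtain ⟨k, hk⟩ := A.exists_to_infty y
      exact ⟨k⁻¹ * g, by rw [mul_smul, hg, inv_smul_eq_iff, hk]⟩⟩
    have h := Subgroup.index_mul_card (MulAction.stabilizer G x)
    rw [MulAction.index_stabilizer_of_transitive, card_onePoint, hG, mul_comm (p * m)] at h
    have h1 : Nat.card (MulAction.stabilizer G x) = p * m := Nat.eq_of_mul_eq_mul_left (by omega) h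
    have h2 := Subgroup.orderOf_dvd_natCard (MulAction.stabilizer G x) hx
    rw [h1] at h2
    have h3 : orderOf s = 2 := orderOf_eq_prime (by rw [pow_two, hss]) hs1'
    rw [h3] at h2
    obtain ⟨j, hj⟩ := hodd
    have h4 : Odd (p * m) := Odd.mul ⟨m, by omega⟩ ⟨j, hj⟩
    exact Nat.not_even_iff_odd.2 h4 (even_iff_two_dvd.2 h2)
  obtain ⟨c, hc⟩ : ∃ c : ZMod p, s • ((1 : ZMod p) : OnePoint (ZMod p)) = (c : OnePoint (ZMod p)) := by
    obtain ⟨o, ho⟩ : ∃ o, s • ((1 : ZMod p) : OnePoint (ZMod p)) = o := ⟨_, rfl⟩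
    induction o using OnePoint.rec with
    | infty =>
      exact absurd (coe_eq_coe.1 (MulAction.injective s (ho.trans hs2.symm))) one_ne_zero
    | coe c => exact ⟨c, ho⟩
  have hc0 : c ≠ 0 := fun h =>
    coe_ne_infty (1 : ZMod p) (MulAction.injective s ((hc.trans (congrArg _ h)).trans hs1.symm))
  have hsq : ∀ a : ZMod p, a ^ m = 1 →
      s • (a : OnePoint (ZMod p)) = ((a⁻¹ * c : ZMod p) : OnePoint (ZMod p)) := by
    intro a ha
    obtain ⟨d, hd0, hd⟩ := A.aff a 0 ha
    have hdD : d ∈ twoPt G (∞ : OnePoint (ZMod p)) z0 :=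
      ⟨hd0, by show d • z0 = z0; rw [hz0, hd]; simp⟩
    have h := hinv s hs1 hs2 d hdD
    have ha0 : a ≠ 0 := fun h => by rw [h, zero_pow (by omega)] at ha; exact zero_ne_one ha
    have h1 : d • ((1 : ZMod p) : OnePoint (ZMod p)) = (a : OnePoint (ZMod p)) := by rw [hd]; simp
    rw [← h1, ← mul_smul, show s * d = d⁻¹ * s by rw [← h]; group, mul_smul, hc, inv_smul_eq_iff,
      hd, add_zero, mul_inv_cancel_left₀ ha0]
  have hcm : c ^ m = -1 := by
    have h1 : (c ^ m) * (c ^ m) = 1 := by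
      rw [← pow_add, show m + m = p - 1 by omega, ZMod.pow_card_sub_one_eq_one hc0]
    rcases mul_self_eq_one_iff.1 h1 with h | h
    · exfalso
      obtain ⟨j, hj⟩ := hodd
      set a := c ^ (j + 1) with ha
      have ha1 : a ^ m = 1 := by rw [ha, ← pow_mul, mul_comm, pow_mul, h, one_pow]
      have ha2 : a * a = c := by
        rw [ha, ← pow_add, show j + 1 + (j + 1) = m + 1 by omega, pow_succ, h, one_mul]
      have ha0 : a ≠ 0 := fun h0 => hc0 (by rw [← ha2, h0, mul_zero])
      refine hfree (a : OnePoint (ZMod p)) ((hsq a ha1).trans ?_)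
      rw [← ha2, inv_mul_cancel_left₀ ha0]
    · exact h
  have hform : ∀ i : ZMod p, i ≠ 0 →
      s • (i : OnePoint (ZMod p)) = ((i⁻¹ * c : ZMod p) : OnePoint (ZMod p)) := by
    intro i hi
    have h1 : (i ^ m) * (i ^ m) = 1 := by
      rw [← pow_add, show m + m = p - 1 by omega, ZMod.pow_card_sub_one_eq_one hi]
    rcases mul_self_eq_one_iff.1 h1 with h | h
    · exact hsq i h
    · have h2 : (i⁻¹ * c) ^ m = 1 := by rw [mul_pow, inv_pow, h, hcm, inv_neg_one]; ring
      have h3 := hsq _ h2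
      rw [mul_inv, inv_inv, mul_assoc, inv_mul_cancel₀ hc0, mul_one] at h3
      rw [← h3, ← mul_smul, hss, one_smul]
  obtain ⟨w, hw, hw0⟩ : ∃ w : ZMod p, w * w = -c ∧ w ≠ 0 := by
    obtain ⟨j, hj⟩ := hodd
    refine ⟨(-c) ^ (j + 1), ?_, pow_ne_zero _ (neg_ne_zero.2 hc0)⟩
    rw [← pow_add, show j + 1 + (j + 1) = m + 1 by omega, pow_succ, neg_pow, hcm,
      Odd.neg_one_pow ⟨j, hj⟩]
    ring
  -- the permutation representations
  let ρ : G →* Equiv.Perm (OnePoint (ZMod p)) := MulAction.toPermHom G _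
  have hρ : Function.Injective ρ := by
    rw [injective_iff_map_eq_one]
    exact fun g hg => A.faithful g fun x => Equiv.congr_fun hg x
  set M : Matrix.SpecialLinearGroup (Fin 2) (ZMod p) :=
    ⟨!![0, -w; w⁻¹, 0], by rw [Matrix.det_fin_two_of]; field_simp; ring⟩ with hM
  have hρs : ρ s = Mobius.rep (ZMod p) M := by
    refine Equiv.ext fun z => ?_
    show s • z = _
    induction z using OnePoint.rec with
    | infty => rw [hs1, Mobius.rep_infty, hM]; simp [hw0, hz0]
    | coe i =>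
      by_cases hi : i = 0
      · subst hi; rw [← hz0, hs2, hz0, Mobius.rep_coe, hM]; simp
      · rw [hform i hi, Mobius.rep_coe, hM]
        simp [hi, hw0]
        field_simp
        linear_combination hw
  have hT : ∀ b : ZMod p, ∀ g : G, (g • (∞ : OnePoint (ZMod p)) = ∞) →
      (∀ i : ZMod p, g • (i : OnePoint (ZMod p)) = ((1 * i + b : ZMod p) : OnePoint (ZMod p))) →
      ρ g = Mobius.rep (ZMod p) (Mobius.trans b) := fun b g h1 h2 => by
    refine Equiv.ext fun z => ?_
    show g • z = _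
    induction z using OnePoint.rec with
    | infty => rw [h1, Mobius.trans_infty]
    | coe i => rw [h2, Mobius.trans_coe, one_mul]
  have hle : ∀ g : G, g • (∞ : OnePoint (ZMod p)) = ∞ → ρ g ∈ (Mobius.rep (ZMod p)).range := by
    intro g hg
    obtain ⟨a, b, ha, hab⟩ := A.stab g hg
    obtain ⟨j, hj⟩ := hodd
    have hl : a ^ (j + 1) ≠ 0 := pow_ne_zero _ fun h => by
      rw [h, zero_pow (by omega)] at ha; exact zero_ne_one ha
    refine ⟨Mobius.trans b * Mobius.dil (a ^ (j + 1)) hl, Equiv.ext fun z => ?_⟩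
    show _ = g • z
    rw [map_mul, Equiv.Perm.mul_apply]
    induction z using OnePoint.rec with
    | infty => rw [Mobius.dil_infty, Mobius.trans_infty, hg]
    | coe i =>
      rw [Mobius.dil_coe, Mobius.trans_coe, hab, ← pow_add,
        show j + 1 + (j + 1) = m + 1 by omega, pow_succ, ha, one_mul]
  have hge : ∀ N : Matrix.SpecialLinearGroup (Fin 2) (ZMod p),
      Mobius.rep (ZMod p) N ∞ = ∞ → Mobius.rep (ZMod p) N ∈ ρ.range := by
    intro N hN
    obtain ⟨b, l, hl, rfl⟩ := Mobius.eq_of_fix_infty N hN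
    obtain ⟨g, hg0, hg⟩ := A.aff (l * l) b (by
      rw [← pow_two, ← pow_mul, show 2 * m = p - 1 by omega,
        ZMod.pow_card_sub_one_eq_one hl])
    refine ⟨g, Equiv.ext fun z => ?_⟩
    show g • z = _
    rw [map_mul, Equiv.Perm.mul_apply]
    induction z using OnePoint.rec with
    | infty => rw [Mobius.dil_infty, Mobius.trans_infty, hg0]
    | coe i => rw [Mobius.dil_coe, Mobius.trans_coe, hg]
  have hrange : ρ.range = (Mobius.rep (ZMod p)).range := by
    refine le_antisymm ?_ ?_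
    · rintro _ ⟨g, rfl⟩
      by_cases hg : g • (∞ : OnePoint (ZMod p)) = ∞
      · exact hle g hg
      obtain ⟨x, hx⟩ : ∃ x : ZMod p, g • (∞ : OnePoint (ZMod p)) = (x : OnePoint (ZMod p)) := by
        obtain ⟨o, ho⟩ : ∃ o, g • (∞ : OnePoint (ZMod p)) = o := ⟨_, rfl⟩
        induction o using OnePoint.rec with
        | infty => exact absurd ho hg
        | coe x => exact ⟨x, ho⟩
      obtain ⟨d, hd0, hd⟩ := A.aff 1 (-x) (one_pow m)
      have h1 : ρ (s * d) ∈ (Mobius.rep (ZMod p)).range := by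
        rw [map_mul, hρs, hT _ d hd0 hd, ← map_mul]
        exact ⟨_, rfl⟩
      have h2 := hle (s * d * g) (by
        rw [mul_smul, mul_smul, hx, hd, one_mul, add_neg_cancel, ← hz0, hs2])
      rw [map_mul] at h2
      have h3 := mul_mem (inv_mem h1) h2
      rwa [inv_mul_cancel_left] at h3
    · rintro _ ⟨N, rfl⟩
      by_cases hN : Mobius.rep (ZMod p) N ∞ = ∞
      · exact hge N hN
      obtain ⟨x, hx⟩ : ∃ x : ZMod p, Mobius.rep (ZMod p) N ∞ = (x : OnePoint (ZMod p)) := by
        obtain ⟨o, ho⟩ : ∃ o, Mobius.rep (ZMod p) N ∞ = o := ⟨_, rfl⟩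
        induction o using OnePoint.rec with
        | infty => exact absurd ho hN
        | coe x => exact ⟨x, ho⟩
      obtain ⟨d, hd0, hd⟩ := A.aff 1 (-x) (one_pow m)
      have h1 : Mobius.rep (ZMod p) (M * Mobius.trans (-x)) ∈ ρ.range :=
        ⟨s * d, by rw [map_mul, map_mul, hρs, hT _ d hd0 hd]⟩
      have h2 := hge (M * Mobius.trans (-x) * N) (by
        rw [map_mul, map_mul, Equiv.Perm.mul_apply, Equiv.Perm.mul_apply, hx, Mobius.trans_coe,
          add_neg_cancel, ← hρs, ← hz0]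
        exact hs2)
      rw [map_mul] at h2
      have h3 := mul_mem (inv_mem h1) h2
      rwa [inv_mul_cancel_left] at h3
  exact ⟨(MonoidHom.ofInjective hρ).trans ((MulEquiv.subgroupCongr hrange).trans
    ((QuotientGroup.quotientKerEquivRange (Mobius.rep (ZMod p))).symm.trans
      (QuotientGroup.quotientMulEquivOfEq (Mobius.ker_rep (K := ZMod p)))))⟩

end Act

omit [MulAction G (OnePoint (ZMod p))] in
/-- A simple group of order `p m (p + 1)`, `p = 2 m + 1`, with `p + 1` Sylow `p`-subgroups. -/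
theorem recognition [IsSimpleGroup G] {m : ℕ} (hm : 2 * m + 1 = p) (hm2 : 2 ≤ m)
    (hG : Nat.card G = p * m * (p + 1)) (hn : Nat.card (Sylow p G) = p + 1) :
    ∃ (F : Type) (_ : Field F) (_ : Fintype F), Fintype.card F = p ∧
      Nonempty (G ≃* Matrix.ProjectiveSpecialLinearGroup (Fin 2) F) := by
  obtain ⟨f, hfi, hst, haff, σ, hσ, hσ0⟩ := SmallOrder.RecogPSL.exists_rep hm hG hn
  let : MulAction G (OnePoint (ZMod p)) :=
    { smul := fun g x => f g x
      one_smul := fun x => by show f 1 x = x; rw [map_one]; rfl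
      mul_smul := fun g h x => by show f (g * h) x = f g (f h x); rw [map_mul]; rfl }
  have A : Act (p := p) G m :=
    { faithful := fun g hg => hfi (by rw [map_one]; exact Equiv.ext hg)
      stab := fun g hg => hst (f g) ⟨g, rfl⟩ hg
      aff := fun a b ha => by
        obtain ⟨τ, ⟨g, rfl⟩, h1, h2⟩ := haff a b ha
        exact ⟨g, h1, h2⟩
      moves := by
        obtain ⟨g, rfl⟩ := hσ
        exact ⟨g, hσ0⟩ }
  have h3 : 3 ≤ Nat.card (OnePoint (ZMod p)) := by rw [card_onePoint]; omega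
  by_cases heven : Even m
  · have hne : (∞ : OnePoint (ZMod p)) ≠ ((0 : ZMod p) : OnePoint (ZMod p)) := (coe_ne_infty _).symm
    obtain ⟨q, k, K, iK, iFK, -, -, hcard, hΩ, he⟩ := A.zctx.identify h3 hne
      (by rw [A.card_twoPt hG]; exact heven) (by rw [A.card_twoPt hG, card_onePoint]; omega)
    rw [card_onePoint] at hΩ
    exact ⟨K, iK, iFK, by omega, he⟩
  · exact ⟨ZMod p, inferInstance, inferInstance, ZMod.card p,
      A.iso_of_odd hm (Nat.not_even_iff_odd.1 heven) hm2 hG⟩

end Cfsg.Agent.Fg24.Brauer.PSL
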