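import Cfsg.Agent.Fg24.Brauer.Index
import Cfsg.Agent.Fg24.Brauer.PSL
import Cfsg.Agent.S4706

/-!
# Perfect groups of order less than `p ^ 3` (Brauer–Reynolds)
-/

set_option autoImplicit false

open Cfsg

namespace Cfsg.Agent.Fg24.Brauer

universe u

/-- The possible groups. -/
def Conclusion (p : ℕ) (G : Type u) [Group G] : Prop :=
  (∃ (F : Type) (_ : Field F) (_ : Fintype F), Fintype.card F = p ∧ 3 < p ∧
      Nonempty (G ≃* Matrix.ProjectiveSpecialLinearGroup (Fin 2) F)) ∨
    ∃ (m : ℕ) (F : Type) (_ : Field F) (_ : Fintype F), Fintype.card F = 2 ^ m ∧ p = 2 ^ m + 1 ∧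
      3 < p ∧ Nonempty (G ≃* Matrix.SpecialLinearGroup (Fin 2) F)

variable {G : Type u} [Group G] [Finite G] {p : ℕ} [Fact p.Prime]

/-- The groups in the main case. -/
theorem of_main [Fintype G] (hperf : commutator G = ⊤) {P : Sylow p G} {e : ℕ} (he : 2 ≤ e)
    (hcore : ∀ K : Subgroup G, K.Normal → ¬ p ∣ Nat.card K → K = ⊥) {D : BlockData P e}
    {n t A c : ℕ} (H : Main D n t A c) :
    Conclusion p G ∧ IsSimpleGroup G ∧ p * ((p - 1) * (p + 1)) ≤ Nat.card G * 2 := by
  classical
  have hsimp : IsSimpleGroup G := isSimpleGroup hperf H.setup H.cent hcore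
  have hn : Nat.card (Sylow p G) = n * p + 1 := P.card_eq_index_normalizer.trans H.index
  have hG := H.card
  have het := H.et
  have h2 := Nat.mul_le_mul H.two_le_e H.two_le
  have hp3 : 3 < p := by omega
  by_cases ht : t = 2
  · subst ht
    have hn1 : n = 1 := by have := H.t_eq; omega
    subst hn1
    rw [one_mul] at hn hG
    obtain ⟨F, iF, iFF, hF, hiso⟩ := PSL.recognition (G := G) (show 2 * e + 1 = p by omega) he hG hn
    refine ⟨Or.inl ⟨F, iF, iFF, hF, hp3, hiso⟩, hsimp, ?_⟩
    rw [hG, mul_assoc, mul_assoc]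
    refine Nat.mul_le_mul_left p ?_
    rw [← het, show e * 2 + 1 - 1 = e * 2 by omega]
    exact le_of_eq (by ring)
  have ht3 : 3 ≤ t := by have := H.two_le; omega
  have : NeZero e := ⟨by omega⟩
  obtain ⟨F⟩ := exists_frame H.setup H.cent
  obtain ⟨he2, a, hpa, K, hK⟩ := H.exists_index F ht3
  refine ⟨?_, hsimp, ?_⟩
  swap
  · subst he2
    have hn' : n * p + 1 = t * (p - 2) := H.np_eq
    rw [hG, hn']
    calc p * ((p - 1) * (p + 1)) ≤ p * ((p - 1) * (2 * (p - 2))) :=
          Nat.mul_le_mul_left _ (Nat.mul_le_mul_left _ (by omega))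
      _ = _ := by rw [show p - 1 = 2 * t by omega]; ring
  have hα : Fintype.card (G ⧸ K) = p := by
    rw [← Nat.card_eq_fintype_card, ← Subgroup.index_eq_card, hK]
  let ρ : G →* Equiv.Perm (G ⧸ K) := MulAction.toPermHom G (G ⧸ K)
  have hρ : Function.Injective ρ := by
    rw [← MonoidHom.ker_eq_bot_iff]
    rcases (inferInstance : ρ.ker.Normal).eq_bot_or_eq_top with h | h
    · exact h
    exfalso
    have hK1 : K = ⊤ := by
      refine eq_top_iff.2 fun g _ => ?_
      have h1 : ρ g ((1 : G) : G ⧸ K) = ((1 : G) : G ⧸ K) := by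
        rw [MonoidHom.mem_ker.1 (h ▸ Subgroup.mem_top g : g ∈ ρ.ker)]; rfl
      change ((g * 1 : G) : G ⧸ K) = ((1 : G) : G ⧸ K) at h1
      rw [mul_one, QuotientGroup.eq, mul_one] at h1
      exact inv_mem_iff.1 h1
    rw [hK1, Subgroup.index_top] at hK
    omega
  let φ : G ≃* ρ.range := MonoidHom.ofInjective hρ
  obtain ⟨P'⟩ : Nonempty (Sylow p ρ.range) := inferInstance
  obtain ⟨P₀, hP₀⟩ : ∃ P₀ : Sylow p G, Nat.card (Sylow p ρ.range) = Nat.card (Sylow p G) := by
    refine ⟨P, le_antisymm ?_ ?_⟩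
    · exact Nat.card_le_card_of_injective
        (fun Q : Sylow p ρ.range => Q.comapOfInjective φ.toMonoidHom φ.injective (fun x _ =>
          MonoidHom.mem_range.2 (φ.surjective x)))
        fun Q R h => by
          refine Sylow.ext (Subgroup.comap_injective (f := φ.toMonoidHom) φ.surjective ?_)
          exact congrArg (fun T : Sylow p G => (T : Subgroup G)) h
    · exact Nat.card_le_card_of_injective
        (fun Q : Sylow p G => Q.comapOfInjective φ.symm.toMonoidHom φ.symm.injective (fun x _ =>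
          MonoidHom.mem_range.2 (φ.symm.surjective x)))
        fun Q R h => by
          refine Sylow.ext (Subgroup.comap_injective (f := φ.symm.toMonoidHom) φ.symm.surjective ?_)
          exact congrArg (fun T : Sylow p ρ.range => (T : Subgroup ρ.range)) h
  have hN : Nat.card (Subgroup.normalizer ((P' : Subgroup ρ.range) : Set ρ.range)) = 2 * p := by
    have h := SmallOrder.card_sylow_mul_card_normalizer P'
    rw [hP₀, hn, ← Nat.card_congr φ.toEquiv, hG] at h
    refine Nat.eq_of_mul_eq_mul_left (show 0 < n * p + 1 by omega) (h.trans ?_)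
    rw [he2]; ring
  rcases Cfsg.Agent.S4706.result (by omega) hα ρ.range P' hN with hn' | ⟨b, F, iF, iFF, hpb, hF, ⟨ψ⟩⟩
  · exfalso
    have h := P'.card_eq_index_normalizer
    rw [show Subgroup.normalizer (P' : Set ρ.range) = ⊤ from Subgroup.normalizer_eq_top_iff.2 hn',
      Subgroup.index_top, hP₀, hn, Nat.add_eq_right] at h
    rcases mul_eq_zero.1 h with h | h
    · have := H.t_eq; omega
    · omega
  · exact Or.inr ⟨b, F, iF, iFF, hF, hpb, hp3, ⟨φ.trans ψ⟩⟩

/-- The main theorem when `G` has no nontrivial normal `p'`-subgroup. -/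
theorem core_case (hperf : commutator G = ⊤) (P : Sylow p G)
    (hP : Nat.card (P : Subgroup G) = p) (hbig : Nat.card G < p ^ 3)
    (hcore : ∀ K : Subgroup G, K.Normal → ¬ p ∣ Nat.card K → K = ⊥) :
    Conclusion p G ∧ IsSimpleGroup G ∧ p * ((p - 1) * (p + 1)) ≤ Nat.card G * 2 := by
  classical
  have := Fintype.ofFinite G
  obtain ⟨e, hS, he, hnn⟩ := exists_setup hperf P hP
  obtain ⟨D⟩ := exists_blockData hS he
  obtain ⟨n, t, A, c, H⟩ := exists_main hperf hS he hnn hbig hcore D
  exact of_main hperf he hcore H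

/-- Perfect groups of order less than `p ^ 3` with a Sylow subgroup that is not normal. -/
theorem perfect_case (hperf : commutator G = ⊤) (hbig : Nat.card G < p ^ 3)
    (hdvd : p ∣ Nat.card G) (P : Sylow p G) (hP : ¬ (P : Subgroup G).Normal)
    (h2 : ∀ N : Subgroup G, N.Normal → Nat.card N ≠ 2) : Conclusion p G := by
  classical
  have hp : p.Prime := Fact.out
  have hPc : Nat.card (P : Subgroup G) = p := by
    obtain ⟨k, hk⟩ := IsPGroup.iff_card.1 P.isPGroup'
    have h1 : p ∣ Nat.card (P : Subgroup G) := P.dvd_card_of_dvd_card hdvd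
    have hk1 : 1 ≤ k := by
      rcases Nat.eq_zero_or_pos k with rfl | h
      · rw [pow_zero] at hk; rw [hk] at h1; exact absurd h1 hp.not_dvd_one
      · exact h
    have hn1 : Nat.card (Sylow p G) ≠ 1 := fun h => hP (Subgroup.normalizer_eq_top_iff.1
      (Subgroup.index_eq_one.1 (P.card_eq_index_normalizer.symm.trans h)))
    have hn : p + 1 ≤ Nat.card (Sylow p G) := by
      have h3 : Nat.card (Sylow p G) % p = 1 := by
        rw [card_sylow_modEq_one p G, Nat.mod_eq_of_lt hp.one_lt]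
      have h4 := Nat.div_add_mod (Nat.card (Sylow p G)) p
      rcases Nat.eq_zero_or_pos (Nat.card (Sylow p G) / p) with h | h
      · rw [h, mul_zero] at h4; omega
      · have := Nat.le_mul_of_pos_right p h
        omega
    have hk2 : k < 2 := by
      by_contra hk2
      have h3 := SmallOrder.card_sylow_mul_card_normalizer P
      have h4 : p ^ 2 ≤ Nat.card (Subgroup.normalizer ((P : Subgroup G) : Set G)) :=
        ((Nat.pow_le_pow_right hp.pos (Nat.le_of_not_lt hk2)).trans hk.ge).trans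
          (Subgroup.card_le_of_le Subgroup.le_normalizer)
      have h5 := Nat.mul_le_mul hn h4
      rw [h3] at h5
      rw [pow_succ] at hbig
      nlinarith
    rw [hk, show k = 1 by omega, pow_one]
  set K := Cfsg.pPrimeCore p G
  have hKd : ¬ p ∣ Nat.card K := Core.not_dvd_card_pPrimeCore
  have hperf' : commutator (G ⧸ K) = ⊤ := by
    rw [commutator_def, ← Subgroup.map_top_of_surjective (QuotientGroup.mk' K)
      (QuotientGroup.mk'_surjective K), ← Subgroup.map_commutator, ← commutator_def, hperf]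
  have hmul : Nat.card (G ⧸ K) * Nat.card K = Nat.card G := by
    rw [← Subgroup.index_eq_card, Subgroup.index_mul_card]
  have hbig' : Nat.card (G ⧸ K) < p ^ 3 :=
    lt_of_le_of_lt (hmul ▸ Nat.le_mul_of_pos_right _ Nat.card_pos) hbig
  obtain ⟨Q⟩ : Nonempty (Sylow p (G ⧸ K)) := inferInstance
  have hQc : Nat.card (Q : Subgroup (G ⧸ K)) = p := by
    rw [Q.card_eq_multiplicity]
    have h1 := P.card_eq_multiplicity
    rw [hPc, ← hmul, Nat.factorization_mul Nat.card_pos.ne' Nat.card_pos.ne', Finsupp.add_apply,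
      Nat.factorization_eq_zero_of_not_dvd hKd, add_zero] at h1
    exact h1.symm
  have hcore : ∀ L : Subgroup (G ⧸ K), L.Normal → ¬ p ∣ Nat.card L → L = ⊥ := by
    intro L hL hd
    have h1 : L ≤ Cfsg.pPrimeCore p (G ⧸ K) :=
      Core.le_pPrimeCore ((hp.coprime_iff_not_dvd.2 hd).symm)
    rwa [Core.pPrimeCore_quotient_eq_bot, le_bot_iff] at h1
  obtain ⟨hconc, -, hlow⟩ := core_case hperf' Q hQc hbig' hcore
  have hp3 : 3 < p := by
    rcases hconc with ⟨_, _, _, -, h, -⟩ | ⟨_, _, _, _, -, -, h, -⟩ <;> exact h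
  have hp5 : 5 ≤ p := by
    by_contra h
    rw [show p = 4 by omega] at hp
    norm_num at hp
  have hK : Nat.card K = 1 := by
    have hK2 : Nat.card K ≠ 2 := h2 K inferInstance
    by_contra hK1
    have hK0 : 0 < Nat.card K := Nat.card_pos
    have h3 : 3 ≤ Nat.card K := by omega
    have h4 := Nat.mul_le_mul hlow h3
    have h5 : Nat.card (G ⧸ K) * 2 * Nat.card K = 2 * Nat.card G := by rw [← hmul]; ring
    rw [h5] at h4
    obtain ⟨q, hq⟩ : ∃ q, p = q + 1 := ⟨p - 1, by omega⟩
    rw [show p - 1 = q by omega] at h4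
    rw [hq] at h4 hbig
    have h6 : (q + 1) * (q * (q + 2) * 3) < (q + 1) * (2 * (q + 1) ^ 2) := by
      have e1 : (q + 1) * (q * (q + 2) * 3) = (q + 1) * (q * (q + 1 + 1)) * 3 := by ring
      have e2 : (q + 1) * (2 * (q + 1) ^ 2) = 2 * (q + 1) ^ 3 := by ring
      omega
    have h7 := Nat.lt_of_mul_lt_mul_left h6
    have h8 : 4 ≤ q := by omega
    nlinarith
  have hbot : K = ⊥ := Subgroup.card_eq_one.1 hK
  let φ : G ≃* G ⧸ K := (QuotientGroup.quotientBot (G := G)).symm.trans
    (QuotientGroup.quotientMulEquivOfEq hbot.symm)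
  rcases hconc with ⟨F, iF, iFF, h1, h3, ⟨ψ⟩⟩ | ⟨m, F, iF, iFF, h1, h3, h4, ⟨ψ⟩⟩
  · exact Or.inl ⟨F, iF, iFF, h1, h3, ⟨φ.trans ψ⟩⟩
  · exact Or.inr ⟨m, F, iF, iFF, h1, h3, h4, ⟨φ.trans ψ⟩⟩

end Cfsg.Agent.Fg24.Brauer
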