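import Cfsg.Agent.Fg24.Brauer.Involution
import Cfsg.Agent.Fg24.Brauer.General

/-!
# Exclusion of `t = 1` and of `j ≥ 2`
-/

set_option autoImplicit false
set_option linter.unusedSectionVars false

open Cfsg

namespace Cfsg.Agent.Fg24.Brauer

universe u

/-- In a perfect group the restriction of a character to a cyclic subgroup of even order `e` is
not the regular character. -/
theorem not_regular_of_perfect {G : Type u} [Group G] [Fintype G] (hperf : commutator G = ⊤)
    {y : G} {e : ℕ} (hy : orderOf y = e) (he : Even e) {χ : G → ℂ} (hχ : IsCharacter G χ)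
    (h1 : χ 1 = e) : ∃ m : ℕ, 0 < m ∧ m < e ∧ χ (y ^ m) ≠ 0 := by
  classical
  by_contra hno
  push Not at hno
  obtain ⟨d, ρ, rfl⟩ := hχ
  have hd : d = e := by
    rw [ρ.char_one, Module.finrank_fin_fun] at h1
    exact_mod_cast h1
  subst hd
  have hd0 : 0 < d := hy ▸ orderOf_pos y
  have hyd : (ρ y) ^ d = 1 := by
    rw [← map_pow, orderOf_dvd_iff_pow_eq_one.1 hy.dvd, map_one]
  obtain ⟨ι, hι, b, μ, hb, hμ⟩ : ∃ (ι : Type) (_ : Fintype ι)
      (b : Module.Basis ι ℂ (Fin d → ℂ)) (μ : ι → ℂ),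
      (∀ i, ρ y (b i) = μ i • b i) ∧ ∀ i, μ i ^ d = 1 := by
    obtain ⟨μ, b, hb, hμ⟩ := Char.exists_eigenbasis_of_pow_eq_one (ρ y) hd0.ne' hyd
    exact ⟨_, inferInstance, b, μ, hb, hμ⟩
  have hpow : ∀ (m : ℕ) (i : ι), (ρ (y ^ m)) (b i) = μ i ^ m • b i := by
    intro m i
    induction m with
    | zero => simp
    | succ m ih => rw [pow_succ', map_mul, Module.End.mul_apply, ih, map_smul, hb, smul_smul,
        pow_succ]
  have htr : ∀ m : ℕ, ρ.character (y ^ m) = ∑ i, μ i ^ m := fun m =>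
    Char.trace_eq_sum_of_eigenbasis (ρ (y ^ m)) b _ (hpow m)
  have hne : ∀ i, μ i ≠ 0 := fun i h => by
    have := hμ i
    rw [h, zero_pow hd0.ne'] at this
    exact zero_ne_one this
  set ζ := Complex.exp (2 * Real.pi * Complex.I / d) with hζdef
  have hζ : IsPrimitiveRoot ζ d := Complex.isPrimitiveRoot_exp d hd0.ne'
  have : NeZero d := ⟨hd0.ne'⟩
  have hex : ∀ i, ∃ k : Fin d, ζ ^ (k : ℕ) = μ i := fun i => by
    obtain ⟨k, hk, hk'⟩ := hζ.eq_pow_of_pow_eq_one (hμ i)
    exact ⟨⟨k, hk⟩, hk'⟩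
  choose f hf using hex
  have hcount : ∀ k : Fin d, (Finset.univ.filter fun i => f i = k).card = 1 := by
    intro k
    have hS : ∑ m ∈ Finset.range d, ∑ i, (μ i / ζ ^ (k : ℕ)) ^ m =
        (d : ℂ) * ((Finset.univ.filter fun i => f i = k).card : ℂ) := by
      rw [Finset.sum_comm, Finset.card_eq_sum_ones, Nat.cast_sum, Finset.mul_sum, Finset.sum_filter]
      refine Finset.sum_congr rfl fun i _ => ?_
      have hz : ζ ^ (k : ℕ) ≠ 0 := pow_ne_zero _ (hζ.ne_zero hd0.ne')
      by_cases h : f i = k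
      · rw [if_pos h, ← hf i, h, div_self hz]; simp
      · rw [if_neg h, geom_sum_eq, div_pow, hμ i, ← pow_mul, mul_comm, pow_mul, hζ.pow_eq_one,
          one_pow, div_one, sub_self, zero_div]
        intro h1
        rw [div_eq_one_iff_eq hz, ← hf i] at h1
        exact h (Fin.ext (hζ.pow_inj (f i).2 k.2 h1))
    have hS2 : ∑ m ∈ Finset.range d, ∑ i, (μ i / ζ ^ (k : ℕ)) ^ m = (d : ℂ) := by
      rw [Finset.sum_eq_single 0]
      · have h2 := htr 0
        rw [pow_zero] at h2
        simp only [pow_zero] at h2 ⊢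
        rw [← h2]
        exact h1
      · intro m hm hm0
        simp only [div_pow, ← Finset.sum_div, ← htr]
        rw [hno m (Nat.pos_of_ne_zero hm0) (Finset.mem_range.1 hm), zero_div]
      · exact fun h => absurd (Finset.mem_range.2 hd0) h
    rw [hS2] at hS
    have h3 := mul_left_cancel₀ (Nat.cast_ne_zero.2 hd0.ne') (hS.symm.trans (mul_one (d : ℂ)).symm)
    exact_mod_cast h3
  have hprod : ∏ i, μ i = -1 := by
    rw [← Finset.prod_fiberwise Finset.univ f μ, Finset.prod_congr rfl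
      (g := fun k : Fin d => ζ ^ (k : ℕ)) (fun k _ => by
        rw [Finset.prod_congr rfl (g := fun _ => ζ ^ (k : ℕ)) (fun i hi => by
          rw [← hf i, (Finset.mem_filter.1 hi).2]), Finset.prod_const, hcount k, pow_one]),
      Fin.prod_univ_eq_prod_range (fun k => ζ ^ k) d, Finset.prod_pow_eq_pow_sum]
    obtain ⟨q, hq⟩ := he
    have hsum : ∑ k ∈ Finset.range d, k = q * (2 * q - 1) := by
      have h2 := Finset.sum_range_id_mul_two d
      have h4 : d * (d - 1) = q * (2 * q - 1) * 2 := by rw [hq, ← two_mul]; ring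
      omega
    rw [hsum, pow_mul]
    have hq0 : 0 < q := by omega
    have hh : ζ ^ q = -1 := by
      have h4 : (ζ ^ q) * (ζ ^ q) = 1 := by rw [← pow_add, ← hq, hζ.pow_eq_one]
      exact (mul_self_eq_one_iff.1 h4).resolve_left (hζ.pow_ne_one_of_pos_of_lt hq0.ne' (by omega))
    rw [hh, Odd.neg_one_pow ⟨q - 1, by omega⟩]
  have hdet : LinearMap.det (ρ y) = ∏ i, μ i := by
    rw [← LinearMap.det_toMatrix b,
      show LinearMap.toMatrix b b (ρ y) = Matrix.diagonal μ from ?_, Matrix.det_diagonal]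
    ext i j
    rw [LinearMap.toMatrix_apply, hb, map_smul, Finsupp.smul_apply, b.repr_self,
      Finsupp.single_apply, Matrix.diagonal_apply]
    by_cases h : i = j
    · subst h; simp
    · rw [if_neg (Ne.symm h), if_neg h, smul_zero]
  have h2 := hom_eq_one hperf ((LinearMap.det).comp ρ).toHomUnits y
  have h3 : LinearMap.det (ρ y) = 1 := by
    have := congrArg Units.val h2
    simpa [MonoidHom.coe_toHomUnits] using this
  rw [hdet, hprod] at h3
  norm_num at h3

variable {G : Type u} [Group G] [Fintype G] {p : ℕ} [Fact p.Prime] {P : Sylow p G} {e : ℕ}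
  {D : BlockData P e} {n t A c : ℕ} [NeZero e] (F : Frame P e) (H : Pre D n t A c)
include F H

theorem Pre.ne_zero_of_t_one (hperf : commutator G = ⊤) (ht : t = 1) : c ≠ 0 := by
  classical
  intro hc
  have het := H.et
  rw [ht, mul_one] at het
  have hp : p.Prime := Fact.out
  have hev : Even e := by
    rcases hp.eq_two_or_odd with h | h
    · have := H.two_le_e; omega
    · exact Nat.even_iff.2 (by omega)
  obtain ⟨η, hη⟩ : D.Y.Nonempty := Finset.card_pos.1 (by rw [H.cardY']; omega)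
  obtain ⟨m, hm0, hme, hm⟩ := not_regular_of_perfect hperf F.y_order hev
    (Char.IsIrr.isCharacter η.2) (by rw [degree_cast, H.degY η hη, if_pos hc])
  refine hm ?_
  have hN : F.y ^ m ∈ Subgroup.normalizer (P : Set G) := pow_mem F.y_mem m
  have hP : F.y ^ m ∉ (P : Subgroup G) := fun h => by
    have h1 := (F.κ_eq_zero _ hN).2 h
    rw [F.κ_pow F.y_mem, F.κ_y, nsmul_one, ZMod.natCast_eq_zero_iff] at h1
    have := Nat.le_of_dvd hm0 h1
    omega
  rw [F.apply_mu η hN hP]
  have h := H.sum_mu_Y F hη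
  rw [hc] at h
  refine Finset.sum_eq_zero fun i _ => ?_
  rw [Finset.sum_eq_zero_iff.1 h i (Finset.mem_univ i), Nat.cast_zero, zero_mul]

/-- Outside the block only the trivial linear character occurs. -/
theorem Pre.mu_out_zero (hc : c ≠ 0) {χ : IrrCharacter G} (hχ : χ ∈ D.setO) {i : ZMod e}
    (hi : i ≠ 0) : F.mu χ i = 0 := by
  classical
  obtain ⟨hX, hY⟩ := BlockData.not_mem_setO hχ
  by_cases h : ∀ η ∈ D.Y, F.mu η i = 0
  · obtain ⟨θ, hθ, -, hz⟩ := H.exists_A F hi h
    exact hz χ fun h2 => hX (h2 ▸ (H.mem_setA hθ).1)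
  push Not at h
  obtain ⟨η, hη, hη0⟩ := h
  have hd := F.sum_mu_degree i
  rw [H.index, ← Finset.sum_add_sum_compl D.Y, Finset.sum_congr rfl
    (g := fun _ => F.mu η i * (c * p - e))
    (fun θ hθ => by rw [H.mu_Y F hθ hη i, H.degY θ hθ, if_neg hc]),
    Finset.sum_const, smul_eq_mul, H.cardY', mul_left_comm, ← H.mulY hc] at hd
  have h1 := Nat.le_mul_of_pos_left (n * p + 1) (Nat.pos_of_ne_zero hη0)
  have h2 : ∑ θ ∈ D.Yᶜ, F.mu θ i * charDegree (θ : G → ℂ) = 0 := by omega
  exact (mul_eq_zero.1 (Finset.sum_eq_zero_iff.1 h2 χ (Finset.mem_compl.2 hY))).resolve_right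
    (Blocks.charDegree_pos χ.2).ne'

/-- The permutation character on the Sylow subgroups at the elements of `N(P) ∖ P`. -/
theorem Pre.fixed_points (hc : c ≠ 0) {h : G} (hh : h ∈ Subgroup.normalizer (P : Set G))
    (hP : h ∉ (P : Subgroup G)) :
    indFun (Subgroup.normalizer (P : Set G)) (F.lam 0) h = (n : ℂ) + 1 := by
  classical
  have hrow := F.sum_mu_degree 0
  rw [H.index, ← Finset.add_sum_erase _ _ (Finset.mem_univ (Blocks.triv G)), H.mu_triv_zero F,
    one_mul, Blocks.charDegree_eq (n := 1) (by simp [Blocks.triv])] at hrow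
  have hbig : ∀ χ, χ ≠ Blocks.triv G → F.mu χ 0 * charDegree (χ : G → ℂ) ≤ n * p := by
    intro χ hχ
    have := Finset.single_le_sum (f := fun χ => F.mu χ 0 * charDegree (χ : G → ℂ))
      (fun _ _ => Nat.zero_le _) (Finset.mem_erase.2 ⟨hχ, Finset.mem_univ χ⟩)
    omega
  have hA : ∀ χ ∈ D.setA, F.mu χ 0 = 0 := by
    intro χ hχ
    by_contra h0
    have h1 := hbig χ (H.mem_setA hχ).2.1
    rw [(H.mem_setA hχ).2.2.2] at h1
    have := Nat.le_mul_of_pos_left (n * p + 1) (Nat.pos_of_ne_zero h0)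
    omega
  have hY : ∀ χ ∈ D.Y, F.mu χ 0 = 0 := by
    intro χ hχ
    by_contra h0
    have h1 : ∑ θ ∈ D.Y, F.mu θ 0 * charDegree (θ : G → ℂ) ≤ n * p := by
      refine le_trans (Finset.sum_le_sum_of_subset (t := Finset.univ.erase (Blocks.triv G))
        fun θ hθ => Finset.mem_erase.2 ⟨fun h2 => Finset.disjoint_right.1 D.disj hθ
          (h2 ▸ D.triv_mem), Finset.mem_univ θ⟩) ?_
      omega
    rw [Finset.sum_congr rfl (g := fun _ => F.mu χ 0 * (c * p - e))
      (fun θ hθ => by rw [H.mu_Y F hθ hχ 0, H.degY θ hθ, if_neg hc]),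
      Finset.sum_const, smul_eq_mul, H.cardY', mul_left_comm, ← H.mulY hc] at h1
    have := Nat.le_mul_of_pos_left (n * p + 1) (Nat.pos_of_ne_zero h0)
    omega
  have hk : ∀ χ ∈ D.setO, F.mu χ 0 = ∑ i : ZMod e, F.mu χ i := fun χ hχ =>
    (Finset.sum_eq_single 0 (fun i _ hi => H.mu_out_zero F hc hχ hi)
      (fun h => absurd (Finset.mem_univ _) h)).symm
  rw [← F.sum_mu_apply, D.sum_split, H.mu_triv_zero F,
    Finset.sum_eq_zero (s := D.setA) (fun θ hθ => by rw [hA θ hθ]; simp),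
    Finset.sum_eq_zero (s := D.setB) (fun θ hθ => by rw [H.mu_B F hθ]; simp),
    Finset.sum_eq_zero (s := D.Y) (fun θ hθ => by rw [hY θ hθ]; simp),
    Finset.sum_congr rfl (s₁ := D.setO)
      (g := fun χ => (((∑ i : ZMod e, F.mu χ i) ^ 2 : ℕ) : ℂ)) (fun χ hχ => by
      have hu : (χ : G → ℂ) h = ((∑ i : ZMod e, F.mu χ i : ℕ) : ℂ) := by
        rw [F.apply_mu χ hh hP, Finset.sum_eq_single 0 (fun i _ hi => by
          rw [H.mu_out_zero F hc hχ hi]; simp) (fun h => absurd (Finset.mem_univ _) h),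
          hk χ hχ, zero_mul, AddChar.map_zero_eq_one, mul_one]
      rw [hu, hk χ hχ, pow_two, Nat.cast_mul]), ← Nat.cast_sum, H.sum_out_sq F]
  simp [Blocks.triv]
  ring

/-- The number `n + 1` divides `p (np + 1)`. -/
theorem Pre.dvd_of_c (hc : c ≠ 0) : n + 1 ∣ p * (n * p + 1) := by
  classical
  have he := H.two_le_e
  have hy1 : F.κ F.y ≠ 0 := by
    rw [F.κ_y]
    have : Fact (1 < e) := ⟨by omega⟩
    exact one_ne_zero
  have hyP : F.y ∉ (P : Subgroup G) := fun h => hy1 ((F.κ_eq_zero _ F.y_mem).2 h)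
  have hfix := H.fixed_points F hc F.y_mem hyP
  set N := Subgroup.normalizer (P : Set G) with hN
  set Q := Subgroup.zpowers F.y with hQ
  set R := Subgroup.normalizer (Q : Set G) with hR
  have hQN : Q ≤ N := Subgroup.zpowers_le.2 F.y_mem
  have hQP : ∀ q ∈ Q, q ∈ (P : Subgroup G) → q = 1 := by
    intro q hq hqP
    obtain ⟨j, rfl⟩ := (isOfFinOrder_of_finite F.y).mem_powers_iff_mem_zpowers.2 hq
    have h1 := (F.κ_eq_zero _ (pow_mem F.y_mem j)).2 hqP
    rw [F.κ_pow F.y_mem, F.κ_y, nsmul_one, ZMod.natCast_eq_zero_iff] at h1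
    exact orderOf_dvd_iff_pow_eq_one.1 (F.y_order.symm ▸ h1)
  let S : Finset G := Finset.univ.filter fun x => x⁻¹ * F.y * x ∈ N
  have hS : (S.card : ℂ) = (Nat.card N : ℂ) * ((n : ℂ) + 1) := by
    rw [← hfix, Char.indFun_apply, ← mul_assoc,
      mul_inv_cancel₀ (Nat.cast_ne_zero.2 Nat.card_pos.ne'), one_mul, Finset.card_eq_sum_ones,
      Nat.cast_sum, Finset.sum_filter]
    refine Finset.sum_congr rfl fun x _ => ?_
    split_ifs with hx
    · rw [Char.extendByZero_of_mem _ _ hx]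
      simp [Frame.lam, AddChar.map_zero_eq_one]
    · rw [Char.extendByZero_of_not_mem _ _ hx]
  have hconjR : ∀ x : G, x⁻¹ * F.y * x ∈ Q → x ∈ R := by
    intro x hx
    have hx' : ∀ q ∈ Q, x⁻¹ * q * x ∈ Q := by
      intro q hq
      obtain ⟨i, rfl⟩ := hq
      have h2 : x⁻¹ * F.y ^ i * x = (x⁻¹ * F.y * x) ^ i := by
        have := conj_zpow (i := i) (a := x⁻¹) (b := F.y)
        rw [inv_inv] at this
        exact this.symm
      show x⁻¹ * F.y ^ i * x ∈ Q
      rw [h2]
      exact zpow_mem hx i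
    have hinj : Function.Bijective (fun q : Q => (⟨x⁻¹ * (q : G) * x, hx' q q.2⟩ : Q)) := by
      refine Finite.injective_iff_bijective.1 fun a b hab => Subtype.ext ?_
      have h3 : x⁻¹ * (a : G) * x = x⁻¹ * (b : G) * x := congrArg Subtype.val hab
      exact mul_left_cancel (mul_right_cancel h3)
    refine Subgroup.mem_normalizer_iff.2 fun q => ⟨fun hq => ?_, fun hq => ?_⟩
    · obtain ⟨⟨r, hr⟩, h4⟩ := hinj.2 ⟨q, hq⟩
      have h5 : x⁻¹ * r * x = q := congrArg Subtype.val h4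
      show x * q * x⁻¹ ∈ Q
      rw [← h5, show x * (x⁻¹ * r * x) * x⁻¹ = r by group]
      exact hr
    · have h6 := hx' _ hq
      show q ∈ Q
      rwa [show x⁻¹ * (x * q * x⁻¹) * x = q by group] at h6
  have hcard : S.card = p * Nat.card R := by
    rw [← F.setup.card, Nat.card_eq_fintype_card, Nat.card_eq_fintype_card (α := R),
      ← Fintype.card_prod, ← Finset.card_univ]
    symm
    refine Finset.card_bij (fun q _ => (q.2 : G) * (q.1 : G)) (fun q _ => ?_) ?_ ?_
    · refine Finset.mem_filter.2 ⟨Finset.mem_univ _, ?_⟩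
      have h1 := (Subgroup.mem_normalizer_iff.1 (inv_mem q.2.2) F.y).1 (Subgroup.mem_zpowers F.y)
      rw [inv_inv] at h1
      rw [show ((q.2 : G) * (q.1 : G))⁻¹ * F.y * ((q.2 : G) * (q.1 : G)) =
        (q.1 : G)⁻¹ * ((q.2 : G)⁻¹ * F.y * (q.2 : G)) * (q.1 : G) by group]
      exact mul_mem (mul_mem (inv_mem (Subgroup.le_normalizer q.1.2)) (hQN h1))
        (Subgroup.le_normalizer q.1.2)
    · intro q _ q' _ h
      have hz1 : (q'.1 : G) * (q.1 : G)⁻¹ = (q'.2 : G)⁻¹ * (q.2 : G) := by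
        rw [eq_inv_mul_iff_mul_eq, ← mul_assoc, ← h]; group
      set z := (q'.1 : G) * (q.1 : G)⁻¹ with hz
      have hzP : z ∈ (P : Subgroup G) := mul_mem q'.1.2 (inv_mem q.1.2)
      have hzR : z ∈ R := hz1 ▸ mul_mem (inv_mem q'.2.2) q.2.2
      have h2 := (Subgroup.mem_normalizer_iff.1 hzR F.y).1 (Subgroup.mem_zpowers F.y)
      have h3 : z * F.y * z⁻¹ * F.y⁻¹ = 1 := hQP _ (mul_mem h2 (inv_mem (Subgroup.mem_zpowers F.y)))
        (by rw [show z * F.y * z⁻¹ * F.y⁻¹ = z * (F.y * z⁻¹ * F.y⁻¹) by group]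
            exact mul_mem hzP (F.setup.conj_mem (inv_mem hzP) F.y_mem))
      have hz0 : z = 1 := by
        by_contra h4
        refine hyP (F.mem_of_commute hzP h4 ?_)
        rw [mul_inv_eq_one, mul_inv_eq_iff_eq_mul] at h3
        exact h3.symm
      have e1 : q'.1 = q.1 := Subtype.ext (mul_inv_eq_one.1 hz0)
      have e2 : q'.2 = q.2 := Subtype.ext (inv_mul_eq_one.1 (hz1.symm.trans hz0))
      exact Prod.ext e1.symm e2.symm
    · intro x hx
      have hxN : x⁻¹ * F.y * x ∈ N := (Finset.mem_filter.1 hx).2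
      set h := x⁻¹ * F.y * x with hh
      have hhP : h ∉ (P : Subgroup G) := by
        intro hP
        have h1 : orderOf h = e := by
          rw [hh, show x⁻¹ * F.y * x = x⁻¹ * F.y * x⁻¹⁻¹ by group, Blocks.orderOf_conj', F.y_order]
        by_cases hh1 : h = 1
        · rw [hh1, orderOf_one] at h1; omega
        · rw [← Nat.card_zpowers, F.setup.zpowers_eq hP hh1, F.setup.card] at h1
          have h5 := H.et
          rw [← h1] at h5
          rcases Nat.eq_zero_or_pos t with ht | ht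
          · rw [ht, mul_zero] at h5; exact (Fact.out : p.Prime).one_lt.ne h5
          · have := Nat.le_mul_of_pos_right p ht; omega
      set y' := F.y ^ (F.κ h).val with hy'
      have hy'P : y' ∉ (P : Subgroup G) := fun h1 => hhP (by
        have h2 := mul_mem (F.dec h hxN) h1
        rwa [inv_mul_cancel_right] at h2)
      obtain ⟨w, hw, hwy⟩ := F.exists_conj (pow_mem F.y_mem _) hy'P (F.dec h hxN)
      rw [← hy', inv_mul_cancel_right] at hwy
      refine ⟨(⟨w⁻¹, inv_mem hw⟩, ⟨x * w, hconjR _ ?_⟩), Finset.mem_univ _,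
        mul_inv_cancel_right _ _⟩
      rw [show (x * w)⁻¹ * F.y * (x * w) = w⁻¹ * h * w by rw [hh]; group, ← hwy,
        show w⁻¹ * (w * y' * w⁻¹) * w = y' by group]
      exact pow_mem (Subgroup.mem_zpowers _) _
  have h1 : p * Nat.card R = e * p * (n + 1) := by
    rw [← hcard, ← F.card_normalizer]
    exact_mod_cast hS
  have h2 : Nat.card R = e * (n + 1) :=
    Nat.eq_of_mul_eq_mul_left (Fact.out : p.Prime).pos (h1.trans (by ring))
  have h3 := Subgroup.card_subgroup_dvd_card R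
  rw [h2, H.card, show p * e * (n * p + 1) = e * (p * (n * p + 1)) by ring] at h3
  exact Nat.dvd_of_mul_dvd_mul_left (by omega) h3

theorem Pre.j_eq_one {j : ℕ} (hnj : n + 1 = j * t) (hc : c = j) : j = 1 := by
  have hp : p.Prime := Fact.out
  have hc0 : c ≠ 0 := by
    rintro rfl
    rw [← hc, zero_mul] at hnj
    omega
  have ht : 0 < t := Nat.pos_of_ne_zero fun h => by rw [h, mul_zero] at hnj; omega
  have hep : e < p := by
    have := H.et
    have := Nat.le_mul_of_pos_right e ht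
    omega
  have hcount := H.count
  rw [hc, hnj] at hcount
  subst hc
  obtain ⟨X, hX⟩ : ∃ X, X = c * p - e := ⟨_, rfl⟩
  have hXe : X + e = c * p := by
    have := Nat.le_mul_of_pos_left p (Nat.pos_of_ne_zero hc0)
    omega
  have h := H.dvd_of_c F hc0
  rw [H.mulY hc0, ← hX, hnj, show p * (t * X) = p * X * t by ring] at h
  have h2 : c ∣ p * X := Nat.dvd_of_mul_dvd_mul_right ht h
  have h3 : c ∣ p * e := by
    have h4 : c ∣ p * X + p * e := by rw [← mul_add, hXe]; exact ⟨p * p, by ring⟩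
    exact (Nat.dvd_add_right h2).1 h4
  have hco : c.Coprime p := (hp.coprime_iff_not_dvd.2 fun h5 => by
    have := Nat.le_of_dvd (Nat.pos_of_ne_zero hc0) h5
    omega).symm
  have h6 : c ∣ e := hco.dvd_of_dvd_mul_left h3
  rw [← hcount] at h6
  exact Nat.dvd_one.1 ((Nat.dvd_add_right (dvd_add ((dvd_mul_right c t).mul_left A) dvd_rfl)).1 h6)

end Cfsg.Agent.Fg24.Brauer
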