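import Cfsg.Agent.Fg24.Brauer.Main
import Cfsg.Agent.Fg24.Brauer.Exclude

/-!
# Perfect groups with few Sylow subgroups of prime order
-/

set_option autoImplicit false

open Cfsg

namespace Cfsg.Agent.Fg24.Brauer

universe u

variable {G : Type u} [Group G] [Finite G] {p : ℕ} [Fact p.Prime]

/-- A perfect group without normal `p'`-subgroups whose Sylow number is not exceptional. -/
theorem classify (hperf : commutator G = ⊤) (P : Sylow p G) (hP : Nat.card (P : Subgroup G) = p)
    (hcore : ∀ K : Subgroup G, K.Normal → ¬ p ∣ Nat.card K → K = ⊥) {n : ℕ}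
    (hn : Nat.card (Sylow p G) = n * p + 1) (hF : ¬ FForm p n) : Conclusion p G := by
  classical
  have := Fintype.ofFinite G
  obtain ⟨e, hS, he, hnn⟩ := exists_setup hperf P hP
  obtain ⟨D⟩ := exists_blockData hS he
  obtain ⟨n', v, hn', -, hidx, hC, hG, hcx⟩ := exists_order hS hnn
  have hnn' : n' = n := by
    have h := P.card_eq_index_normalizer
    rw [hn, hidx, Nat.add_right_cancel_iff] at h
    exact (Nat.eq_of_mul_eq_mul_right (Fact.out : p.Prime).pos h).symm
  subst hnn'
  obtain ⟨t, j, A, c, H, hnj, hcj⟩ := exists_pre hperf hS he hcore D hn' hidx hC hG hcx hF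
  have : NeZero e := ⟨by omega⟩
  obtain ⟨F⟩ := exists_frame hS H.cent
  have ht0 : 0 < t := Nat.pos_of_ne_zero fun h => by rw [h, mul_zero] at hnj; omega
  refine (of_main hperf he hcore
    (⟨H, ?_, ?_, ?_⟩ : Main D n' t A c)).1
  · rcases hcj with hc | hc
    · by_contra ht
      exact H.ne_zero_of_t_one F hperf (by omega) hc
    · rw [H.j_eq_one F hnj hc, one_mul] at hnj
      omega
  · rcases hcj with hc | hc
    · have ht1 : t ≠ 1 := fun ht => H.ne_zero_of_t_one F hperf ht hc
      have hn1 : n' = 1 := by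
        by_contra h
        exact H.c_ne_zero F (by omega) (by omega) hc
      subst hn1
      have hj0 : 0 < j := Nat.pos_of_ne_zero fun h => by rw [h, zero_mul] at hnj; omega
      have := Nat.le_mul_of_pos_left t hj0
      omega
    · rw [H.j_eq_one F hnj hc, one_mul] at hnj
      exact hnj.symm
  · rcases hcj with hc | hc
    · exact Or.inl hc
    · exact Or.inr (hc.trans (H.j_eq_one F hnj hc))

/-- Exceptional values are large. -/
theorem FForm.le {n : ℕ} (h : FForm p n) : p + 3 ≤ 2 * n := by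
  obtain ⟨h, u, hh, hu, he⟩ := h
  obtain ⟨a, rfl⟩ : ∃ a, h = a + 1 := ⟨h - 1, by omega⟩
  obtain ⟨b, rfl⟩ : ∃ b, u = b + 1 := ⟨u - 1, by omega⟩
  suffices h2 : (p + 3) * (b + 2) ≤ 2 * n * (b + 2) from
    Nat.le_of_mul_le_mul_right h2 (by omega)
  have e1 : 2 * n * (b + 2) = 2 * (n * (b + 1 + 1)) := by ring
  rw [e1, he]
  ring_nf
  linarith [Nat.zero_le (p * b), Nat.zero_le (p * b * a), Nat.zero_le (p * a), Nat.zero_le b,
    Nat.zero_le (b ^ 2), Nat.zero_le a]

/-- Going over to `G ⧸ O_{p'}(G)`. -/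
theorem quotient_core (hperf : commutator G = ⊤) (P : Sylow p G)
    (hP : Nat.card (P : Subgroup G) = p) {n : ℕ} (hn : Nat.card (Sylow p G) = n * p + 1)
    (hF : ¬ FForm p n) :
    Conclusion p (G ⧸ Cfsg.pPrimeCore p G) ∧
      Cfsg.pPrimeCore p G ≤ Subgroup.normalizer (P : Set G) := by
  classical
  have hp : p.Prime := Fact.out
  set K := Cfsg.pPrimeCore p G with hK
  set f := QuotientGroup.mk' K with hf
  have hfs : Function.Surjective f := QuotientGroup.mk'_surjective K
  have hKd : ¬ p ∣ Nat.card K := Core.not_dvd_card_pPrimeCore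
  have hperf' : commutator (G ⧸ K) = ⊤ := by
    rw [commutator_def, ← Subgroup.map_top_of_surjective f hfs, ← Subgroup.map_commutator,
      ← commutator_def, hperf]
  set Q := P.mapSurjective hfs with hQ
  have hQc : Nat.card (Q : Subgroup (G ⧸ K)) = p := by
    rw [Q.card_eq_multiplicity]
    have h1 := P.card_eq_multiplicity
    rw [hP, show Nat.card G = Nat.card (G ⧸ K) * Nat.card K by
        rw [← Subgroup.index_eq_card, Subgroup.index_mul_card],
      Nat.factorization_mul Nat.card_pos.ne' Nat.card_pos.ne', Finsupp.add_apply,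
      Nat.factorization_eq_zero_of_not_dvd hKd, add_zero] at h1
    exact h1.symm
  have hcore : ∀ L : Subgroup (G ⧸ K), L.Normal → ¬ p ∣ Nat.card L → L = ⊥ := by
    intro L hL hd
    have h1 : L ≤ Cfsg.pPrimeCore p (G ⧸ K) :=
      Core.le_pPrimeCore ((hp.coprime_iff_not_dvd.2 hd).symm)
    rwa [Core.pPrimeCore_quotient_eq_bot, le_bot_iff] at h1
  obtain ⟨e, hS, he, hnn⟩ := exists_setup hperf' Q hQc
  obtain ⟨n', -, hn0, -, hidx, -⟩ := exists_order hS hnn
  set M := (Subgroup.normalizer ((Q : Subgroup (G ⧸ K)) : Set (G ⧸ K))).comap f with hM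
  have hNM : Subgroup.normalizer (P : Set G) ≤ M := by
    rw [hM, ← Subgroup.map_le_iff_le_comap]
    exact Subgroup.le_normalizer_map f
  have hMi : M.index = n' * p + 1 := by
    rw [hM, Subgroup.index_comap_of_surjective _ hfs]; exact hidx
  have hmul := Subgroup.relIndex_mul_index hNM
  rw [hMi, ← P.card_eq_index_normalizer, hn] at hmul
  obtain ⟨r, hr⟩ : ∃ r, r = (Subgroup.normalizer (P : Set G)).relIndex M := ⟨_, rfl⟩
  rw [← hr] at hmul
  have hr1 : r % p = 1 := by
    have h := congrArg (· % p) hmul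
    simpa [Nat.add_mod, Nat.mul_mod, Nat.mod_eq_of_lt hp.one_lt] using h
  obtain ⟨m, hm⟩ : ∃ m, r = m * p + 1 :=
    ⟨r / p, by conv_lhs => rw [← Nat.div_add_mod r p, hr1, mul_comm]⟩
  rcases Nat.eq_zero_or_pos m with hm0 | hm0
  · rw [hm, hm0, zero_mul, zero_add, one_mul, Nat.add_right_cancel_iff] at hmul
    have hnn' : n' = n := Nat.eq_of_mul_eq_mul_right hp.pos hmul
    subst hnn'
    refine ⟨classify hperf' Q hQc hcore (Q.card_eq_index_normalizer.trans hidx) hF, ?_⟩
    have hMN : M ≤ Subgroup.normalizer (P : Set G) :=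
      Subgroup.relIndex_eq_one.1 (by rw [← hr, hm, hm0, zero_mul, zero_add])
    refine le_trans ?_ hMN
    rw [hM]
    refine le_trans ?_ (Subgroup.ker_le_comap _ _)
    rw [hf, QuotientGroup.ker_mk']
  · refine absurd ⟨m * (n' + 1), n', Nat.mul_pos hm0 (Nat.succ_pos _), hn0, ?_⟩ hF
    have hne : n = m * n' * p + m + n' := by
      refine Nat.eq_of_mul_eq_mul_right hp.pos ?_
      rw [hm] at hmul
      linarith [show (m * p + 1) * (n' * p + 1) = (m * n' * p + m + n') * p + 1 by ring]
    rw [hne]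
    ring

/-- For even `q`, `PSL(2, q) = SL(2, q)`. -/
theorem nonempty_sl_equiv_psl {F : Type} [Field F] [Fintype F] (hm : Even (Fintype.card F)) :
    Nonempty (Matrix.SpecialLinearGroup (Fin 2) F ≃*
      Matrix.ProjectiveSpecialLinearGroup (Fin 2) F) := by
  have hbot : Subgroup.center (Matrix.SpecialLinearGroup (Fin 2) F) = ⊥ := by
    refine (Subgroup.eq_bot_iff_forall _).2 fun M hM => ?_
    obtain ⟨r, hr, hM'⟩ := Matrix.SpecialLinearGroup.mem_center_iff.1 hM
    have h2 : ringChar F = 2 := by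
      by_contra hc
      exact Nat.not_even_iff_odd.2 (Nat.odd_iff.2 (FiniteField.odd_card_of_char_ne_two hc)) hm
    have : CharP F 2 := h2 ▸ ringChar.charP F
    rw [Fintype.card_fin] at hr
    have hr1 : r = 1 := by
      have : (r - 1) ^ 2 = 0 := by rw [sub_pow_char, hr, one_pow, sub_self]
      exact sub_eq_zero.1 (pow_eq_zero_iff two_ne_zero |>.1 this)
    refine Subtype.ext ?_
    rw [← hM', hr1]
    simp
  exact ⟨(QuotientGroup.quotientBot (G := Matrix.SpecialLinearGroup (Fin 2) F)).symm.trans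
    (QuotientGroup.quotientMulEquivOfEq hbot.symm)⟩

end Cfsg.Agent.Fg24.Brauer
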