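import Cfsg.Agent.BlockThms.OrderP.Main
import Cfsg.Agent.Blocks.Modular

/-!
# Perfect groups with a Sylow subgroup of prime order: elementary facts
-/

set_option autoImplicit false

open Cfsg

namespace Cfsg.Agent.Fg24.Brauer

open Cfsg.Agent.BlockThms.OrderP

universe u

variable {G : Type u} [Group G]

/-- A homomorphism from a perfect group to a commutative group is trivial. -/
theorem hom_eq_one (hperf : commutator G = ⊤) {M : Type*} [CommGroup M] (f : G →* M) (g : G) :
    f g = 1 :=
  Char.hom_commutator_eq_one f (hperf ▸ Subgroup.mem_top g)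

/-- A normal subgroup with cyclic quotient of a perfect group is everything. -/
theorem eq_top_of_quotient_powers (hperf : commutator G = ⊤) {K : Subgroup G} [K.Normal] (y : G)
    (h : ∀ g : G, ∃ j : ℕ, g * (y ^ j)⁻¹ ∈ K) : K = ⊤ := by
  refine eq_top_iff.2 (hperf ▸ (Subgroup.Normal.commutator_le_of_self_sup_commutative_eq_top
    (H := Subgroup.zpowers y) ?_ inferInstance))
  refine eq_top_iff.2 fun g _ => ?_
  obtain ⟨j, hj⟩ := h g
  rw [← inv_mul_cancel_right g (y ^ j)]
  exact Subgroup.mul_mem_sup hj (pow_mem (Subgroup.mem_zpowers y) j)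

/-- An irreducible character of degree one of a perfect group is trivial. -/
theorem eq_triv_of_degree_one (hperf : commutator G = ⊤) [Fintype G] {χ : IrrCharacter G}
    (h : (χ : G → ℂ) 1 = 1) : χ = Blocks.triv G := by
  obtain ⟨f, hf⟩ := Char.IsChar.exists_hom (Char.IsIrr.isCharacter χ.2) h
  refine Subtype.ext ?_
  rw [hf]
  funext g
  simp [Blocks.triv, hom_eq_one hperf f g]

variable [Finite G] {p : ℕ} [Fact p.Prime]

/-- In a perfect group the automizer of a Sylow subgroup of order `p` is nontrivial. -/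
theorem exists_setup (hperf : commutator G = ⊤) (P : Sylow p G)
    (hP : Nat.card (P : Subgroup G) = p) :
    ∃ e : ℕ, Setup P e ∧ 2 ≤ e ∧ ¬ (P : Subgroup G).Normal := by
  set e := (Subgroup.centralizer (P : Set G)).relIndex (Subgroup.normalizer (P : Set G)) with he
  have hS : Setup P e := ⟨hP, rfl⟩
  have hp : p.Prime := Fact.out
  have h1 : e ≠ 1 := by
    intro h
    have hle : Subgroup.normalizer (P : Set G) ≤ Subgroup.centralizer (P : Set G) :=
      Subgroup.relIndex_eq_one.1 h
    obtain ⟨K, hK, hc, k, hk⟩ := Fusion.hasNormalPComplement_iff_exists.1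
      (Fusion.hasNormalPComplement_of_normalizer_le_centralizer P hle)
    have hk1 : k ≤ 1 := by
      have h2 : p ^ k ∣ Nat.card G := hk ▸ Subgroup.index_dvd_card K
      rw [hp.pow_dvd_iff_le_factorization Nat.card_pos.ne', hS.factorization.2] at h2
      exact h2
    obtain ⟨x, hx, hx1, hxo⟩ := hS.exists_gen
    have hxK : x ∉ K := fun h3 => hp.one_lt.ne' (by
      have h4 := Subgroup.orderOf_dvd_natCard K h3
      rw [hxo] at h4
      exact Nat.dvd_one.1 (hc.gcd_eq_one ▸ Nat.dvd_gcd h4 (dvd_refl p)))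
    have hidx : K.index = p := by
      interval_cases k
      · exact absurd (Subgroup.index_eq_one.1 (by simpa using hk) ▸ Subgroup.mem_top x) hxK
      · simpa using hk
    have hcyc : IsCyclic (G ⧸ K) := isCyclic_of_prime_card (p := p)
      (by rw [← Subgroup.index_eq_card, hidx])
    let : CommGroup (G ⧸ K) := hcyc.commGroup
    exact hxK ((QuotientGroup.eq_one_iff x).1 (hom_eq_one hperf (QuotientGroup.mk' K) x))
  refine ⟨e, hS, by have := hS.e_pos; omega, fun hn => ?_⟩
  obtain ⟨-, y, -, hgen, -, -⟩ := hS.exists_y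
  have hN : Subgroup.normalizer (P : Set G) = ⊤ := Subgroup.normalizer_eq_top_iff.2 hn
  have hC : (Subgroup.centralizer (P : Set G)).Normal := Subgroup.normal_centralizer
  have htop := eq_top_of_quotient_powers hperf y fun g => hgen g (hN ▸ Subgroup.mem_top g)
  refine h1 (Subgroup.relIndex_eq_one.2 ?_)
  rw [htop]
  exact le_top

/-- The order of the group. -/
theorem exists_order {P : Sylow p G} {e : ℕ} (hS : Setup P e)
    (hn : ¬ (P : Subgroup G).Normal) :
    ∃ n v : ℕ, 0 < n ∧ 0 < v ∧ (Subgroup.normalizer (P : Set G)).index = n * p + 1 ∧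
      Nat.card (Subgroup.centralizer (P : Set G)) = p * v ∧
      Nat.card G = (n * p + 1) * (e * (p * v)) ∧
      ∀ x ∈ (P : Subgroup G), x ≠ 1 →
        (Subgroup.centralizer ({x} : Set G)).index = e * (n * p + 1) := by
  obtain ⟨K, -, -, -, -, hC, -⟩ := hS.exists_complement
  have hidx : (Subgroup.normalizer (P : Set G)).index = Nat.card (Sylow p G) :=
    P.card_eq_index_normalizer.symm
  have hmod := card_sylow_modEq_one p G
  have h1 : Nat.card (Sylow p G) ≠ 1 := fun h => hn (Subgroup.normalizer_eq_top_iff.1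
    (Subgroup.index_eq_one.1 (hidx.trans h)))
  have hp : p.Prime := Fact.out
  obtain ⟨n, hn'⟩ : ∃ n, Nat.card (Sylow p G) = n * p + 1 := by
    refine ⟨Nat.card (Sylow p G) / p, ?_⟩
    have h2 : Nat.card (Sylow p G) % p = 1 := by
      rw [hmod, Nat.mod_eq_of_lt hp.one_lt]
    conv_lhs => rw [← Nat.div_add_mod (Nat.card (Sylow p G)) p, h2, mul_comm]
  have hG : Nat.card G = (n * p + 1) * (e * (p * Nat.card K)) := by
    rw [← Subgroup.index_mul_card (Subgroup.normalizer (P : Set G)), hS.card_normalizer, hC, hidx,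
      hn']
  refine ⟨n, Nat.card K, Nat.pos_of_ne_zero fun h => h1 (by rw [hn', h, zero_mul]), Nat.card_pos,
    hidx.trans hn', hC, hG, fun x hx hx1 => ?_⟩
  have h3 := Subgroup.index_mul_card (Subgroup.centralizer ({x} : Set G))
  rw [hS.centralizer_eq hx hx1, hC, hG] at h3
  rw [hS.centralizer_eq hx hx1]
  refine Nat.eq_of_mul_eq_mul_right (Nat.mul_pos hp.pos Nat.card_pos) (h3.trans ?_)
  ring

/-- A normal subgroup of order divisible by `p` contains the Sylow subgroup of order `p`. -/
theorem le_of_dvd_card {P : Sylow p G} (hP : Nat.card (P : Subgroup G) = p) {K : Subgroup G}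
    [K.Normal] (hK : p ∣ Nat.card K) : (P : Subgroup G) ≤ K := by
  have hp : p.Prime := Fact.out
  have := Fintype.ofFinite G
  obtain ⟨⟨x, hxK⟩, hx⟩ := exists_prime_orderOf_dvd_card' p hK
  rw [Subgroup.orderOf_mk] at hx
  obtain ⟨c, hc⟩ := BlockThms.OrderP.exists_conj_mem P (u := x) ⟨1, by rw [hx, pow_one]⟩
  have h1 : c * x * c⁻¹ ≠ 1 := fun h => by
    rw [conj_eq_one_iff] at h
    rw [h, orderOf_one] at hx
    exact hp.ne_one hx.symm
  rw [← (⟨hP, rfl⟩ : Setup P _).zpowers_eq hc h1]
  exact Subgroup.zpowers_le.2 (Subgroup.Normal.conj_mem ‹_› x hxK c)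

/-- A perfect group with a Sylow subgroup of order `p`, self-centralizing, and without normal
`p'`-subgroups is simple. -/
theorem isSimpleGroup (hperf : commutator G = ⊤) {P : Sylow p G} {e : ℕ} (hS : Setup P e)
    (hC : Subgroup.centralizer (P : Set G) = (P : Subgroup G))
    (hcore : ∀ K : Subgroup G, K.Normal → ¬ p ∣ Nat.card K → K = ⊥) : IsSimpleGroup G := by
  obtain ⟨x, hx, hx1, -⟩ := hS.exists_gen
  have : Nontrivial G := nontrivial_of_ne x 1 hx1
  refine ⟨fun K hK => ?_⟩
  by_cases hd : p ∣ Nat.card K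
  · right
    have hle := le_of_dvd_card hS.card hd
    obtain ⟨-, y, -, hgen, -, -⟩ := hS.exists_y
    have hfr : Subgroup.normalizer (P : Set G) ⊔ K = ⊤ := Sylow.normalizer_sup_eq_top' P hle
    refine eq_top_of_quotient_powers hperf y fun g => ?_
    obtain ⟨a, ha, b, hb, rfl⟩ := Subgroup.mem_sup_of_normal_right.1 (hfr.ge (Subgroup.mem_top g))
    obtain ⟨j, hj⟩ := hgen a ha
    refine ⟨j, ?_⟩
    rw [hC] at hj
    rw [show a * b * (y ^ j)⁻¹ = a * b * a⁻¹ * (a * (y ^ j)⁻¹) by group]
    exact mul_mem (hK.conj_mem b hb a) (hle hj)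
  · exact Or.inl (hcore K hK hd)

end Cfsg.Agent.Fg24.Brauer
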