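import Cfsg.Agent.Fg24.Brauer.Basic
import Cfsg.Agent.BlockThms.AbelianTI.SmallDegree

/-!
# The principal block with the trivial character among the non-exceptional characters
-/

set_option autoImplicit false

open Cfsg

namespace Cfsg.Agent.Fg24.Brauer

open Cfsg.Agent.BlockThms.OrderP

universe u

variable {G : Type u} [Group G] [Fintype G] {p : ℕ} [Fact p.Prime] {P : Sylow p G} {e : ℕ}

/-- The principal block of a group with a Sylow subgroup of order `p`. -/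
structure BlockData (P : Sylow p G) (e : ℕ) where
  /-- The non-exceptional characters. -/
  X : Finset (IrrCharacter G)
  /-- The exceptional characters. -/
  Y : Finset (IrrCharacter G)
  /-- The signs. -/
  a : IrrCharacter G → ℤ
  /-- The exceptional sign. -/
  s : ℤ
  disj : Disjoint X Y
  triv_mem : Blocks.triv G ∈ X
  a_triv : a (Blocks.triv G) = 1
  cardX : X.card = e
  cardY : Y.card = (p - 1) / e
  s_or : s = 1 ∨ s = -1
  a_or : ∀ χ ∈ X, a χ = 1 ∨ a χ = -1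
  degX : ∀ χ ∈ X, (charDegree (χ : G → ℂ) : ℤ) ≡ a χ [ZMOD p]
  valX : ∀ χ ∈ X, ∀ z ∈ (P : Subgroup G), z ≠ 1 →
    ∀ y ∈ Subgroup.centralizer (P : Set G), ¬ p ∣ orderOf y → (χ : G → ℂ) (z * y) = (a χ : ℂ)
  degY : ∀ θ ∈ Y, (charDegree (θ : G → ℂ) : ℤ) ≡ -((e : ℤ) * s) [ZMOD p]
  regY : ∀ θ ∈ Y, ∀ θ' ∈ Y, ∀ g : G, ¬ p ∣ orderOf g → (θ : G → ℂ) g = (θ' : G → ℂ) g
  rel : ∀ θ ∈ Y, ∀ g : G, ¬ p ∣ orderOf g →
    (s : ℂ) * (θ : G → ℂ) g + ∑ χ ∈ X, (a χ : ℂ) * (χ : G → ℂ) g = 0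
  avgY : ∀ θ ∈ Y, ∀ x ∈ (P : Subgroup G), x ≠ 1 → (θ : G → ℂ) x = avg p (θ : G → ℂ) x
  out : ∀ χ : IrrCharacter G, χ ∉ X → χ ∉ Y → ∀ x ∈ (P : Subgroup G), x ≠ 1 →
    avg p (χ : G → ℂ) x = 0

omit [Fintype G] in
theorem not_dvd_one_order : ¬ p ∣ orderOf (1 : G) := by
  rw [orderOf_one, Nat.dvd_one]
  exact (Fact.out : p.Prime).ne_one

theorem exists_blockData (hS : Setup P e) (he : 2 ≤ e) : Nonempty (BlockData P e) := by
  classical
  have hp : p.Prime := Fact.out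
  obtain ⟨M, hM⟩ := Blocks.exists_isPModular p hp
  obtain ⟨X, Y, a, s, hdisj, hXc, hYc, hmem, hs, hX, hY, hYY, hrel⟩ := hS.principal_structure hM
  have hout : ∀ χ : IrrCharacter G, χ ∉ X → χ ∉ Y → ∀ x ∈ (P : Subgroup G), x ≠ 1 →
      avg p (χ : G → ℂ) x = 0 := fun χ h1 h2 x hx hx1 =>
    hS.avg_eq_zero hM hx hx1 fun h => ((hmem χ).1 h).elim h1 h2
  obtain ⟨x, hx, hx1, -⟩ := hS.exists_gen
  obtain ⟨hedvd, -⟩ := hS.exists_y
  have htriv := (hmem (Blocks.triv G)).1 (Blocks.triv_mem_principalBlock hM)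
  by_cases ht : Blocks.triv G ∈ X
  · have h1 := (hX _ ht).2.2 x hx hx1 1 (one_mem _) not_dvd_one_order
    exact ⟨⟨X, Y, a, s, hdisj, ht,
      by
        have h2 : (a (Blocks.triv G) : ℂ) = 1 := h1.symm.trans (by simp [Blocks.triv])
        exact_mod_cast h2,
      hXc, hYc, hs, fun χ h => (hX χ h).1, fun χ h => (hX χ h).2.1, fun χ h => (hX χ h).2.2,
      hY, hYY, hrel, fun θ hθ x hx hx1 => hS.apply_eq_avg hM hx hx1 ((hmem θ).2 (Or.inr hθ)),
      hout⟩⟩
  have htY := htriv.resolve_left ht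
  have hdeg := hY _ htY
  rw [Blocks.charDegree_eq (n := 1) (by simp [Blocks.triv]), Nat.cast_one, Int.modEq_iff_dvd] at hdeg
  have hle : e ≤ p - 1 := Nat.le_of_dvd (Nat.sub_pos_of_lt hp.one_lt) hedvd
  have hs1 : s = 1 ∧ e = p - 1 := by
    rcases hs with rfl | rfl
    · refine ⟨rfl, ?_⟩
      have h2 : (p : ℤ) ∣ ((e + 1 : ℕ) : ℤ) := by
        rw [← dvd_neg, show -((e + 1 : ℕ) : ℤ) = -((e : ℤ) * 1) - 1 by push_cast; ring]
        exact hdeg
      have := Nat.le_of_dvd (by omega) (Int.natCast_dvd_natCast.1 h2)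
      omega
    · exfalso
      have h2 : (p : ℤ) ∣ ((e - 1 : ℕ) : ℤ) := by
        rw [show ((e - 1 : ℕ) : ℤ) = -((e : ℤ) * -1) - 1 by
          rw [Nat.cast_sub (by omega)]; push_cast; ring]
        exact hdeg
      have := Nat.le_of_dvd (by omega) (Int.natCast_dvd_natCast.1 h2)
      omega
  obtain ⟨rfl, hep⟩ := hs1
  have hY1 : Y = {Blocks.triv G} := by
    refine (Finset.eq_singleton_iff_unique_mem.2 ⟨htY, fun θ hθ => ?_⟩)
    refine Finset.card_le_one.1 ?_ θ hθ _ htY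
    rw [hYc, hep, Nat.div_self (Nat.sub_pos_of_lt hp.one_lt)]
  obtain ⟨χ₀, hχ₀⟩ : X.Nonempty := Finset.card_pos.1 (by omega)
  have hne : χ₀ ≠ Blocks.triv G := fun h => ht (h ▸ hχ₀)
  set a' := Function.update a (Blocks.triv G) 1 with ha'
  have ha'X : ∀ χ ∈ X, a' χ = a χ := fun χ h =>
    Function.update_of_ne (ne_of_mem_of_not_mem h ht) _ _
  have ha't : a' (Blocks.triv G) = 1 := Function.update_self _ _ _
  refine ⟨⟨insert (Blocks.triv G) (X.erase χ₀), {χ₀}, a', a χ₀, ?_, Finset.mem_insert_self _ _,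
    ha't, ?_, ?_, (hX χ₀ hχ₀).1, ?_, ?_, ?_, ?_, ?_, ?_, ?_, ?_⟩⟩
  · rw [Finset.disjoint_singleton_right, Finset.mem_insert, Finset.mem_erase]
    rintro (h | h)
    · exact hne h
    · exact h.1 rfl
  · rw [Finset.card_insert_of_notMem (fun h => ht (Finset.mem_of_mem_erase h)),
      Finset.card_erase_of_mem hχ₀, hXc]
    omega
  · rw [Finset.card_singleton, hep, Nat.div_self (Nat.sub_pos_of_lt hp.one_lt)]
  · intro χ hχ
    rcases Finset.mem_insert.1 hχ with rfl | h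
    · exact Or.inl ha't
    · rw [ha'X χ (Finset.mem_of_mem_erase h)]; exact (hX χ (Finset.mem_of_mem_erase h)).1
  · intro χ hχ
    rcases Finset.mem_insert.1 hχ with rfl | h
    · rw [ha't, Blocks.charDegree_eq (n := 1) (by simp [Blocks.triv])]; rfl
    · rw [ha'X χ (Finset.mem_of_mem_erase h)]; exact (hX χ (Finset.mem_of_mem_erase h)).2.1
  · intro χ hχ z hz hz1 y hy hyp
    rcases Finset.mem_insert.1 hχ with rfl | h
    · rw [ha't]; simp [Blocks.triv]
    · rw [ha'X χ (Finset.mem_of_mem_erase h)]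
      exact (hX χ (Finset.mem_of_mem_erase h)).2.2 z hz hz1 y hy hyp
  · intro θ hθ
    rw [Finset.mem_singleton.1 hθ]
    refine ((hX χ₀ hχ₀).2.1).trans (Int.modEq_iff_dvd.2 ⟨-a χ₀, ?_⟩)
    rw [hep, Nat.cast_sub hp.pos]
    push_cast
    ring
  · intro θ hθ θ' hθ' g _
    rw [Finset.mem_singleton.1 hθ, Finset.mem_singleton.1 hθ']
  · intro θ hθ g hg
    have h1 := hrel _ htY g hg
    rw [← Finset.add_sum_erase _ _ hχ₀] at h1
    rw [Finset.mem_singleton.1 hθ,
      Finset.sum_insert (fun h => ht (Finset.mem_of_mem_erase h)), ha't,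
      Finset.sum_congr rfl fun χ hχ => by rw [ha'X χ (Finset.mem_of_mem_erase hχ)]]
    push_cast at h1 ⊢
    linear_combination h1
  · intro θ hθ y hy hy1
    exact hS.apply_eq_avg hM hy hy1
      ((hmem θ).2 (Or.inl (by rw [Finset.mem_singleton.1 hθ]; exact hχ₀)))
  · intro χ h1 h2 y hy hy1
    refine hout χ (fun h => ?_) (fun h => ?_) y hy hy1
    · exact h1 (Finset.mem_insert_of_mem (Finset.mem_erase.2 ⟨fun h3 => h2 (h3 ▸
        Finset.mem_singleton_self _), h⟩))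
    · rw [hY1, Finset.mem_singleton] at h
      exact h1 (h ▸ Finset.mem_insert_self _ _)

/-- If the sum over the central subgroup `P` vanishes, it does so on every coset in `C`. -/
theorem sum_central_mul {C : Type u} [Group C] [Fintype C] {ι : Type*} [Fintype ι] [Group ι]
    (z : ι →* C) (hz : ∀ i a, a * z i * a⁻¹ = z i) {χ : C → ℂ} (hχ : IsCharacter C χ)
    (h0 : ∑ i, χ (z i) = 0) (y : C) : ∑ i, χ (z i * y) = 0 := by
  classical
  obtain ⟨m, hexp, -⟩ : ∃ m : IrrCharacter C → ℕ,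
      χ = ∑ ν : IrrCharacter C, (m ν : ℂ) • (ν : C → ℂ) ∧ True := by
    choose m hm using (Char.isCharacter_iff.1 hχ).2
    refine ⟨m, ?_, trivial⟩
    conv_lhs => rw [Char.classFun_expansion (Char.isClassFunction_of_isCharacter hχ)]
    exact Finset.sum_congr rfl fun ν _ => by rw [hm]
  have hval : ∀ g, χ g = ∑ ν : IrrCharacter C, (m ν : ℂ) * (ν : C → ℂ) g := fun g => by
    conv_lhs => rw [hexp]
    simp [Finset.sum_apply]
  have hnat : ∀ ν : IrrCharacter C, ∃ k : ℕ,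
      ∑ i, (ν : C → ℂ) (z i) = (Nat.card ι : ℂ) * k := by
    intro ν
    obtain ⟨k, hk⟩ := Char.classInner_isCharacter_eq_natCast
      (Char.isCharacter_comp z (Char.IsIrr.isCharacter ν.2)) (Char.isCharacter_one (G := ι))
    refine ⟨k, ?_⟩
    rw [← hk, classInner, mul_inv_cancel_left₀ Char.card_ne_zero]
    simp
  choose k hk using hnat
  have hsum : ∑ ν : IrrCharacter C, m ν * k ν = 0 := by
    have h1 : ∑ i, χ (z i) = (Nat.card ι : ℂ) * ((∑ ν : IrrCharacter C, m ν * k ν : ℕ) : ℂ) := by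
      simp only [hval]
      rw [Finset.sum_comm, Nat.cast_sum, Finset.mul_sum]
      refine Finset.sum_congr rfl fun ν _ => ?_
      rw [← Finset.mul_sum, hk]
      push_cast
      ring
    rw [h0, zero_eq_mul] at h1
    exact_mod_cast h1.resolve_left Char.card_ne_zero
  simp only [hval]
  rw [Finset.sum_comm]
  refine Finset.sum_eq_zero fun ν _ => ?_
  have h2 := (Finset.sum_eq_zero_iff.1 hsum ν (Finset.mem_univ _))
  have h3 : ∑ i, (ν : C → ℂ) (z i * y) =
      ((ν : C → ℂ) 1)⁻¹ * (ν : C → ℂ) y * ∑ i, (ν : C → ℂ) (z i) := by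
    rw [Finset.mul_sum]
    refine Finset.sum_congr rfl fun i _ => ?_
    have h4 := BlockThms.AbelianTI.apply_mul_central ν.2 (hz i) y
    have h5 := Char.IsIrr.one_ne_zero ν.2
    field_simp
    linear_combination h4
  rw [← Finset.mul_sum, h3, hk]
  rcases mul_eq_zero.1 h2 with h | h <;> simp [h]

end Cfsg.Agent.Fg24.Brauer
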