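import Cfsg.Agent.Fg24.Brauer.Classify
import Cfsg.Agent.Char.Zero

/-!
# Groups with a character of degree `p - 1` and a self-centralizing Sylow subgroup, `e = 2`
-/

set_option autoImplicit false
set_option linter.unusedSectionVars false

open Cfsg
open scoped ComplexConjugate

namespace Cfsg.Agent.Fg24.Brauer

universe u

variable {G : Type u} [Group G] [Fintype G] {p : ℕ} [Fact p.Prime] {P : Sylow p G}

theorem isClassFunction_mul {φ ψ : G → ℂ} (h : IsClassFunction G φ) (h' : IsClassFunction G ψ) :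
    IsClassFunction G (φ * ψ) := fun g k => by
  simp only [Pi.mul_apply, h g k, h' g k]

/-- With `e = 2` and a faithful character of degree `p - 1` in the principal block, a moment
argument gives the order. -/
theorem order_of_deg_sub_one (hp5 : 5 ≤ p) (F : Frame P 2) (D : BlockData P 2) {n : ℕ}
    (hG : Nat.card G = p * 2 * (n * p + 1)) {χ : IrrCharacter G} (hχ : χ ∈ D.X)
    (ha : D.a χ = -1) (hd : charDegree (χ : G → ℂ) = p - 1)
    (hY : ∀ η ∈ D.Y, charDegree (η : G → ℂ) = p - 2)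
    (hfaith : ∀ g : G, (χ : G → ℂ) g = (χ : G → ℂ) 1 → g = 1) :
    2 * (n * p + 1) = (p - 1) * (p - 2) := by
  classical
  have hp : p.Prime := Fact.out
  have : NeZero (2 : ℕ) := ⟨two_ne_zero⟩
  obtain ⟨t, ht⟩ : ∃ t, p = 2 * t + 1 := by
    obtain ⟨t, ht⟩ := hp.odd_of_ne_two (by omega)
    exact ⟨t, ht⟩
  have hYc : D.Y.card = t := by rw [D.cardY]; omega
  have hχt : χ ≠ Blocks.triv G := fun h => by
    rw [h, D.a_triv] at ha
    omega
  have hX : D.X = {Blocks.triv G, χ} := (Finset.eq_of_subset_of_card_le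
    (Finset.insert_subset D.triv_mem (Finset.singleton_subset_iff.2 hχ))
    (by rw [D.cardX, Finset.card_pair hχt.symm])).symm
  have hout : ∀ θ : IrrCharacter G, θ ∉ D.X ∪ D.Y →
      (∀ z ∈ (P : Subgroup G), z ≠ 1 → (θ : G → ℂ) z = 0) ∧ p ∣ charDegree (θ : G → ℂ) := by
    intro θ hθ
    rw [Finset.mem_union, not_or] at hθ
    have hz : ∀ z ∈ (P : Subgroup G), z ≠ 1 → (θ : G → ℂ) z = 0 := fun z hz hz1 => by
      rw [← F.avg_eq hz hz1 (θ : G → ℂ)]
      exact D.out θ hθ.1 hθ.2 z hz hz1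
    refine ⟨hz, ?_⟩
    have h := F.sum_mu_eq θ
    rw [Finset.sum_eq_single 1 (fun (w : (P : Subgroup G)) _ hw1 =>
          hz w w.2 fun h => hw1 (Subtype.ext h))
        (fun h => absurd (Finset.mem_univ _) h), OneMemClass.coe_one, degree_cast] at h
    exact ⟨_, (by exact_mod_cast h.symm : charDegree (θ : G → ℂ) = p * _)⟩
  have hd' : (χ : G → ℂ) 1 = (p : ℂ) - 1 := by
    rw [degree_cast, hd, Nat.cast_sub hp.pos, Nat.cast_one]
  -- the only irreducible character of degree `p - 1`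
  have huniq : ∀ θ : IrrCharacter G, (θ : G → ℂ) 1 = (χ : G → ℂ) 1 → θ = χ := by
    intro θ hθ
    rw [degree_cast, degree_cast] at hθ
    have hθ' : charDegree (θ : G → ℂ) = p - 1 := by rw [← hd]; exact_mod_cast hθ
    by_contra hne
    by_cases hmem : θ ∈ D.X ∪ D.Y
    · rcases Finset.mem_union.1 hmem with h | h
      · rw [hX, Finset.mem_insert, Finset.mem_singleton] at h
        rcases h with rfl | h
        · rw [Blocks.charDegree_eq (n := 1) (by simp [Blocks.triv])] at hθ'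
          omega
        · exact hne h
      · have := hY θ h
        omega
    · have h := (hout θ hmem).2
      rw [hθ'] at h
      have := Nat.le_of_dvd (by omega) h
      omega
  have hint : ∀ g : G, ∃ k : ℤ, (χ : G → ℂ) g = k := by
    intro g
    obtain ⟨q, hq⟩ := Char.IsChar.exists_rat (Char.IsIrr.isCharacter χ.2) g fun k hk => by
      have h := huniq ⟨_, Char.isIrr_comp_pow k hk χ.2⟩ (by simp)
      exact congrFun (congrArg Subtype.val h) g
    obtain ⟨k, hk⟩ := Char.exists_int_of_isIntegral_rat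
      (q := q) (hq ▸ Char.IsChar.isIntegral (Char.IsIrr.isCharacter χ.2) g)
    exact ⟨k, by rw [hq, ← hk]; norm_cast⟩
  choose v hv using hint
  have hv1 : v 1 = (p : ℤ) - 1 := by
    have h := hd'
    rw [hv] at h
    exact_mod_cast h
  have hvle : ∀ g, v g ≤ (p : ℤ) - 1 := by
    intro g
    have h := (Complex.re_le_norm _).trans (Char.IsChar.norm_le (Char.IsIrr.isCharacter χ.2) g)
    rw [hv, hv 1, hv1, Complex.intCast_re, Complex.intCast_re] at h
    exact_mod_cast h
  have hvmax : ∀ g, v g = (p : ℤ) - 1 → g = 1 := fun g h =>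
    hfaith g (by rw [hv, hv, hv1, h])
  have hvP : ∀ z ∈ (P : Subgroup G), z ≠ 1 → (χ : G → ℂ) z = -1 := fun z hz hz1 => by
    rw [D.val_P hχ hz hz1, ha]; norm_num
  have hreal : ∀ g, conj ((χ : G → ℂ) g) = (χ : G → ℂ) g := fun g => by
    rw [hv]; simp
  set R := Finset.univ.filter (fun g : G => ¬ p ∣ orderOf g) with hR
  set M : ℂ := (n : ℂ) * p + 1 with hM
  have hG' : (Nat.card G : ℂ) = 2 * p * M := by rw [hG, hM]; push_cast; ring
  have hsplit : ∀ φ : G → ℂ, IsClassFunction G φ → ∀ c : ℂ,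
      (∀ z ∈ (P : Subgroup G), z ≠ 1 → φ z = c) →
      ∑ g, φ g = ∑ g ∈ R, φ g + M * (((p : ℂ) - 1) * c) := by
    intro φ hφ c hc
    rw [F.sum_eq hG hφ, ← Finset.add_sum_erase _ _ (Finset.mem_univ (1 : (P : Subgroup G))),
      Finset.sum_congr rfl (g := fun _ => c) (fun (w : (P : Subgroup G)) hw => hc w w.2 fun h =>
        Finset.ne_of_mem_erase hw (Subtype.ext h)),
      Finset.sum_const, Finset.card_erase_of_mem (Finset.mem_univ _), Finset.card_univ,
      ← Nat.card_eq_fintype_card, F.setup.card, nsmul_eq_mul, Nat.cast_sub hp.pos,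
      OneMemClass.coe_one, Nat.cast_one]
    ring
  have hcf := Char.isClassFunction_of_isIrr χ.2
  have hsum : ∀ {φ : G → ℂ} {K : ℂ}, classInner φ (χ : G → ℂ) = K →
      ∑ g, φ g * (χ : G → ℂ) g = 2 * p * M * K := by
    intro φ K h
    rw [classInner] at h
    simp only [hreal] at h
    rw [← h, ← hG', mul_inv_cancel_left₀ Char.card_ne_zero]
  have hT : ∀ k : ℕ, ∑ g ∈ R, (χ : G → ℂ) g ^ k = ((∑ g ∈ R, v g ^ k : ℤ) : ℂ) := fun k => by
    push_cast
    exact Finset.sum_congr rfl fun g _ => by rw [hv]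
  obtain ⟨N, hN⟩ := Char.classInner_isCharacter_eq_natCast
    (Char.isCharacter_mul (Char.IsIrr.isCharacter χ.2) (Char.IsIrr.isCharacter χ.2))
    (Char.IsIrr.isCharacter χ.2)
  set m : ℤ := (n : ℤ) * p + 1 with hm
  have hmM : (m : ℂ) = M := by rw [hm, hM]; push_cast; ring
  have hT1 : ∑ g ∈ R, v g = m * ((p : ℤ) - 1) := by
    have h1 := hsplit _ hcf (-1) hvP
    have h2 : classInner (χ : G → ℂ) (Blocks.triv G : G → ℂ) = 0 :=
      Char.classInner_irr_ne χ.2 (Blocks.triv G).2 fun h => hχt (Subtype.ext h)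
    simp only [classInner, Blocks.triv, map_one, mul_one, mul_eq_zero, inv_eq_zero,
      Char.card_ne_zero, false_or] at h2
    have h3 : ((∑ g ∈ R, v g : ℤ) : ℂ) = ((m * ((p : ℤ) - 1) : ℤ) : ℂ) := by
      have h4 := hT 1
      simp only [pow_one] at h4
      rw [← h4]
      push_cast
      rw [hmM]
      rw [h2] at h1
      linear_combination -h1
    exact_mod_cast h3
  have hT2 : ∑ g ∈ R, v g ^ 2 = m * ((p : ℤ) + 1) := by
    have h1 := hsplit _ (isClassFunction_mul hcf hcf) 1 fun z hz hz1 => by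
      rw [Pi.mul_apply, hvP z hz hz1]; norm_num
    have h2 := hsum (Char.classInner_irr_self χ.2)
    have h3 : ((∑ g ∈ R, v g ^ 2 : ℤ) : ℂ) = ((m * ((p : ℤ) + 1) : ℤ) : ℂ) := by
      rw [← hT 2]
      simp only [pow_two]
      push_cast
      rw [hmM]
      simp only [Pi.mul_apply] at h1
      rw [h2] at h1
      linear_combination -h1
    exact_mod_cast h3
  have hT3 : ∑ g ∈ R, v g ^ 3 = 2 * p * m * N + m * ((p : ℤ) - 1) := by
    have h1 := hsplit _ (isClassFunction_mul (isClassFunction_mul hcf hcf) hcf) (-1)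
      fun z hz hz1 => by rw [Pi.mul_apply, Pi.mul_apply, hvP z hz hz1]; norm_num
    have h2 := hsum hN
    have h3 : ((∑ g ∈ R, v g ^ 3 : ℤ) : ℂ) =
        ((2 * p * m * N + m * ((p : ℤ) - 1) : ℤ) : ℂ) := by
      rw [← hT 3]
      simp only [pow_succ, pow_zero, one_mul]
      push_cast
      rw [hmM]
      simp only [Pi.mul_apply] at h1 h2
      rw [h2] at h1
      linear_combination -h1
    exact_mod_cast h3
  -- the sum of the exceptional characters
  set S : G → ℂ := ∑ η ∈ D.Y, (η : G → ℂ) with hSdef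
  have hSc : IsCharacter G S := Char.isCharacter_sum _ _ fun η _ => Char.IsIrr.isCharacter η.2
  have hYreg : ∀ η ∈ D.Y, ∀ g : G, ¬ p ∣ orderOf g → (η : G → ℂ) g = (χ : G → ℂ) g - 1 := by
    intro η hη g hg
    have h1 := D.rel η hη 1 not_dvd_one_order
    have h2 := D.rel η hη g hg
    rw [hX, Finset.sum_pair hχt.symm, D.a_triv, ha] at h1 h2
    rw [hd', degree_cast η, hY η hη, Nat.cast_sub (by omega : 2 ≤ p)] at h1
    simp [Blocks.triv] at h1 h2
    have hs : (D.s : ℂ) = 1 := by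
      have hne : (p : ℂ) - 2 ≠ 0 := by
        rw [sub_ne_zero]
        intro h
        have : p = 2 := by exact_mod_cast h
        omega
      have h3 : ((D.s : ℂ) - 1) * ((p : ℂ) - 2) = 0 := by linear_combination h1
      exact sub_eq_zero.1 ((mul_eq_zero.1 h3).resolve_right hne)
    rw [hs] at h2
    linear_combination h2
  have hSreg : ∀ g ∈ R, S g = (t : ℂ) * ((χ : G → ℂ) g - 1) := fun g hg => by
    rw [hSdef, Finset.sum_apply, Finset.sum_congr rfl (g := fun _ => (χ : G → ℂ) g - 1)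
      (fun η hη => hYreg η hη g (Finset.mem_filter.1 hg).2), Finset.sum_const, hYc, nsmul_eq_mul]
  have hSP : ∀ z ∈ (P : Subgroup G), z ≠ 1 → S z = 1 := by
    intro z hz hz1
    have h := Char.second_orthogonality z 1
    rw [if_neg (fun h => hz1 (isConj_one_right.1 h.symm))] at h
    rw [← Finset.sum_add_sum_compl (D.X ∪ D.Y), Finset.sum_union D.disj,
      Finset.sum_eq_zero (s := (D.X ∪ D.Y)ᶜ) (fun θ hθ => by
        rw [(hout θ (Finset.mem_compl.1 hθ)).1 z hz hz1, zero_mul]),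
      hX, Finset.sum_pair hχt.symm,
      Finset.sum_congr (s₁ := D.Y) rfl (g := fun η => (η : G → ℂ) z * ((p : ℂ) - 2)) (fun η hη => by
        rw [degree_cast η, hY η hη, Nat.cast_sub (by omega : 2 ≤ p), Nat.cast_two, map_sub,
          Complex.conj_natCast, map_ofNat]),
      ← Finset.sum_mul, hvP z hz hz1, hd'] at h
    simp [Blocks.triv] at h
    have hne : (p : ℂ) - 2 ≠ 0 := by
      rw [sub_ne_zero]
      intro h'
      have : p = 2 := by exact_mod_cast h'
      omega
    have h3 : (S z - 1) * ((p : ℂ) - 2) = 0 := by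
      rw [hSdef, Finset.sum_apply]; linear_combination h
    exact sub_eq_zero.1 ((mul_eq_zero.1 h3).resolve_right hne)
  obtain ⟨K, hK⟩ := Char.classInner_isCharacter_eq_natCast (Char.isCharacter_mul hSc hSc)
    (Char.IsIrr.isCharacter χ.2)
  have hKeq : 2 * p * m * (K : ℤ) = (t : ℤ) ^ 2 * (∑ g ∈ R, v g ^ 3 - 2 * ∑ g ∈ R, v g ^ 2 +
      ∑ g ∈ R, v g) - m * ((p : ℤ) - 1) := by
    have hScf := Char.isClassFunction_of_isCharacter hSc
    have h1 := hsplit _ (isClassFunction_mul (isClassFunction_mul hScf hScf) hcf) (-1)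
      fun z hz hz1 => by rw [Pi.mul_apply, Pi.mul_apply, hSP z hz hz1, hvP z hz hz1]; norm_num
    have h2 := hsum hK
    simp only [Pi.mul_apply] at h1 h2
    rw [h2, Finset.sum_congr rfl (g := fun g => (t : ℂ) ^ 2 * ((χ : G → ℂ) g ^ 3 -
      2 * (χ : G → ℂ) g ^ 2 + (χ : G → ℂ) g ^ 1)) (fun g hg => by rw [hSreg g hg]; ring),
      ← Finset.mul_sum, Finset.sum_add_distrib, Finset.sum_sub_distrib, ← Finset.mul_sum,
      hT, hT, hT] at h1
    simp only [pow_one] at h1
    rw [← hmM] at h1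
    have h3 : ((2 * p * m * (K : ℤ) : ℤ) : ℂ) = (((t : ℤ) ^ 2 * (∑ g ∈ R, v g ^ 3 -
        2 * ∑ g ∈ R, v g ^ 2 + ∑ g ∈ R, v g) - m * ((p : ℤ) - 1) : ℤ) : ℂ) := by
      push_cast at h1 ⊢
      linear_combination h1
    exact_mod_cast h3
  rw [hT1, hT2, hT3] at hKeq
  have hm0 : (0 : ℤ) < m := by positivity
  have hpZ : (p : ℤ) = 2 * t + 1 := by exact_mod_cast ht
  have hN1 : 1 ≤ N := by
    by_contra hN0
    rw [show N = 0 by omega, hpZ] at hKeq
    push_cast at hKeq
    have h1 : 2 * ((2 * (t : ℤ) + 1) * m * ((K : ℤ) + t)) = 0 := by linear_combination hKeq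
    have h2 : (0 : ℤ) < (2 * (t : ℤ) + 1) * m * ((K : ℤ) + t) := by
      have : (0 : ℤ) < t := by omega
      positivity
    omega
  have hterm : ∀ g ∈ R, v g ^ 3 - (p : ℤ) * v g ^ 2 + ((p : ℤ) - 1) * v g ≤ 0 := by
    intro g _
    rw [show v g ^ 3 - (p : ℤ) * v g ^ 2 + ((p : ℤ) - 1) * v g =
      (v g * (v g - 1)) * (v g - ((p : ℤ) - 1)) by ring]
    refine mul_nonpos_of_nonneg_of_nonpos ?_ (by have := hvle g; omega)
    rcases le_or_gt (v g) 0 with h | h
    · exact mul_nonneg_of_nonpos_of_nonpos h (by omega)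
    · exact mul_nonneg h.le (by omega)
  have hE : ∑ g ∈ R, (v g ^ 3 - (p : ℤ) * v g ^ 2 + ((p : ℤ) - 1) * v g) =
      2 * p * m * ((N : ℤ) - 1) := by
    rw [Finset.sum_add_distrib, Finset.sum_sub_distrib, ← Finset.mul_sum, ← Finset.mul_sum,
      hT1, hT2, hT3]
    ring
  have hN2 : N = 1 := by
    by_contra hne
    have h1 := Finset.sum_nonpos hterm
    rw [hE] at h1
    have h2 : (0 : ℤ) < 2 * p * m * ((N : ℤ) - 1) := by
      have : (0 : ℤ) < (N : ℤ) - 1 := by omega
      have : (0 : ℤ) < p := by omega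
      positivity
    omega
  have hzero := (Finset.sum_eq_zero_iff_of_nonpos hterm).1 (by rw [hE, hN2]; simp)
  have hsq : ∑ g ∈ R, (v g ^ 2 - v g) = 2 * m := by
    rw [Finset.sum_sub_distrib, hT1, hT2]; ring
  rw [Finset.sum_eq_single (1 : G) (fun g hg hg1 => ?_)
    (fun h => absurd (hR ▸ Finset.mem_filter.2 ⟨Finset.mem_univ (1 : G), not_dvd_one_order⟩ : (1 : G) ∈ R) h),
    hv1] at hsq
  · have h := hsq.symm
    rw [hm] at h
    have h' : ((2 * (n * p + 1) : ℕ) : ℤ) = (((p - 1) * (p - 2) : ℕ) : ℤ) := by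
      push_cast [Nat.cast_sub (show 1 ≤ p by omega), Nat.cast_sub (show 2 ≤ p by omega)]
      linear_combination h
    exact_mod_cast h'
  · have h := hzero g hg
    rw [show v g ^ 3 - (p : ℤ) * v g ^ 2 + ((p : ℤ) - 1) * v g =
      (v g ^ 2 - v g) * (v g - ((p : ℤ) - 1)) by ring] at h
    exact (mul_eq_zero.1 h).resolve_right fun h' => hg1 (hvmax g (sub_eq_zero.1 h'))

end Cfsg.Agent.Fg24.Brauer
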