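import Cfsg.Agent.Fg24.Brauer.DegTwoP
import Cfsg.Agent.DegreeTwoP.Main
import Cfsg.Agent.Classical.SmallSimple
import Cfsg.Agent.Classical.Linear2

/-!
# Primitive groups of degree `2p` with `|N(P)| = 2p`
-/

set_option autoImplicit false
set_option linter.unusedSectionVars false

open Cfsg MulAction

namespace Cfsg.Agent.Fg24.Brauer

open Cfsg.Agent.BlockThms.OrderP

universe u

variable {α : Type u} [Fintype α] [DecidableEq α] {p : ℕ} [Fact p.Prime]

set_option maxHeartbeats 800000 in
theorem degree_two_p (hp3 : 3 < p) (hα : Fintype.card α = 2 * p) (G : Subgroup (Equiv.Perm α))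
    (hprim : IsPreprimitive G α) (hnot2 : ¬ IsMultiplyPretransitive G α 2) (P : Sylow p G)
    (hN : Nat.card (Subgroup.normalizer ((P : Subgroup G) : Set G)) = 2 * p) :
    p = 5 ∧ Nonempty (G ≃* alternatingGroup (Fin 5)) := by
  classical
  have := Fintype.ofFinite G
  have hp : p.Prime := Fact.out
  have hp5 : 5 ≤ p := by
    by_contra h
    rw [show p = 4 by omega] at hp
    norm_num at hp
  have := hprim.toIsPretransitive
  have : Nonempty α := Fintype.card_pos_iff.1 (by omega)
  obtain ⟨a₀⟩ := ‹Nonempty α›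
  obtain ⟨hrank, b, hb0, hpb, -⟩ := (DegreeTwoP.main hp hα G hprim a₀).resolve_left hnot2
  have hN' : Nat.card (Subgroup.normalizer (P : Set G)) = 2 * p := hN
  have hidxS : (stabilizer G a₀).index = 2 * p := by
    rw [index_stabilizer_of_transitive G a₀, Nat.card_eq_fintype_card, hα]
  have hdvd : p ∣ Nat.card G :=
    dvd_trans (dvd_mul_left p 2) (hidxS ▸ Subgroup.index_dvd_card _)
  have hbigD : ∀ D : Subgroup G, D.Normal → D ≠ ⊥ → 2 * p ∣ Nat.card D := by
    intro D hD hne
    have : IsPretransitive D α := by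
      refine IsQuasiPreprimitive.isPretransitive_of_normal fun huniv => hne ?_
      rw [Subgroup.eq_bot_iff_forall]
      intro d hd
      refine Subtype.ext (Equiv.ext fun w => ?_)
      have hw : w ∈ fixedPoints D α := huniv ▸ Set.mem_univ w
      exact hw ⟨d, hd⟩
    have h := Subgroup.index_dvd_card (stabilizer D a₀)
    rwa [index_stabilizer_of_transitive D a₀, Nat.card_eq_fintype_card, hα] at h
  have hPc : Nat.card (P : Subgroup G) = p := by
    obtain ⟨k, hk⟩ := IsPGroup.iff_card.1 P.isPGroup'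
    have h1 : p ^ k ∣ 2 * p := by
      rw [← hk, ← hN]; exact Subgroup.card_dvd_of_le Subgroup.le_normalizer
    have h2 : p ∣ Nat.card (P : Subgroup G) := P.dvd_card_of_dvd_card hdvd
    match k with
    | 0 => rw [hk, pow_zero] at h2; exact absurd h2 hp.not_dvd_one
    | 1 => rw [hk, pow_one]
    | k + 2 =>
      exfalso
      rw [pow_succ] at h1
      have h3 : p ∣ 2 := dvd_trans (dvd_pow_self p k.succ_ne_zero)
        (Nat.dvd_of_mul_dvd_mul_right hp.pos h1)
      have := Nat.le_of_dvd two_pos h3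
      omega
  have hcoreG : Cfsg.pPrimeCore p G = ⊥ := by
    by_contra h
    exact Core.not_dvd_card_pPrimeCore (dvd_trans (dvd_mul_left p 2) (hbigD _ inferInstance h))
  -- the automizer has order two
  obtain ⟨hS, hcent⟩ : Setup P 2 ∧
      Subgroup.centralizer (P : Set G) = (P : Subgroup G) := by
    obtain ⟨e, he⟩ : ∃ e, e = (Subgroup.centralizer (P : Set G)).relIndex
      (Subgroup.normalizer (P : Set G)) := ⟨_, rfl⟩
    have hS : Setup P e := ⟨hPc, he.symm⟩
    have hmul : Nat.card (Subgroup.normalizer (P : Set G)) =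
        e * Nat.card (Subgroup.centralizer (P : Set G)) := hS.card_normalizer
    have he1 : e ≠ 1 := by
      intro h
      have hle : Subgroup.normalizer (P : Set G) ≤ Subgroup.centralizer (P : Set G) :=
        Subgroup.relIndex_eq_one.1 (he ▸ h)
      obtain ⟨K, hK, hc, k, hk⟩ := Fusion.hasNormalPComplement_iff_exists.1
        (Fusion.hasNormalPComplement_of_normalizer_le_centralizer P hle)
      have hKbot : K = ⊥ := le_bot_iff.1 (hcoreG ▸ Core.le_pPrimeCore hc)
      rw [hKbot, Subgroup.index_bot] at hk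
      have hk1 : k ≤ 1 := by
        have h2 : p ^ k ∣ Nat.card G := hk ▸ dvd_rfl
        rwa [hp.pow_dvd_iff_le_factorization Nat.card_pos.ne', hS.factorization.2] at h2
      have h3 : 2 * p ∣ p ^ k := hk ▸ hidxS ▸ Subgroup.index_dvd_card _
      have h4 := Nat.le_of_dvd (pow_pos hp.pos k) h3
      have h5 : p ^ k ≤ p := (Nat.pow_le_pow_right hp.pos hk1).trans (pow_one p).le
      omega
    obtain ⟨m, hm⟩ : p ∣ Nat.card (Subgroup.centralizer (P : Set G)) :=
      by have h2 := Subgroup.card_dvd_of_le hS.le_centralizer; rwa [hPc] at h2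
    rw [hN', hm, mul_left_comm, mul_comm 2 p] at hmul
    have hem : 2 = e * m := Nat.eq_of_mul_eq_mul_left hp.pos hmul
    have he2 : e = 2 := ((Nat.dvd_prime Nat.prime_two).1 ⟨m, hem⟩).resolve_left he1
    subst he2
    refine ⟨hS, (Subgroup.eq_of_le_of_card_ge hS.le_centralizer ?_).symm⟩
    rw [hm, show m = 1 by omega, mul_one, hPc]
  have : NeZero (2 : ℕ) := ⟨two_ne_zero⟩
  -- simplicity
  have : Nontrivial G := by
    obtain ⟨x, -, hx1, -⟩ := hS.exists_gen
    exact nontrivial_of_ne x 1 hx1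
  have hsimp : IsSimpleGroup G := by
    refine ⟨fun D hD => ?_⟩
    refine or_iff_not_imp_left.2 fun hne => ?_
    have h2p := hbigD D hD hne
    have hle : (P : Subgroup G) ≤ D := le_of_dvd_card hPc (dvd_trans (dvd_mul_left p 2) h2p)
    by_contra hDt
    have hfr : Subgroup.normalizer (P : Set G) ⊔ D = ⊤ := Sylow.normalizer_sup_eq_top' P hle
    have hND : Subgroup.normalizer (P : Set G) ⊓ D = (P : Subgroup G) := by
      refine (Subgroup.eq_of_le_of_card_ge (le_inf Subgroup.le_normalizer hle) ?_).symm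
      rw [hPc]
      have h0 := Subgroup.card_dvd_of_le (le_inf Subgroup.le_normalizer hle :
        (P : Subgroup G) ≤ Subgroup.normalizer (P : Set G) ⊓ D)
      rw [hPc] at h0
      obtain ⟨r, hr⟩ := h0
      have h1 : Nat.card ↥(Subgroup.normalizer (P : Set G) ⊓ D) ∣ 2 * p :=
        hN' ▸ Subgroup.card_dvd_of_le inf_le_left
      rw [hr, mul_comm 2 p] at h1
      rcases (Nat.dvd_prime Nat.prime_two).1 (Nat.dvd_of_mul_dvd_mul_left hp.pos h1) with h | h
      · show Nat.card ↥(Subgroup.normalizer (P : Set G) ⊓ D) ≤ p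
        rw [hr, h, mul_one]
      · exfalso
        refine hDt (top_le_iff.1 (hfr ▸ sup_le ?_ le_rfl))
        have h3 : Subgroup.normalizer (P : Set G) ⊓ D = Subgroup.normalizer (P : Set G) :=
          Subgroup.eq_of_le_of_card_ge inf_le_left (by rw [hr, h, hN', mul_comm 2 p])
        exact inf_eq_left.1 h3
    have hcomp : Cfsg.HasNormalPComplement p D := by
      refine Fusion.hasNormalPComplement_of_normalizer_le_centralizer (P.subtype hle) fun c hc => ?_
      have hc' : (c : G) ∈ (P : Subgroup G) := by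
        rw [← hND]
        refine ⟨Subgroup.mem_normalizer_iff.2 fun w => ?_, c.2⟩
        constructor
        · intro hw
          exact (Subgroup.mem_normalizer_iff.1 hc ⟨w, hle hw⟩).1 hw
        · intro hw
          have hwD : w ∈ D := by
            have := D.mul_mem (D.mul_mem (D.inv_mem c.2) (hle hw)) c.2
            rwa [show (c : G)⁻¹ * ((c : G) * w * (c : G)⁻¹) * c = w by group] at this
          exact (Subgroup.mem_normalizer_iff.1 hc ⟨w, hwD⟩).2 hw
      exact Subgroup.mem_centralizer_iff.2 fun w hw => Subtype.ext (hS.comm hw hc')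
    obtain ⟨K, hK, hc, k, hk⟩ := Fusion.hasNormalPComplement_iff_exists.1 hcomp
    have hKbot : K = ⊥ := by
      have h1 : K.map D.subtype ≤ ⊥ := by
        refine (Subgroup.map_mono (Core.le_pPrimeCore hc)).trans ?_
        rw [Core.map_pPrimeCore_normal, hcoreG, bot_inf_eq]
      exact (Subgroup.map_eq_bot_iff_of_injective _ D.subtype_injective).1 (le_bot_iff.1 h1)
    rw [hKbot, Subgroup.index_bot] at hk
    rw [hk] at h2p
    have hk1 : k ≤ 1 := by
      have h2 : p ^ k ∣ Nat.card G := hk ▸ Subgroup.card_subgroup_dvd_card D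
      rwa [hp.pow_dvd_iff_le_factorization Nat.card_pos.ne', hS.factorization.2] at h2
    have := Nat.le_of_dvd (pow_pos hp.pos k) h2p
    have : p ^ k ≤ p := (Nat.pow_le_pow_right hp.pos hk1).trans (pow_one p).le
    omega
  have hperf : commutator G = ⊤ := by
    rcases (inferInstance : (commutator G).Normal).eq_bot_or_eq_top with h | h
    · exfalso
      have h' : Subgroup.centralizer ((⊤ : Subgroup G) : Set G) = ⊤ := by
        rw [commutator_def, Subgroup.commutator_eq_bot_iff_le_centralizer] at h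
        exact top_le_iff.1 h
      have htop : Subgroup.centralizer (P : Set G) = ⊤ :=
        top_le_iff.1 (h'.ge.trans (Subgroup.centralizer_le (Set.subset_univ _) ))
      rw [hcent] at htop
      have h3 := hidxS ▸ Subgroup.index_dvd_card (stabilizer G a₀)
      rw [← Subgroup.card_top (G := G), ← htop, hPc] at h3
      have := Nat.le_of_dvd hp.pos h3
      omega
    · exact h
  have hnn : ¬ (P : Subgroup G).Normal := fun hn => by
    rcases hn.eq_bot_or_eq_top with h | h
    · rw [h, Subgroup.card_bot] at hPc; omega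
    · have h3 := hidxS ▸ Subgroup.index_dvd_card (stabilizer G a₀)
      rw [← Subgroup.card_top (G := G), ← h, hPc] at h3
      have := Nat.le_of_dvd hp.pos h3
      omega
  obtain ⟨D⟩ := exists_blockData hS le_rfl
  obtain ⟨F⟩ := exists_frame hS hcent
  obtain ⟨n, v, hn0, -, hidx, hC, hG, -⟩ := exists_order hS hnn
  rw [hcent, hPc] at hC
  have hv : v = 1 := (Nat.eq_of_mul_eq_mul_left hp.pos (hC.symm.trans (mul_one p).symm))
  rw [hv, mul_one] at hG
  have hG' : Nat.card G = p * 2 * (n * p + 1) := by rw [hG]; ring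
  -- the permutation character
  set π : G → ℂ := fun g => (Nat.card (fixedBy α g) : ℂ) with hπdef
  have hπc : IsCharacter G π := Char.pi_isCharacter
  have hπ0 : ∀ g : G, p ∣ orderOf g → π g = 0 := by
    intro g hg
    obtain ⟨j, hj⟩ := hg
    have hgo : orderOf (g ^ j) = p := by
      rw [orderOf_pow_of_dvd ?_ (hj ▸ dvd_mul_left j p), hj, Nat.mul_div_cancel _ ?_]
      · exact Nat.pos_of_ne_zero fun h => by
          rw [h, mul_zero] at hj; exact (orderOf_pos g).ne' hj
      · exact fun h => by rw [h, mul_zero] at hj; exact (orderOf_pos g).ne' hj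
    have hempty : fixedBy α g = ∅ := Set.eq_empty_of_forall_notMem fun w hw => hnot2
      (DegreeTwoP.two_trans_of_fix hp hα G hprim (g ^ j).2
        (by rw [Subgroup.orderOf_coe, hgo]) (u := w)
        (mem_stabilizer_iff.1 (pow_mem (mem_stabilizer_iff.2 hw) j)))
    rw [hπdef]
    simp [hempty]
  have hm : ∀ θ : IrrCharacter G, ∃ k : ℕ, classInner π (θ : G → ℂ) = k := fun θ =>
    Char.classInner_isCharacter_eq_natCast hπc (Char.IsIrr.isCharacter θ.2)
  choose m hm using hm
  have hexp : ∀ g, π g = ∑ θ : IrrCharacter G, (m θ : ℂ) * (θ : G → ℂ) g := fun g => by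
    conv_lhs => rw [Char.classFun_expansion (Char.isClassFunction_of_isCharacter hπc)]
    simp [Finset.sum_apply, hm]
  have hπ1 : π 1 = ((2 * p : ℕ) : ℂ) := by
    rw [hπdef]
    simp [fixedBy_one_eq_univ, Nat.card_eq_fintype_card, hα]
  have hmt : m (Blocks.triv G) = 1 := by
    have h := hm (Blocks.triv G)
    have h2 : classInner π (fun _ => (1 : ℂ)) = 1 := Char.pi_inner_one
    rw [show ((Blocks.triv G : IrrCharacter G) : G → ℂ) = fun _ => 1 from rfl, h2] at h
    exact_mod_cast h.symm
  have hsq : ∑ θ : IrrCharacter G, m θ ^ 2 = 3 := by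
    have h := Char.pi_inner_self (G := G) (Ω := α) a₀
    rw [hrank, ← hπdef, Char.classInner_eq_sum (Char.isClassFunction_of_isCharacter hπc)] at h
    have h2 : ∀ θ : IrrCharacter G, classInner (θ : G → ℂ) π = (m θ : ℂ) := fun θ => by
      rw [← Char.classInner_conj_symm, hm, Complex.conj_natCast]
    simp only [hm, h2, ← pow_two] at h
    exact_mod_cast h
  -- the block
  obtain ⟨η₀, hη₀⟩ : D.Y.Nonempty := Finset.card_pos.1 (by rw [D.cardY]; omega)
  obtain ⟨χ, hχ⟩ : (D.X.erase (Blocks.triv G)).Nonempty := Finset.card_pos.1 (by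
    rw [Finset.card_erase_of_mem D.triv_mem, D.cardX]; omega)
  obtain ⟨hχt, hχX⟩ := Finset.mem_erase.1 hχ
  have hX : D.X = {Blocks.triv G, χ} := (Finset.eq_of_subset_of_card_le
    (Finset.insert_subset D.triv_mem (Finset.singleton_subset_iff.2 hχX))
    (by rw [D.cardX, Finset.card_pair hχt.symm])).symm
  set f := charDegree (χ : G → ℂ) with hf
  set y := charDegree (η₀ : G → ℂ) with hy
  have hYd : ∀ η ∈ D.Y, charDegree (η : G → ℂ) = y := fun η hη => by
    have h := D.regY η hη η₀ hη₀ 1 not_dvd_one_order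
    rw [degree_cast, degree_cast] at h
    exact_mod_cast h
  have hrel : (D.s : ℂ) * y + (1 + (D.a χ : ℂ) * f) = 0 := by
    have h := D.rel η₀ hη₀ 1 not_dvd_one_order
    rw [hX, Finset.sum_pair hχt.symm, D.a_triv, degree_cast η₀, degree_cast χ, ← hf, ← hy] at h
    simpa [Blocks.triv] using h
  obtain ⟨z, hz, hz1, hzo⟩ := hS.exists_gen
  have hout : ∀ θ : IrrCharacter G, θ ∉ D.X ∪ D.Y → (θ : G → ℂ) z = 0 := by
    intro θ hθ
    rw [Finset.mem_union, not_or] at hθ
    rw [← F.avg_eq hz hz1 (θ : G → ℂ)]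
    exact D.out θ hθ.1 hθ.2 z hz hz1
  have hy0 : 0 < y := Blocks.charDegree_pos η₀.2
  have hSz : ∑ η ∈ D.Y, (η : G → ℂ) z = (D.s : ℂ) := by
    have h := Char.second_orthogonality z 1
    rw [if_neg (fun h => hz1 (isConj_one_right.1 h.symm))] at h
    rw [← Finset.sum_add_sum_compl (D.X ∪ D.Y), Finset.sum_union D.disj,
      Finset.sum_eq_zero (s := (D.X ∪ D.Y)ᶜ) (fun θ hθ => by
        rw [hout θ (Finset.mem_compl.1 hθ), zero_mul]),
      hX, Finset.sum_pair hχt.symm,
      Finset.sum_congr (s₁ := D.Y) rfl (g := fun η => (η : G → ℂ) z * (y : ℂ)) (fun η hη => by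
        rw [degree_cast, hYd η hη, Complex.conj_natCast]),
      ← Finset.sum_mul, D.val_P hχX hz hz1, degree_cast χ, ← hf] at h
    simp [Blocks.triv] at h
    have h3 : (∑ η ∈ D.Y, (η : G → ℂ) z - (D.s : ℂ)) * (y : ℂ) = 0 := by
      linear_combination h - hrel
    exact sub_eq_zero.1 ((mul_eq_zero.1 h3).resolve_right (Nat.cast_ne_zero.2 hy0.ne'))
  have hmY : ∀ η ∈ D.Y, m η = m η₀ := by
    intro η hη
    have h : classInner π (η : G → ℂ) = classInner π (η₀ : G → ℂ) := by
      unfold classInner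
      congr 1
      refine Finset.sum_congr rfl fun g _ => ?_
      by_cases hg : p ∣ orderOf g
      · rw [hπ0 g hg, zero_mul, zero_mul]
      · rw [D.regY η hη η₀ hη₀ g hg]
    rw [hm, hm] at h
    exact_mod_cast h
  have hval : (1 : ℂ) + (m χ : ℂ) * (D.a χ : ℂ) + (m η₀ : ℂ) * (D.s : ℂ) = 0 := by
    have h := hexp z
    rw [hπ0 z (hzo ▸ dvd_rfl), ← Finset.sum_add_sum_compl (D.X ∪ D.Y), Finset.sum_union D.disj,
      Finset.sum_eq_zero (s := (D.X ∪ D.Y)ᶜ) (fun θ hθ => by
        rw [hout θ (Finset.mem_compl.1 hθ), mul_zero]),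
      hX, Finset.sum_pair hχt.symm,
      Finset.sum_congr (s₁ := D.Y) rfl (g := fun η => (m η₀ : ℂ) * (η : G → ℂ) z) (fun η hη => by
        rw [hmY η hη]),
      ← Finset.mul_sum, hSz, D.val_P hχX hz hz1, hmt] at h
    simp [Blocks.triv] at h
    linear_combination -h
  have hdeg : 1 + m χ * f + D.Y.card * (m η₀ * y) +
      ∑ θ ∈ (D.X ∪ D.Y)ᶜ, m θ * charDegree (θ : G → ℂ) = 2 * p := by
    have h := hexp 1
    simp only [degree_cast] at h
    rw [hπ1] at h
    have h' : 2 * p = ∑ θ : IrrCharacter G, m θ * charDegree (θ : G → ℂ) := by exact_mod_cast h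
    rw [h', ← Finset.sum_add_sum_compl (D.X ∪ D.Y), Finset.sum_union D.disj, hX,
      Finset.sum_pair hχt.symm,
      Finset.sum_congr (s₁ := D.Y) rfl (g := fun _ => m η₀ * y) (fun η hη => by
        rw [hmY η hη, hYd η hη]),
      Finset.sum_const, smul_eq_mul, hmt, Blocks.charDegree_eq (n := 1) (by simp [Blocks.triv])]
  have hYc : 2 ≤ D.Y.card := by rw [D.cardY]; omega
  have hfm : (f : ℤ) ≡ D.a χ [ZMOD p] := D.degX χ hχX
  have hf2 : 2 ≤ f := by
    by_contra h
    have hf1 : charDegree (χ : G → ℂ) = 1 := by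
      have := Blocks.charDegree_pos χ.2
      omega
    exact hχt (eq_triv_of_degree_one hperf (by rw [degree_cast, hf1, Nat.cast_one]))
  have hrelZ : D.s * (y : ℤ) + (1 + D.a χ * (f : ℤ)) = 0 := by exact_mod_cast hrel
  have hvalZ : (1 : ℤ) + (m χ : ℤ) * D.a χ + (m η₀ : ℤ) * D.s = 0 := by exact_mod_cast hval
  obtain ⟨ha, hfy, hm0⟩ : D.a χ = -1 ∧ f = y + 1 ∧ m η₀ = 0 := by
    rcases D.a_or χ hχX with ha | ha <;> rw [ha] at hfm hrelZ hvalZ
    · exfalso
      have hs : D.s = -1 := by
        rcases D.s_or with h | h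
        · rw [h] at hrelZ; omega
        · exact h
      rw [hs] at hrelZ hvalZ
      have hfp : p + 1 ≤ f := by
        have h1 : (p : ℤ) ∣ (f : ℤ) - 1 := Int.modEq_iff_dvd.1 hfm.symm
        have := Int.le_of_dvd (by omega) h1
        omega
      have h2 := Nat.mul_le_mul hYc (Nat.mul_le_mul (show 1 ≤ m η₀ by omega) (show p + 2 ≤ y by omega))
      omega
    · have hs : D.s = 1 := by
        rcases D.s_or with h | h
        · exact h
        · rw [h] at hrelZ; omega
      rw [hs] at hrelZ hvalZ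
      refine ⟨ha, by omega, ?_⟩
      by_contra hm1
      have hfp : p - 1 ≤ f := by
        have h1 : (p : ℤ) ∣ (f : ℤ) + 1 := by
          have := Int.modEq_iff_dvd.1 hfm.symm
          rwa [sub_neg_eq_add] at this
        have := Int.le_of_dvd (by omega) h1
        omega
      have h2 := Nat.mul_le_mul hYc (Nat.mul_le_mul (show 1 ≤ m η₀ by omega) (show p - 2 ≤ y by omega))
      have h3 := Nat.mul_le_mul (show 2 ≤ m χ by omega) hfp
      omega
  have hm1 : m χ = 1 := by rw [ha, hm0] at hvalZ; omega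
  rw [hm0, hm1, zero_mul, mul_zero, one_mul, add_zero] at hdeg
  obtain ⟨u, hu⟩ : ∃ u, f + 1 = u * p := by
    rw [ha] at hfm
    have h1 : (p : ℤ) ∣ ((f + 1 : ℕ) : ℤ) := by
      have := Int.modEq_iff_dvd.1 hfm.symm
      rw [sub_neg_eq_add] at this
      exact_mod_cast this
    obtain ⟨u, hu⟩ := Int.natCast_dvd_natCast.1 h1
    exact ⟨u, hu.trans (mul_comm _ _)⟩
  have hu1 : u = 1 := by
    have hu0 : 0 < u := Nat.pos_of_ne_zero fun h => by rw [h, zero_mul] at hu; omega
    by_contra h
    have h2 := Nat.mul_le_mul_right p (show 2 ≤ u by omega)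
    have h3 : ∑ θ ∈ (D.X ∪ D.Y)ᶜ, m θ * charDegree (θ : G → ℂ) = 0 := by omega
    rw [← Finset.sum_add_sum_compl (D.X ∪ D.Y), Finset.sum_union D.disj, hX,
      Finset.sum_pair hχt.symm,
      Finset.sum_eq_zero (s := D.Y) (fun η hη => by rw [hmY η hη, hm0]; rfl),
      Finset.sum_eq_zero (s := ({Blocks.triv G, χ} ∪ D.Y)ᶜ) (fun θ hθ => by
        rw [(mul_eq_zero.1 (Finset.sum_eq_zero_iff.1 h3 θ (hX ▸ hθ))).resolve_right
          (Blocks.charDegree_pos θ.2).ne']; rfl),
      hmt, hm1] at hsq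
    omega
  rw [hu1, one_mul] at hu
  have hfaith : ∀ g : G, (χ : G → ℂ) g = (χ : G → ℂ) 1 → g = 1 := by
    intro g hg
    set W := Char.kerSubgroup (Char.IsIrr.isCharacter χ.2) with hW
    have hWn : W.Normal := ⟨fun w hw k => by
      rw [hW, Char.mem_kerSubgroup] at hw ⊢
      rw [Char.isClassFunction_of_isIrr χ.2]
      exact hw⟩
    have hgW : g ∈ W := by rw [hW, Char.mem_kerSubgroup]; exact hg
    rcases hWn.eq_bot_or_eq_top with h | h
    · rwa [h, Subgroup.mem_bot] at hgW
    · exfalso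
      have h1 : z ∈ W := h ▸ Subgroup.mem_top z
      rw [hW, Char.mem_kerSubgroup, D.val_P hχX hz hz1, ha, degree_cast, ← hf] at h1
      have h2 : ((f + 1 : ℕ) : ℂ) = 0 := by push_cast at h1 ⊢; linear_combination -h1
      exact Nat.succ_ne_zero f (by exact_mod_cast h2)
  have hord := order_of_deg_sub_one hp5 F D hG' hχX ha (show f = p - 1 by omega)
    (fun η hη => by rw [hYd η hη]; omega) hfaith
  have hn2 : 2 * n + 3 = p := by
    obtain ⟨q, hq⟩ : ∃ q, p = q + 3 := ⟨p - 3, by omega⟩
    rw [hq, show q + 3 - 1 = q + 2 by omega, show q + 3 - 2 = q + 1 by omega] at hord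
    have : (2 * n) * (q + 3) = q * (q + 3) := by linarith [show (q + 2) * (q + 1) = q * (q + 3) + 2 by ring]
    have := Nat.eq_of_mul_eq_mul_right (by omega) this
    omega
  have hF : ¬ FForm p n := fun h => by have := h.le; omega
  have hcore : ∀ K : Subgroup G, K.Normal → ¬ p ∣ Nat.card K → K = ⊥ := fun K hK hd =>
    hK.eq_bot_or_eq_top.resolve_right fun h => hd (by rw [h, Subgroup.card_top]; exact hdvd)
  have hcard : Nat.card G = p * ((p - 1) * (p - 2)) := by rw [hG', ← hord]; ring
  have hp5' : p = 5 := by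
    rcases classify hperf P hPc hcore (P.card_eq_index_normalizer.trans hidx) hF with
      ⟨K, iK, iKF, hK, -, ⟨φ⟩⟩ | ⟨k, K, iK, iKF, -, hpk, -, -⟩
    · have h1 := Classical.card_psl_mul (ι := Fin 2) (F := K)
      rw [Classical.card_sl2, Fintype.card_fin, ← Nat.card_congr φ.toEquiv, hcard, hK] at h1
      obtain ⟨q, hq⟩ : ∃ q, p = 2 * q + 1 := hp.odd_of_ne_two (by omega)
      rw [show Nat.gcd 2 (p - 1) = 2 from Nat.gcd_eq_left ⟨q, by omega⟩] at h1
      obtain ⟨r, hr⟩ : ∃ r, p = r + 2 := ⟨p - 2, by omega⟩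
      rw [hr, show r + 2 - 1 = r + 1 by omega, show r + 2 - 2 = r by omega,
        show (r + 2) ^ 2 - 1 = (r + 1) * (r + 3) by
          rw [show (r + 2) ^ 2 = (r + 1) * (r + 3) + 1 by ring, Nat.add_sub_cancel]] at h1
      have h2 : (r + 2) * (r + 1) * (2 * r) = (r + 2) * (r + 1) * (r + 3) := by linarith
      have := Nat.eq_of_mul_eq_mul_left (by positivity) h2
      omega
    · have h1 : 2 ^ k = 2 * b * (b + 1) := by
        have : 2 * b * (b + 1) = 2 * b ^ 2 + 2 * b := by ring
        omega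
      rcases Nat.even_or_odd b with hb | hb
      · exfalso
        obtain ⟨i, -, hi⟩ := (Nat.dvd_prime_pow Nat.prime_two).1
          (⟨2 * b, by rw [h1]; ring⟩ : b + 1 ∣ 2 ^ k)
        match i with
        | 0 => omega
        | i + 1 =>
          obtain ⟨c, hc⟩ := hb
          rw [pow_succ] at hi
          omega
      · obtain ⟨i, -, hi⟩ := (Nat.dvd_prime_pow Nat.prime_two).1
          (⟨2 * (b + 1), by rw [h1]; ring⟩ : b ∣ 2 ^ k)
        match i with
        | 0 => rw [hi, pow_zero] at hpb; omega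
        | i + 1 =>
          exfalso
          obtain ⟨c, hc⟩ := hb
          rw [pow_succ] at hi
          omega
  subst hp5'
  exact ⟨rfl, Classical.Small.simple_sixty hcard⟩

end Cfsg.Agent.Fg24.Brauer
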