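import Cfsg.Agent.Fg24.Brauer.Block

/-!
# The degrees in the principal block when `|G| < p ^ 3`
-/

set_option autoImplicit false

open Cfsg

namespace Cfsg.Agent.Fg24.Brauer

open Cfsg.Agent.BlockThms.OrderP

universe u

/-- The possible degree of a character of sign `1`. -/
theorem deg_plus {p e n u : ℕ} (he : 2 ≤ e) (hep : e < p) (hne : n * e < p) (hu : 0 < u)
    (hdvd : u * p + 1 ∣ e * (n * p + 1)) : u = n := by
  have h1 : ((u * p + 1 : ℕ) : ℤ) ∣ (e : ℤ) * ((u : ℤ) - n) := by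
    have h2 : ((u * p + 1 : ℕ) : ℤ) ∣ (e : ℤ) * ((n : ℤ) * p + 1) := by exact_mod_cast Int.natCast_dvd_natCast.2 hdvd
    have h3 := dvd_sub (h2.mul_right (u : ℤ)) (dvd_mul_right ((u * p + 1 : ℕ) : ℤ) ((e : ℤ) * n))
    rwa [show (e : ℤ) * ((n : ℤ) * p + 1) * u - ((u * p + 1 : ℕ) : ℤ) * ((e : ℤ) * n) =
      (e : ℤ) * ((u : ℤ) - n) by push_cast; ring] at h3
  have h4 : |(e : ℤ) * ((u : ℤ) - n)| < ((u * p + 1 : ℕ) : ℤ) := by
    have e1 : (n : ℤ) * e < p := by exact_mod_cast hne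
    have e2 : (e : ℤ) < p := by exact_mod_cast hep
    have e3 : (1 : ℤ) ≤ u := by exact_mod_cast hu
    have e4 : (0 : ℤ) ≤ n := Int.natCast_nonneg n
    have e5 : (0 : ℤ) ≤ e := Int.natCast_nonneg e
    rw [abs_lt]
    push_cast
    constructor <;> nlinarith
  rcases mul_eq_zero.1 (Int.eq_zero_of_abs_lt_dvd h1 h4) with h | h <;> omega

/-- The possible degree of a character of sign `-1`. -/
theorem deg_minus {p e n t u : ℕ} (he : 2 ≤ e) (het : e * t + 1 = p) (hne : n * e < p) (hn : 0 < n)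
    (hu : 0 < u) (hdvd : u * p - 1 ∣ e * (n * p + 1)) :
    u = 1 ∨ (e + 1 = p ∧ n = 1 ∧ u = p) := by
  have hp2 : 2 < p := by
    rcases Nat.eq_zero_or_pos t with rfl | ht
    · simp at het; nlinarith
    · nlinarith
  have hd1 : 1 ≤ u * p := Nat.mul_pos hu (by omega)
  have h1 : ((u * p - 1 : ℕ) : ℤ) ∣ (e : ℤ) * ((u : ℤ) + n) := by
    have h2 : ((u * p - 1 : ℕ) : ℤ) ∣ (e : ℤ) * ((n : ℤ) * p + 1) := by exact_mod_cast Int.natCast_dvd_natCast.2 hdvd
    have h3 := dvd_sub (h2.mul_right (u : ℤ)) (dvd_mul_right ((u * p - 1 : ℕ) : ℤ) ((e : ℤ) * n))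
    rwa [show (e : ℤ) * ((n : ℤ) * p + 1) * u - ((u * p - 1 : ℕ) : ℤ) * ((e : ℤ) * n) =
      (e : ℤ) * ((u : ℤ) + n) by rw [Nat.cast_sub hd1]; push_cast; ring] at h3
  have h2 : u * p - 1 ∣ e * (u + n) := Int.natCast_dvd_natCast.1 (by exact_mod_cast h1)
  obtain ⟨j, hj⟩ := h2
  have hj0 : 0 < j := by
    rcases Nat.eq_zero_or_pos j with rfl | h
    · simp at hj; omega
    · exact h
  obtain ⟨q, hq⟩ : ∃ q, u * p = q + 1 := ⟨u * p - 1, by omega⟩
  rw [hq, Nat.add_sub_cancel] at hj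
  by_cases hu1 : u = 1
  · exact Or.inl hu1
  right
  have hu2 : 2 ≤ u := by omega
  have ht0 : 0 < t := by
    rcases Nat.eq_zero_or_pos t with rfl | h
    · simp at het; omega
    · exact h
  have ht : t = 1 := by
    by_contra ht
    have ht2 : 2 ≤ t := by omega
    nlinarith [Nat.le_mul_of_pos_right q hj0, Nat.mul_le_mul_left (u * e) ht2,
      Nat.mul_le_mul hu2 (le_refl p)]
  subst ht
  rw [mul_one] at het
  have hn1 : n = 1 := by nlinarith
  subst hn1
  have hj1 : j = 1 := by nlinarith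
  subst hj1
  refine ⟨het, rfl, ?_⟩
  nlinarith

/-- The arithmetic of the degree equation. -/
theorem c_eq {A c e t X : ℤ} (ht : 2 ≤ t) (hX : 1 ≤ X) (he : 2 ≤ e) (hX' : X = e * t + 1 - e)
    (hS : 1 + A * (t * X) ^ 2 + (c + A * (t - 1)) * (e * t) ^ 2 + t * (e - c * (e + X)) ^ 2 ≤
      (e + X) * e * (t * X)) (hA : A * t + c = e - 1) : c = 0 ∨ c = 1 := by
  by_contra h
  push Not at h
  have h2 : 2 ≤ c * c - c := by
    rcases lt_or_gt_of_ne h.1 with h1 | h1
    · nlinarith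
    · have : 2 ≤ c := by omega
      nlinarith
  have key : (1 + A * (t * X) ^ 2 + (c + A * (t - 1)) * (e * t) ^ 2 + t * (e - c * (e + X)) ^ 2) -
      (e + X) * e * (t * X) = t * ((c * c - c - 1) * X ^ 2 + (2 * (c * c - c) - 1) * (e * X) +
        (c * c - c) * e ^ 2 + e) + 1 := by
    have hA' : A * t = e - 1 - c := by linarith
    linear_combination (X ^ 2 * t + (e ^ 2) * t * (t - 1)) * hA' + (-(t * e * (e - 1))) * hX'
  have h3 : 0 ≤ t * ((c * c - c - 1) * X ^ 2 + (2 * (c * c - c) - 1) * (e * X) +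
        (c * c - c) * e ^ 2 + e) := by
    refine mul_nonneg (by omega) (add_nonneg (add_nonneg (add_nonneg ?_ ?_) ?_) (by omega))
    · exact mul_nonneg (by omega) (sq_nonneg X)
    · exact mul_nonneg (by omega) (mul_nonneg (by omega) (by omega))
    · exact mul_nonneg (by omega) (sq_nonneg e)
  omega

/-- The case `e = p - 1` is impossible. -/
theorem t_one {A B p e D : ℤ} (hA : 0 ≤ A) (hAB : A + B + 1 = e) (he : e + 1 = p)
    (hodd : p % 2 = 1) (hp : 2 ≤ p) (hD : D ^ 2 = (1 + A * (1 * p + 1) - B * (p - 1)) ^ 2)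
    (hD1 : D ^ 2 ≠ 1)
    (hsum : 1 + A * (1 * p + 1) ^ 2 + B * (p - 1) ^ 2 + 1 * D ^ 2 ≤ p * e * (1 * p + 1)) :
    False := by
  have hk1 : 1 + A * (1 * p + 1) - B * (p - 1) = (A - B + 1) * p - 1 := by
    linear_combination hAB + he
  rw [hk1] at hD
  have hD2 : (2 * p - 1) ^ 2 ≤ D ^ 2 := by
    rcases (by omega : A - B + 1 ≤ -2 ∨ 2 ≤ A - B + 1 ∨ A - B + 1 = 0) with h | h | h
    · have h1 := mul_le_mul_of_nonneg_right h (show (0 : ℤ) ≤ p by omega)
      rw [hD, sq_le_sq, abs_of_nonneg (by omega : (0 : ℤ) ≤ 2 * p - 1),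
        abs_of_nonpos (by linarith)]
      linarith
    · have h1 := mul_le_mul_of_nonneg_right h (show (0 : ℤ) ≤ p by omega)
      rw [hD]
      exact pow_le_pow_left₀ (by omega) (by linarith) 2
    · rw [h] at hD
      exact absurd (hD.trans (by ring)) hD1
  have h5 : A * (p - 1) ^ 2 ≤ A * (1 * p + 1) ^ 2 :=
    mul_le_mul_of_nonneg_left (by nlinarith) hA
  have h6 : (A + B) * (p - 1) ^ 2 = (p - 2) * (p - 1) ^ 2 := by
    rw [show A + B = p - 2 by omega]
  nlinarith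

variable {G : Type u} [Group G] [Fintype G] {p : ℕ} [Fact p.Prime] {P : Sylow p G} {e : ℕ}

/-- The degrees in the principal block when `C(P) = P`. -/
structure Pre (D : BlockData P e) (n t A c : ℕ) : Prop where
  setup : Setup P e
  cent : Subgroup.centralizer (P : Set G) = (P : Subgroup G)
  n_pos : 0 < n
  et : e * t + 1 = p
  two_le_e : 2 ≤ e
  card : Nat.card G = p * e * (n * p + 1)
  index : (Subgroup.normalizer (P : Set G)).index = n * p + 1
  count : A * (n + 1) + c + 1 = e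
  degX : ∀ χ ∈ D.X, χ ≠ Blocks.triv G →
    (D.a χ = 1 ∧ charDegree (χ : G → ℂ) = n * p + 1) ∨
      (D.a χ = -1 ∧ charDegree (χ : G → ℂ) = p - 1)
  cardA : ((D.X.erase (Blocks.triv G)).filter fun χ => D.a χ = 1).card = A
  degY : ∀ θ ∈ D.Y, charDegree (θ : G → ℂ) = if c = 0 then e else c * p - e
  mulY : c ≠ 0 → n * p + 1 = t * (c * p - e)
  outSq : ∑ χ ∈ (D.X ∪ D.Y)ᶜ, charDegree (χ : G → ℂ) ^ 2 = n * p ^ 2

/-- The data of the main case: `C(P) = P`, `|G| = p e (np + 1)` with `(n + 1) e = p - 1`. -/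
structure Main (D : BlockData P e) (n t A c : ℕ) : Prop extends Pre D n t A c where
  two_le : 2 ≤ t
  t_eq : t = n + 1
  c_or : c = 0 ∨ c = 1

omit [Fact p.Prime] in
theorem sum_degree_sq : ∑ χ : IrrCharacter G, charDegree (χ : G → ℂ) ^ 2 = Nat.card G := by
  have h := Char.sum_sq_degree (G := G)
  simp only [← Blocks.charDegree_cast (Char.IsIrr.isCharacter (Subtype.prop _))] at h
  exact_mod_cast h

omit [Fact p.Prime] [Fintype G] in
theorem degree_cast [Finite G] (χ : IrrCharacter G) : (χ : G → ℂ) 1 = (charDegree (χ : G → ℂ) : ℂ) :=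
  (Blocks.charDegree_cast (Char.IsIrr.isCharacter χ.2)).symm

theorem BlockData.val_P (D : BlockData P e) {χ : IrrCharacter G} (hχ : χ ∈ D.X) {z : G}
    (hz : z ∈ (P : Subgroup G)) (hz1 : z ≠ 1) : (χ : G → ℂ) z = (D.a χ : ℂ) := by
  have h := D.valX χ hχ z hz hz1 1 (one_mem _) not_dvd_one_order
  rwa [mul_one] at h

theorem BlockData.degree_dvd (D : BlockData P e) (hSet : Setup P e) {n : ℕ}
    (hcx : ∀ x ∈ (P : Subgroup G), x ≠ 1 →
      (Subgroup.centralizer ({x} : Set G)).index = e * (n * p + 1))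
    {χ : IrrCharacter G} (hχ : χ ∈ D.X) : charDegree (χ : G → ℂ) ∣ e * (n * p + 1) := by
  obtain ⟨x, hx, hx1, -⟩ := hSet.exists_gen
  have h := Char.centralCharacter_isIntegral χ.2 x
  rw [D.val_P hχ hx hx1, hcx x hx hx1, degree_cast] at h
  refine Char.nat_dvd_of_isIntegral (Blocks.charDegree_pos χ.2).ne' ?_
  rcases D.a_or χ hχ with ha | ha <;> rw [ha] at h
  · simpa using h
  · have := h.neg
    simpa [neg_div] using this

/-- The degrees of the nontrivial non-exceptional characters. -/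
theorem BlockData.degree_cases (D : BlockData P e) (hperf : commutator G = ⊤) (hSet : Setup P e)
    (he : 2 ≤ e) {n t : ℕ} (hn : 0 < n) (hne : n * e < p) (hp1 : e * t + 1 = p) (hep : e < p)
    (hbig : Nat.card G < p ^ 3)
    (hcx : ∀ x ∈ (P : Subgroup G), x ≠ 1 →
      (Subgroup.centralizer ({x} : Set G)).index = e * (n * p + 1))
    (χ : IrrCharacter G) (hχ : χ ∈ D.X) (hχt : χ ≠ Blocks.triv G) :
    (D.a χ = 1 ∧ charDegree (χ : G → ℂ) = n * p + 1) ∨
      (D.a χ = -1 ∧ charDegree (χ : G → ℂ) = p - 1) := by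
  have hp : p.Prime := Fact.out
  set d : IrrCharacter G → ℕ := fun χ => charDegree (χ : G → ℂ) with hd
  change (D.a χ = 1 ∧ d χ = n * p + 1) ∨ (D.a χ = -1 ∧ d χ = p - 1)
  have hdvd : d χ ∣ e * (n * p + 1) := D.degree_dvd hSet hcx hχ
  have h2 : 2 ≤ d χ := by
    by_contra h
    refine hχt (eq_triv_of_degree_one hperf ?_)
    have := Blocks.charDegree_pos χ.2
    rw [degree_cast, show charDegree (χ : G → ℂ) = 1 by simp only [hd] at h; omega, Nat.cast_one]
  rcases D.a_or χ hχ with ha | ha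
  · left
    refine ⟨ha, ?_⟩
    have hm : (d χ : ℤ) ≡ 1 [ZMOD p] := ha ▸ D.degX χ hχ
    obtain ⟨u, hu⟩ : ∃ u, d χ = u * p + 1 := by
      have h3 : d χ ≡ 1 [MOD p] := Int.natCast_modEq_iff.1 hm
      refine ⟨d χ / p, ?_⟩
      have h4 : d χ % p = 1 := (show d χ % p = 1 % p from h3).trans (Nat.mod_eq_of_lt hp.one_lt)
      conv_lhs => rw [← Nat.div_add_mod (d χ) p, h4, mul_comm]
    have hu0 : 0 < u := Nat.pos_of_ne_zero fun h => by rw [h] at hu; simp at hu; omega
    rw [hu, deg_plus he hep hne hu0 (hu ▸ hdvd)]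
  · right
    refine ⟨ha, ?_⟩
    have hm : (d χ : ℤ) ≡ -1 [ZMOD p] := ha ▸ D.degX χ hχ
    obtain ⟨u, hu⟩ : ∃ u, d χ + 1 = u * p := by
      have h3 : (p : ℤ) ∣ ((d χ + 1 : ℕ) : ℤ) := by
        push_cast
        rw [← sub_neg_eq_add]
        exact Int.modEq_iff_dvd.1 hm.symm
      obtain ⟨u, hu⟩ := Int.natCast_dvd_natCast.1 h3
      exact ⟨u, hu.trans (mul_comm _ _)⟩
    have hu0 : 0 < u := Nat.pos_of_ne_zero fun h => by rw [h] at hu; simp at hu
    have hu' : d χ = u * p - 1 := by omega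
    rcases deg_minus he hp1 hne hn hu0 (hu' ▸ hdvd) with rfl | ⟨he1, hn1, hup⟩
    · omega
    · exfalso
      have h4 : d χ ^ 2 ≤ Nat.card G := by
        rw [← sum_degree_sq]
        exact Finset.single_le_sum (f := fun ψ : IrrCharacter G => charDegree (ψ : G → ℂ) ^ 2)
          (fun _ _ => Nat.zero_le _) (Finset.mem_univ χ)
      have hp3 : 3 ≤ p := by omega
      have h5 : d χ + 1 = p * p := by rw [hu, hup]
      nlinarith [Nat.mul_le_mul hp3 hp3]

/-- A character of degree `p - 1` in the block forces `C(P) = P`. -/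
theorem BlockData.cent_eq (D : BlockData P e) (hSet : Setup P e)
    (hcore : ∀ K : Subgroup G, K.Normal → ¬ p ∣ Nat.card K → K = ⊥) {θ₀ : IrrCharacter G}
    (hθX : θ₀ ∈ D.X) (ha0 : D.a θ₀ = -1) (hd0' : charDegree (θ₀ : G → ℂ) = p - 1) :
    Subgroup.centralizer (P : Set G) = (P : Subgroup G) := by
  classical
  have hp : p.Prime := Fact.out
  obtain ⟨x, hx, hx1, -⟩ := hSet.exists_gen
  obtain ⟨K, hKC, hpK, hKmem, -, -, hdec⟩ := hSet.exists_complement
  have hker : ∀ y ∈ K, (θ₀ : G → ℂ) y = (θ₀ : G → ℂ) 1 := by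
    intro y hy
    set C := Subgroup.centralizer (P : Set G) with hCdef
    let z : (P : Subgroup G) →* C := Subgroup.inclusion hSet.le_centralizer
    have hz : ∀ i a, a * z i * a⁻¹ = z i := fun i a => Subtype.ext (by
      show (a : G) * (i : G) * (a : G)⁻¹ = i
      rw [← Subgroup.mem_centralizer_iff.1 a.2 i i.2, mul_inv_cancel_right])
    have hχ : IsCharacter C (fun c : C => (θ₀ : G → ℂ) c) :=
      Char.isCharacter_res C (Char.IsIrr.isCharacter θ₀.2)
    have hsplit : ∀ y ∈ K, ∑ i : (P : Subgroup G), (θ₀ : G → ℂ) ((i : G) * y) =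
        (θ₀ : G → ℂ) y + ((p : ℂ) - 1) * (-1) := by
      intro y hy
      rw [← Finset.add_sum_erase _ _ (Finset.mem_univ 1), OneMemClass.coe_one, one_mul,
        Finset.sum_congr rfl (g := fun _ => ((-1 : ℤ) : ℂ)) (fun i hi => by
          rw [← ha0]
          exact D.valX θ₀ hθX i i.2 (fun h => Finset.ne_of_mem_erase hi (Subtype.ext h)) y
            (hKC hy) ((hKmem y).1 hy).2),
        Finset.sum_const, Finset.card_erase_of_mem (Finset.mem_univ _), Finset.card_univ,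
        ← Nat.card_eq_fintype_card, hSet.card, nsmul_eq_mul, Nat.cast_sub hp.pos]
      push_cast
      ring
    have h0 : ∑ i : (P : Subgroup G), (θ₀ : G → ℂ) (z i : C) = 0 := by
      have h1 := hsplit 1 (one_mem _)
      simp only [mul_one] at h1
      refine h1.trans ?_
      rw [degree_cast, hd0', Nat.cast_sub hp.pos]
      push_cast
      ring
    have h2 := sum_central_mul z hz hχ h0 ⟨y, hKC hy⟩
    have h3 : (θ₀ : G → ℂ) y + ((p : ℂ) - 1) * (-1) = 0 := (hsplit y hy).symm.trans h2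
    rw [degree_cast, hd0', Nat.cast_sub hp.pos, Nat.cast_one]
    linear_combination h3
  set W := Char.kerSubgroup (Char.IsIrr.isCharacter θ₀.2) with hW
  have hWn : W.Normal := ⟨fun w hw g => by
    rw [hW, Char.mem_kerSubgroup] at hw ⊢
    rw [Char.isClassFunction_of_isIrr θ₀.2]
    exact hw⟩
  have hWbot : W = ⊥ := hcore W hWn fun hd => by
    have h1 : x ∈ W := le_of_dvd_card hSet.card hd hx
    rw [hW, Char.mem_kerSubgroup, D.val_P hθX hx hx1, ha0, degree_cast, hd0'] at h1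
    have h2 : (((p - 1 + 1 : ℕ) : ℤ) : ℂ) = 0 := by push_cast; linear_combination -h1
    norm_num at h2
    exact Nat.cast_add_one_ne_zero (p - 1) h2
  refine le_antisymm (fun c hc => ?_) hSet.le_centralizer
  obtain ⟨a, ha, b, hb, rfl⟩ := hdec c hc
  have : b ∈ W := by rw [hW, Char.mem_kerSubgroup]; exact hker b hb
  rw [hWbot, Subgroup.mem_bot] at this
  rwa [this, one_mul]

set_option maxHeartbeats 800000 in
/-- The degrees. -/
theorem exists_main (hperf : commutator G = ⊤) (hSet : Setup P e) (he : 2 ≤ e)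
    (hnn : ¬ (P : Subgroup G).Normal) (hbig : Nat.card G < p ^ 3)
    (hcore : ∀ K : Subgroup G, K.Normal → ¬ p ∣ Nat.card K → K = ⊥) (D : BlockData P e) :
    ∃ n t A c : ℕ, Main D n t A c := by
  classical
  have hp : p.Prime := Fact.out
  obtain ⟨n, v, hn, hv, hidx, hC, hG, hcx⟩ := exists_order hSet hnn
  obtain ⟨hedvd, -⟩ := hSet.exists_y
  obtain ⟨t, ht⟩ := hedvd
  have hp1 : e * t + 1 = p := by have := hp.one_lt; omega
  have ht0 : 0 < t := by
    rcases Nat.eq_zero_or_pos t with rfl | h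
    · simp at hp1; exact absurd hp1 hp.one_lt.ne
    · exact h
  have hep : e < p := by
    have := Nat.le_mul_of_pos_right e ht0
    omega
  have hlt : (n * p + 1) * (e * v) < p ^ 2 := by
    rw [hG] at hbig
    refine Nat.lt_of_mul_lt_mul_right (a := p) ?_
    calc (n * p + 1) * (e * v) * p = (n * p + 1) * (e * (p * v)) := by ring
      _ < p ^ 3 := hbig
      _ = p ^ 2 * p := by ring
  have hnev : n * (e * v) < p := by
    by_contra h
    push Not at h
    nlinarith [Nat.mul_le_mul_right p h, Nat.mul_pos (show 0 < e by omega) hv]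
  have hne : n * e < p := lt_of_le_of_lt (Nat.mul_le_mul_left n (Nat.le_mul_of_pos_right e hv)) hnev
  have hwp : e * v < p := lt_of_le_of_lt (Nat.le_mul_of_pos_left _ hn) hnev
  set d : IrrCharacter G → ℕ := fun χ => charDegree (χ : G → ℂ) with hd
  have hd1 : ∀ χ : IrrCharacter G, (χ : G → ℂ) 1 = (d χ : ℂ) := fun χ =>
    (Blocks.charDegree_cast (Char.IsIrr.isCharacter χ.2)).symm
  have hd0 : ∀ χ, 0 < d χ := fun χ => Blocks.charDegree_pos χ.2
  have hdtriv : d (Blocks.triv G) = 1 := Blocks.charDegree_eq (by simp [Blocks.triv])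
  have hd2 : ∀ χ, χ ≠ Blocks.triv G → 2 ≤ d χ := fun χ hχ => by
    by_contra h
    refine hχ (eq_triv_of_degree_one hperf ?_)
    rw [hd1, show d χ = 1 by have := hd0 χ; omega, Nat.cast_one]
  have hdG : ∀ χ, d χ ∣ Nat.card G := fun χ => Char.IsIrr.degree_dvd_card χ.2 (hd1 χ)
  have hcentral : ∀ χ ∈ D.X, d χ ∣ e * (n * p + 1) := fun χ hχ => D.degree_dvd hSet hcx hχ
  have hdeg : ∀ χ ∈ D.X, χ ≠ Blocks.triv G →
      (D.a χ = 1 ∧ d χ = n * p + 1) ∨ (D.a χ = -1 ∧ d χ = p - 1) :=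
    fun χ h1 h2 => D.degree_cases hperf hSet he hn hne hp1 hep hbig hcx χ h1 h2
  set Xn := D.X.erase (Blocks.triv G) with hXn
  set A := (Xn.filter fun χ => D.a χ = 1).card with hA
  set B := (Xn.filter fun χ => ¬ D.a χ = 1).card with hB
  have hAB : A + B + 1 = e := by
    rw [hA, hB, Finset.card_filter_add_card_filter_not, hXn,
      Finset.card_erase_of_mem D.triv_mem, D.cardX]
    omega
  have hmA : ∀ χ ∈ Xn.filter (fun χ => D.a χ = 1), D.a χ = 1 ∧ d χ = n * p + 1 := fun χ hχ => by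
    obtain ⟨h1, h2⟩ := Finset.mem_filter.1 hχ
    rcases hdeg χ (Finset.mem_of_mem_erase h1) (Finset.ne_of_mem_erase h1) with h | h
    · exact h
    · rw [h.1] at h2; omega
  have hmB : ∀ χ ∈ Xn.filter (fun χ => ¬ D.a χ = 1), D.a χ = -1 ∧ d χ = p - 1 := fun χ hχ => by
    obtain ⟨h1, h2⟩ := Finset.mem_filter.1 hχ
    rcases hdeg χ (Finset.mem_of_mem_erase h1) (Finset.ne_of_mem_erase h1) with h | h
    · exact absurd h.1 h2
    · exact h
  obtain ⟨η, hη⟩ : D.Y.Nonempty := Finset.card_pos.1 (by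
    rw [D.cardY, ht, Nat.mul_div_cancel_left t (show 0 < e by omega)]; exact ht0)
  set Dg := d η with hDg
  -- the degree equation
  have hrel : D.s * Dg + (1 + A * ((n : ℤ) * p + 1) - B * ((p : ℤ) - 1)) = 0 := by
    have h := D.rel η hη 1 not_dvd_one_order
    have e1 : ∑ χ ∈ Xn.filter (fun χ => D.a χ = 1), (D.a χ : ℂ) * (χ : G → ℂ) 1 =
        (A : ℂ) * ((n : ℂ) * p + 1) := by
      rw [Finset.sum_congr rfl (g := fun _ => (n : ℂ) * p + 1) (fun χ hχ => by
        rw [(hmA χ hχ).1, hd1, (hmA χ hχ).2]; push_cast; ring), Finset.sum_const, ← hA,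
        nsmul_eq_mul]
    have e2 : ∑ χ ∈ Xn.filter (fun χ => ¬ D.a χ = 1), (D.a χ : ℂ) * (χ : G → ℂ) 1 =
        (B : ℂ) * (1 - (p : ℂ)) := by
      rw [Finset.sum_congr rfl (g := fun _ => 1 - (p : ℂ)) (fun χ hχ => by
        rw [(hmB χ hχ).1, hd1, (hmB χ hχ).2, Nat.cast_sub hp.pos]; push_cast; ring),
        Finset.sum_const, ← hB, nsmul_eq_mul]
    rw [← Finset.add_sum_erase _ _ D.triv_mem, ← hXn,
      ← Finset.sum_filter_add_sum_filter_not Xn (fun χ => D.a χ = 1), e1, e2, D.a_triv, hd1, hd1,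
      hdtriv, ← hDg] at h
    push_cast at h
    have h' : (D.s : ℂ) * (Dg : ℂ) + (1 + (A : ℂ) * ((n : ℂ) * p + 1) - (B : ℂ) * ((p : ℂ) - 1)) = 0 := by
      linear_combination h
    exact_mod_cast h'
  have hDmod : ¬ p ∣ Dg := by
    intro h
    have h1 := (Int.modEq_iff_dvd.1 (D.degY η hη))
    have h2 : (p : ℤ) ∣ (e : ℤ) * D.s := by
      have h4 := dvd_add h1 (Int.natCast_dvd_natCast.2 h)
      rw [sub_add_cancel, dvd_neg] at h4
      exact h4
    have h3 : (p : ℤ) ∣ (e : ℤ) := by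
      rcases D.s_or with hs | hs <;> rw [hs] at h2 <;> simpa using h2
    exact absurd (Nat.le_of_dvd (by omega) (Int.natCast_dvd_natCast.1 h3)) (by omega)
  have hnp : p < n * p + 1 := Nat.lt_succ_of_le (Nat.le_mul_of_pos_left p hn)
  -- some character has sign `-1`
  have hB0 : 0 < B := by
    by_contra hB0
    have hB0' : B = 0 := by omega
    have hA1 : 1 ≤ A := by omega
    rw [hB0'] at hrel
    have hDeq : Dg = 1 + A * (n * p + 1) := by
      rcases D.s_or with hs | hs <;> rw [hs] at hrel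
      · exfalso
        have : (0 : ℤ) ≤ (A : ℤ) * ((n : ℤ) * p + 1) := by positivity
        push_cast at hrel
        linarith [Int.natCast_nonneg Dg]
      · have h1 : (Dg : ℤ) = ((1 + A * (n * p + 1) : ℕ) : ℤ) := by push_cast at hrel ⊢; linarith
        exact_mod_cast h1
    have hco : Dg.Coprime (n * p + 1) := by
      rw [hDeq, mul_comm A, Nat.coprime_add_mul_left_left]
      exact Nat.coprime_one_left _
    have h1 : Dg ∣ (n * p + 1) * (p * (e * v)) := by
      have := hdG η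
      rw [hG] at this
      convert this using 1
      ring
    have h2 := (Nat.Coprime.dvd_of_dvd_mul_left ((hp.coprime_iff_not_dvd.2 hDmod).symm)
      (hco.dvd_of_dvd_mul_left h1))
    have h3 := Nat.le_of_dvd (Nat.mul_pos (by omega) hv) h2
    have := Nat.le_mul_of_pos_left (n * p + 1) hA1
    omega
  obtain ⟨θ₀, hθ₀⟩ := Finset.card_pos.1 hB0
  obtain ⟨ha0, hd0'⟩ := hmB θ₀ hθ₀
  have hθX : θ₀ ∈ D.X := Finset.mem_of_mem_erase (Finset.mem_filter.1 hθ₀).1
  -- `C(P) = P`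
  have hCP : Subgroup.centralizer (P : Set G) = (P : Subgroup G) :=
    D.cent_eq hSet hcore hθX ha0 hd0'
  have hv1 : v = 1 := by
    rw [hCP, hSet.card] at hC
    exact (Nat.eq_of_mul_eq_mul_left hp.pos (hC.symm.trans (mul_one p).symm))
  subst hv1
  obtain ⟨j, hj⟩ : e * t ∣ e * (n + 1) := by
    have h1 := hcentral θ₀ hθX
    rw [hd0', show p - 1 = e * t by omega] at h1
    have h2 : e * (n * p + 1) = e * t * (e * n) + e * (n + 1) := by rw [← hp1]; ring
    exact (Nat.dvd_add_right (dvd_mul_right _ _)).1 (h2 ▸ h1)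
  rw [mul_assoc] at hj
  have hj := Nat.eq_of_mul_eq_mul_left (show 0 < e by omega) hj
  have hcardG : Nat.card G = p * e * (n * p + 1) := by rw [hG]; ring
  -- the sum of the squares
  have hsum : ∑ χ ∈ D.Y, d χ ^ 2 = t * Dg ^ 2 := by
    rw [Finset.sum_congr rfl (g := fun _ => Dg ^ 2), Finset.sum_const, D.cardY, ht,
      Nat.mul_div_cancel_left t (show 0 < e by omega), smul_eq_mul]
    intro χ hχ
    have h1 := D.regY χ hχ η hη 1 not_dvd_one_order
    rw [hd1, hd1, ← hDg] at h1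
    rw [Nat.cast_inj.1 h1]
  have htotal : 1 + A * (n * p + 1) ^ 2 + B * (p - 1) ^ 2 + t * Dg ^ 2 +
      ∑ χ ∈ (D.X ∪ D.Y)ᶜ, d χ ^ 2 = Nat.card G := by
    have e1 : ∑ χ ∈ Xn.filter (fun χ => D.a χ = 1), d χ ^ 2 = A * (n * p + 1) ^ 2 := by
      rw [Finset.sum_congr rfl (g := fun _ => (n * p + 1) ^ 2) (fun χ hχ => by rw [(hmA χ hχ).2]),
        Finset.sum_const, ← hA, smul_eq_mul]
    have e2 : ∑ χ ∈ Xn.filter (fun χ => ¬ D.a χ = 1), d χ ^ 2 = B * (p - 1) ^ 2 := by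
      rw [Finset.sum_congr rfl (g := fun _ => (p - 1) ^ 2) (fun χ hχ => by rw [(hmB χ hχ).2]),
        Finset.sum_const, ← hB, smul_eq_mul]
    have e3 := Finset.sum_add_sum_compl (D.X ∪ D.Y) (fun χ => d χ ^ 2)
    rw [Finset.sum_union D.disj, ← Finset.add_sum_erase _ _ D.triv_mem, ← hXn,
      ← Finset.sum_filter_add_sum_filter_not Xn (fun χ => D.a χ = 1), e1, e2, hsum, hdtriv] at e3
    rw [← sum_degree_sq, ← e3]
    ring
  have hDlin : Dg ≠ 1 := fun h => by
    have h1 := eq_triv_of_degree_one hperf (χ := η) (by rw [hd1, ← hDg, h, Nat.cast_one])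
    exact Finset.disjoint_right.1 D.disj hη (h1 ▸ D.triv_mem)
  have hDz : (Dg : ℤ) ^ 2 = (1 + A * ((n : ℤ) * p + 1) - B * ((p : ℤ) - 1)) ^ 2 := by
    rcases D.s_or with hs | hs <;> rw [hs] at hrel
    · rw [show (Dg : ℤ) = -(1 + A * ((n : ℤ) * p + 1) - B * ((p : ℤ) - 1)) by linarith]; ring
    · rw [show (Dg : ℤ) = (1 + A * ((n : ℤ) * p + 1) - B * ((p : ℤ) - 1)) by linarith]
  have htZ : (1 : ℤ) + A * ((n : ℤ) * p + 1) ^ 2 + B * ((p : ℤ) - 1) ^ 2 + t * (Dg : ℤ) ^ 2 +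
      ((∑ χ ∈ (D.X ∪ D.Y)ᶜ, d χ ^ 2 : ℕ) : ℤ) = (p : ℤ) * e * ((n : ℤ) * p + 1) := by
    rw [hcardG] at htotal
    have := congrArg (Nat.cast : ℕ → ℤ) htotal
    push_cast [Nat.cast_sub hp.pos] at this ⊢
    linarith
  have hout0 : (0 : ℤ) ≤ ((∑ χ ∈ (D.X ∪ D.Y)ᶜ, d χ ^ 2 : ℕ) : ℤ) := Int.natCast_nonneg _
  have hjt : n + 1 = t ∨ (t = 1 ∧ n = 1) := by
    have h2 : n ≤ t := by
      by_contra h
      nlinarith [Nat.mul_le_mul_right e (Nat.lt_of_not_le h)]
    rcases Nat.lt_or_ge j 2 with hj2 | hj2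
    · left; interval_cases j <;> omega
    · right
      have := Nat.mul_le_mul_left t hj2
      omega
  rcases hjt with htn | ⟨rfl, rfl⟩
  swap
  · -- `e = p - 1`
    exfalso
    have hp1' : (e : ℤ) + 1 = p := by exact_mod_cast (by omega : e + 1 = p)
    have hABz : (A : ℤ) + B + 1 = e := by exact_mod_cast hAB
    have hodd : (p : ℤ) % 2 = 1 := by
      have := hp.eq_two_or_odd
      omega
    push_cast at htZ hDz hout0
    exact t_one (by exact_mod_cast Int.natCast_nonneg A) hABz hp1' hodd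
      (by exact_mod_cast hp.two_le) hDz
      (fun h => hDlin ((pow_eq_one_iff_left two_ne_zero).1 (by exact_mod_cast h : Dg ^ 2 = 1)))
      (by linarith)
  -- the main case
  have hpZ : (p : ℤ) = e * t + 1 := by exact_mod_cast hp1.symm
  have htnZ : (t : ℤ) = n + 1 := by exact_mod_cast htn.symm
  have hABz : (A : ℤ) + B + 1 = e := by exact_mod_cast hAB
  have ht2 : 2 ≤ t := by omega
  set cz : ℤ := (B : ℤ) - A * n with hcz
  have hDform : (1 + A * ((n : ℤ) * p + 1) - B * ((p : ℤ) - 1)) = e - cz * p := by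
    rw [hcz]; linear_combination hABz
  have hAt : (A : ℤ) * t + cz = e - 1 := by
    rw [hcz, htnZ]; linear_combination hABz
  have hnp1 : (n : ℤ) * p + 1 = t * ((p : ℤ) - e) := by rw [hpZ, htnZ]; ring
  have hSum : (1 : ℤ) + A * (t * ((p : ℤ) - e)) ^ 2 + (cz + A * ((t : ℤ) - 1)) * (e * t) ^ 2 +
      t * (e - cz * (e + ((p : ℤ) - e))) ^ 2 ≤ (e + ((p : ℤ) - e)) * e * (t * ((p : ℤ) - e)) := by
    have e1 : (cz + A * ((t : ℤ) - 1)) = B := by rw [hcz, htnZ]; ring
    rw [e1, add_sub_cancel, ← hnp1, ← hDform, ← hDz, show (e : ℤ) * t = (p : ℤ) - 1 by linarith]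
    linarith
  have hepZ : (e : ℤ) < p := by exact_mod_cast hep
  have hc01 := c_eq (A := (A : ℤ)) (c := cz) (e := (e : ℤ)) (t := (t : ℤ)) (X := (p : ℤ) - e)
    (by exact_mod_cast ht2) (by omega) (by exact_mod_cast he) (by rw [hpZ]) hSum hAt
  obtain ⟨c, hc⟩ : ∃ c : ℕ, cz = c := ⟨cz.toNat, by omega⟩
  refine ⟨n, t, A, c, ⟨⟨hSet, hCP, hn, hp1, he, hcardG, hidx, ?_,
    fun χ h1 h2 => hdeg χ h1 h2, hA.symm, fun θ hθ => ?_, fun h => ?_, ?_⟩, ht2, htn.symm,
    by omega⟩⟩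
  · have : ((A * t + c + 1 : ℕ) : ℤ) = (e : ℤ) := by push_cast; rw [← hc]; linarith
    rw [← Nat.cast_inj (R := ℤ), htn]
    exact this
  · have h1 := D.regY θ hθ η hη 1 not_dvd_one_order
    rw [hd1, hd1, ← hDg] at h1
    rw [show charDegree (θ : G → ℂ) = Dg from Nat.cast_inj.1 h1]
    rw [hDform] at hDz
    rcases hc01 with h0 | h0 <;> rw [h0] at hDz hc
    · rw [if_pos (show c = 0 by omega)]
      have : ((Dg ^ 2 : ℕ) : ℤ) = ((e ^ 2 : ℕ) : ℤ) := by push_cast; rw [hDz]; ring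
      exact Nat.pow_left_injective two_ne_zero (Nat.cast_inj.1 this)
    · rw [if_neg (show c ≠ 0 by omega), show c = 1 by omega, one_mul]
      have : ((Dg ^ 2 : ℕ) : ℤ) = (((p - e) ^ 2 : ℕ) : ℤ) := by
        push_cast [Nat.cast_sub hep.le]
        rw [hDz]; ring
      exact Nat.pow_left_injective two_ne_zero (Nat.cast_inj.1 this)
  · rw [show c = 1 by omega, one_mul]
    have h2 : ((n * p + 1 : ℕ) : ℤ) = ((t * (p - e) : ℕ) : ℤ) := by
      push_cast [Nat.cast_sub hep.le]; exact hnp1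
    exact_mod_cast h2
  · have hgoal : ((∑ χ ∈ (D.X ∪ D.Y)ᶜ, d χ ^ 2 : ℕ) : ℤ) = ((n * p ^ 2 : ℕ) : ℤ) := by
      have e1 : (B : ℤ) = cz + A * n := by rw [hcz]; ring
      rw [hDz, hDform, e1] at htZ
      push_cast at htZ ⊢
      have hA' : (A : ℤ) * n + A = e - 1 - cz := by rw [htnZ] at hAt; linarith
      rw [hpZ, htnZ] at htZ ⊢
      rcases hc01 with h0 | h0 <;> rw [h0] at htZ hA' <;>
        linear_combination htZ - (((n : ℤ) + 1) * ((e : ℤ) * n + 1) ^ 2 +
          n * (e : ℤ) ^ 2 * ((n : ℤ) + 1)) * hA'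
    exact Nat.cast_inj.1 hgoal

end Cfsg.Agent.Fg24.Brauer
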