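import Cfsg.Agent.Fg24.Brauer.Degree
import Mathlib.NumberTheory.LegendreSymbol.AddCharacter

/-!
# Restriction to the normalizer of a self-centralizing Sylow subgroup of order `p`
-/

set_option autoImplicit false
set_option linter.unusedSectionVars false

open Cfsg
open scoped ComplexConjugate

namespace Cfsg.Agent.Fg24.Brauer

open Cfsg.Agent.BlockThms.OrderP

universe u

variable {G : Type u} [Group G] {p : ℕ} [Fact p.Prime]

/-- Coordinates on the normalizer of a self-centralizing Sylow subgroup of order `p`. -/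
structure Frame (P : Sylow p G) (e : ℕ) where
  setup : Setup P e
  cent : Subgroup.centralizer (P : Set G) = (P : Subgroup G)
  /-- A generator of a complement. -/
  y : G
  y_mem : y ∈ Subgroup.normalizer (P : Set G)
  y_order : orderOf y = e
  /-- The coordinate. -/
  κ : G → ZMod e
  κ_mul : ∀ a ∈ Subgroup.normalizer (P : Set G), ∀ b ∈ Subgroup.normalizer (P : Set G),
    κ (a * b) = κ a + κ b
  κ_eq_zero : ∀ a ∈ Subgroup.normalizer (P : Set G), κ a = 0 ↔ a ∈ (P : Subgroup G)
  κ_y : κ y = 1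
  dec : ∀ a ∈ Subgroup.normalizer (P : Set G), a * (y ^ (κ a).val)⁻¹ ∈ (P : Subgroup G)

variable [Fintype G] {P : Sylow p G} {e : ℕ}

theorem exists_frame (hS : Setup P e)
    (hC : Subgroup.centralizer (P : Set G) = (P : Subgroup G)) : Nonempty (Frame P e) := by
  classical
  have : NeZero e := ⟨hS.e_pos.ne'⟩
  obtain ⟨-, y, hyN, hgen, hpow, hpy⟩ := hS.exists_y
  have hPN : (P : Subgroup G) ≤ Subgroup.normalizer (P : Set G) := Subgroup.le_normalizer
  have hye : y ^ e = 1 := by
    by_contra h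
    have h1 : y ^ e ∈ (P : Subgroup G) := hC ▸ (hpow e).2 (dvd_refl e)
    refine hpy ?_
    have h2 : Nat.card (Subgroup.zpowers (y ^ e)) = p := by rw [hS.zpowers_eq h1 h, hS.card]
    rw [← Nat.card_zpowers, h2]
  have hyo : orderOf y = e := Nat.dvd_antisymm (orderOf_dvd_of_pow_eq_one hye)
    ((hpow _).1 (by rw [pow_orderOf_eq_one]; exact one_mem _))
  have hdec : ∀ a ∈ Subgroup.normalizer (P : Set G), ∃ i : ZMod e,
      a * (y ^ i.val)⁻¹ ∈ (P : Subgroup G) := by
    intro a ha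
    obtain ⟨j, hj⟩ := hgen a ha
    refine ⟨(j : ZMod e), ?_⟩
    rw [ZMod.val_natCast, ← hyo, pow_mod_orderOf]
    exact hC ▸ hj
  have huniq : ∀ (a : G) (i j : ZMod e), a * (y ^ i.val)⁻¹ ∈ (P : Subgroup G) →
      a * (y ^ j.val)⁻¹ ∈ (P : Subgroup G) → i = j := by
    intro a i j hi hj
    have h1 : y ^ i.val * (y ^ j.val)⁻¹ ∈ (P : Subgroup G) := by
      rw [show y ^ i.val * (y ^ j.val)⁻¹ = (a * (y ^ i.val)⁻¹)⁻¹ * (a * (y ^ j.val)⁻¹) by group]
      exact mul_mem (inv_mem hi) hj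
    have h2 : y ^ i.val * (y ^ j.val)⁻¹ = y ^ (i - j).val := by
      rw [mul_inv_eq_iff_eq_mul, ← pow_add, pow_eq_pow_iff_modEq, hyo,
        ← ZMod.natCast_eq_natCast_iff]
      simp
    rw [h2, ← hC, hpow] at h1
    rw [← sub_eq_zero, ← ZMod.natCast_zmod_val (i - j), ZMod.natCast_eq_zero_iff]
    exact h1
  set κ : G → ZMod e := fun a =>
    if h : a ∈ Subgroup.normalizer (P : Set G) then (hdec a h).choose else 0 with hκ
  have hκs : ∀ a ∈ Subgroup.normalizer (P : Set G),
      a * (y ^ (κ a).val)⁻¹ ∈ (P : Subgroup G) := fun a ha => by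
    rw [hκ]; simp only [dif_pos ha]; exact (hdec a ha).choose_spec
  refine ⟨⟨hS, hC, y, hyN, hyo, κ, fun a ha b hb => ?_, fun a ha => ⟨fun h => ?_, fun h => ?_⟩,
    ?_, hκs⟩⟩
  · refine huniq (a * b) _ _ (hκs _ (mul_mem ha hb)) ?_
    have h3 : y ^ (κ a + κ b).val = y ^ (κ a).val * y ^ (κ b).val := by
      rw [← pow_add, pow_eq_pow_iff_modEq, hyo, ← ZMod.natCast_eq_natCast_iff]
      simp
    have hc : y ^ (κ a).val * (b * (y ^ (κ b).val)⁻¹) * (y ^ (κ a).val)⁻¹ ∈ (P : Subgroup G) :=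
      hS.conj_mem (hκs b hb) (pow_mem hyN _)
    rw [h3, show a * b * (y ^ (κ a).val * y ^ (κ b).val)⁻¹ = (a * (y ^ (κ a).val)⁻¹) *
      (y ^ (κ a).val * (b * (y ^ (κ b).val)⁻¹) * (y ^ (κ a).val)⁻¹) by group]
    exact mul_mem (hκs a ha) hc
  · have := hκs a ha
    rwa [h, ZMod.val_zero, pow_zero, inv_one, mul_one] at this
  · exact huniq a _ 0 (hκs a ha) (by rwa [ZMod.val_zero, pow_zero, inv_one, mul_one])
  · refine huniq y _ 1 (hκs y hyN) ?_
    rw [ZMod.val_one_eq_one_mod, ← hyo, pow_mod_orderOf, pow_one, mul_inv_cancel]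
    exact one_mem _

namespace Frame

variable (F : Frame P e)
include F

theorem e_pos : 0 < e := F.setup.e_pos

theorem card_normalizer : Nat.card (Subgroup.normalizer (P : Set G)) = e * p := by
  rw [F.setup.card_normalizer, F.cent, F.setup.card]

theorem κ_one : F.κ 1 = 0 := (F.κ_eq_zero 1 (one_mem _)).2 (one_mem _)

theorem κ_inv {a : G} (ha : a ∈ Subgroup.normalizer (P : Set G)) : F.κ a⁻¹ = -F.κ a :=
  eq_neg_of_add_eq_zero_left (by rw [← F.κ_mul _ (inv_mem ha) _ ha, inv_mul_cancel, F.κ_one])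

theorem κ_pow {a : G} (ha : a ∈ Subgroup.normalizer (P : Set G)) (j : ℕ) :
    F.κ (a ^ j) = j • F.κ a := by
  induction j with
  | zero => rw [pow_zero, F.κ_one, zero_smul]
  | succ j ih => rw [pow_succ, F.κ_mul _ (pow_mem ha j) _ ha, ih, succ_nsmul]

/-- An element centralizing a nontrivial element of `P` lies in `P`. -/
theorem mem_of_commute {z h : G} (hz : z ∈ (P : Subgroup G)) (hz1 : z ≠ 1) (hc : h * z = z * h) :
    h ∈ (P : Subgroup G) := by
  rw [← F.cent, ← F.setup.centralizer_eq hz hz1]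
  exact Subgroup.mem_centralizer_singleton_iff.2 hc

/-- The coset of an element of the normalizer outside `P` is a conjugacy class under `P`. -/
theorem exists_conj {h : G} (hh : h ∈ Subgroup.normalizer (P : Set G))
    (hP : h ∉ (P : Subgroup G)) {z : G} (hz : z ∈ (P : Subgroup G)) :
    ∃ w ∈ (P : Subgroup G), w * h * w⁻¹ = z * h := by
  let f : ↥(P : Subgroup G) → ↥(P : Subgroup G) := fun w =>
    ⟨(w : G) * (h * (w : G)⁻¹ * h⁻¹), mul_mem w.2 (F.setup.conj_mem (inv_mem w.2) hh)⟩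
  have hinj : Function.Injective f := by
    intro a b hab
    have h1 : (a : G) * (h * (a : G)⁻¹ * h⁻¹) = (b : G) * (h * (b : G)⁻¹ * h⁻¹) :=
      congrArg Subtype.val hab
    have h2 : h * ((b : G)⁻¹ * a) = ((b : G)⁻¹ * a) * h := by
      calc h * ((b : G)⁻¹ * a) = (b : G)⁻¹ * ((b : G) * (h * (b : G)⁻¹ * h⁻¹)) * (h * a) := by group
        _ = (b : G)⁻¹ * ((a : G) * (h * (a : G)⁻¹ * h⁻¹)) * (h * a) := by rw [h1]
        _ = _ := by group
    by_contra hne
    refine hP (F.mem_of_commute (mul_mem (inv_mem b.2) a.2) (fun h3 => hne ?_) h2)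
    exact Subtype.ext (inv_mul_eq_one.1 h3).symm
  obtain ⟨w, hw⟩ := (Finite.injective_iff_surjective.1 hinj) ⟨z, hz⟩
  refine ⟨w, w.2, ?_⟩
  have h4 : (w : G) * (h * (w : G)⁻¹ * h⁻¹) = z := congrArg Subtype.val hw
  rw [← h4]
  group

theorem class_coset {φ : G → ℂ} (hφ : IsClassFunction G φ) {h : G}
    (hh : h ∈ Subgroup.normalizer (P : Set G)) (hP : h ∉ (P : Subgroup G)) {z : G}
    (hz : z ∈ (P : Subgroup G)) : φ (z * h) = φ h := by
  obtain ⟨w, -, hw⟩ := F.exists_conj hh hP hz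
  rw [← hw]
  exact hφ h w

/-- Elements of the normalizer outside `P` are regular. -/
theorem regular {h : G} (hh : h ∈ Subgroup.normalizer (P : Set G))
    (hP : h ∉ (P : Subgroup G)) : ¬ p ∣ orderOf h := by
  have hyN : F.y ^ (F.κ h).val ∈ Subgroup.normalizer (P : Set G) := pow_mem F.y_mem _
  have hyP : F.y ^ (F.κ h).val ∉ (P : Subgroup G) := fun h1 => hP (by
    have := mul_mem (F.dec h hh) h1
    rwa [inv_mul_cancel_right] at this)
  obtain ⟨w, -, hw⟩ := F.exists_conj hyN hyP (F.dec h hh)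
  rw [inv_mul_cancel_right] at hw
  rw [← hw, Blocks.orderOf_conj']
  intro hd
  have h1 := hd.trans ((orderOf_pow_dvd _).trans F.y_order.dvd)
  obtain ⟨hdvd, -⟩ := F.setup.exists_y
  have hp : p.Prime := Fact.out
  have := Nat.le_of_dvd F.e_pos h1
  have := Nat.le_of_dvd (Nat.sub_pos_of_lt hp.one_lt) hdvd
  have := hp.two_le
  omega

theorem avg_eq {x : G} (hx : x ∈ (P : Subgroup G)) (hx1 : x ≠ 1) (φ : G → ℂ) :
    avg p φ x = φ x := by
  have h1 := F.setup.card_fiber hx hx1
  rw [F.setup.centralizer_eq hx hx1, F.cent, F.setup.card] at h1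
  have h2 : (fiber p x).card = 1 := Nat.eq_of_mul_eq_mul_right (Fact.out : p.Prime).pos
    (h1.trans (one_mul p).symm)
  obtain ⟨g, hg⟩ := Finset.card_eq_one.1 h2
  have h3 : x = g := Finset.mem_singleton.1 (hg ▸ self_mem_fiber hx)
  rw [avg, h2, hg, Finset.sum_singleton, ← h3]
  simp

open scoped Classical in
/-- The singular elements are the conjugates of the nontrivial elements of `P`. -/
theorem sum_eq {n : ℕ} (hG : Nat.card G = p * e * (n * p + 1)) {φ : G → ℂ}
    (hφ : IsClassFunction G φ) :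
    ∑ g, φ g = ∑ g ∈ Finset.univ.filter (fun g : G => ¬ p ∣ orderOf g), φ g +
      ((n : ℂ) * p + 1) * (∑ z : (P : Subgroup G), φ z - φ 1) := by
  have hp : p.Prime := Fact.out
  set I : G → ℂ := fun g => if g = 1 then 0 else 1 with hI
  have hA : Adm P I := ⟨if_pos rfl, fun c _ x _ => by simp only [hI, conj_eq_one_iff]⟩
  have hlift : ∀ g, lift P I g = if p ∣ orderOf g then 1 else 0 := by
    intro g
    split_ifs with h
    · obtain ⟨c, hc⟩ := exists_conj_mem P (Blocks.orderOf_pPartOf hp g)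
      rw [F.setup.lift_apply hA hc (isConj_iff.2 ⟨c, rfl⟩)]
      simp only [hI]
      rw [if_neg fun h1 => ?_]
      rw [conj_eq_one_iff, Blocks.pPartOf_eq_one_iff hp] at h1
      exact h1 h
    · exact F.setup.lift_regular hA h
  have h1 := F.setup.sum_lift hA hφ
  have h2 : ∀ x : (P : Subgroup G), I x * avg p φ x = φ x - if x = 1 then φ 1 else 0 := by
    intro x
    by_cases hx : (x : G) = 1
    · rw [if_pos (Subtype.ext hx)]; simp [hI, hx]
    · rw [if_neg fun h => hx (congrArg Subtype.val h), F.avg_eq x.2 hx]; simp [hI, hx]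
  simp only [hlift, ite_mul, one_mul, zero_mul, h2, Finset.sum_sub_distrib, ← Finset.sum_filter,
    hG] at h1
  rw [Finset.filter_eq' Finset.univ (1 : (P : Subgroup G)), if_pos (Finset.mem_univ _),
    Finset.sum_singleton] at h1
  have hne : (e : ℂ) * (p : ℂ) ≠ 0 := mul_ne_zero (Nat.cast_ne_zero.2 F.e_pos.ne')
    (Nat.cast_ne_zero.2 hp.ne_zero)
  have h3 : ∑ g ∈ Finset.univ.filter (fun g : G => p ∣ orderOf g), φ g =
      ((n : ℂ) * p + 1) * (∑ z : (P : Subgroup G), φ z - φ 1) := by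
    refine mul_left_cancel₀ hne (h1.trans ?_)
    push_cast
    ring
  rw [← h3, add_comm, Finset.sum_filter_add_sum_filter_not]

variable [NeZero e]

/-- The linear characters of the normalizer that are trivial on `P`. -/
noncomputable def lam (i : ZMod e) : Subgroup.normalizer (P : Set G) → ℂ :=
  fun a => ZMod.stdAddChar (i * F.κ a)

open scoped Classical in
/-- The multiplicity of a linear character. -/
noncomputable def M (φ : G → ℂ) (i : ZMod e) : ℂ :=
  (Nat.card (Subgroup.normalizer (P : Set G)) : ℂ)⁻¹ *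
    ∑ a : Subgroup.normalizer (P : Set G), φ a * conj (F.lam i a)

theorem lam_mem {i : ZMod e} {a : Subgroup.normalizer (P : Set G)} (ha : (a : G) ∈ (P : Subgroup G)) :
    F.lam i a = 1 := by
  rw [lam, (F.κ_eq_zero _ a.2).2 ha, mul_zero, AddChar.map_zero_eq_one]

theorem isCharacter_lam (i : ZMod e) : IsCharacter _ (F.lam i) := by
  let f : Subgroup.normalizer (P : Set G) →* ℂ :=
    { toFun := F.lam i
      map_one' := F.lam_mem (one_mem _)
      map_mul' := fun a b => by
        show ZMod.stdAddChar (i * F.κ ((a : G) * b)) = _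
        rw [F.κ_mul _ a.2 _ b.2, mul_add, AddChar.map_add_eq_mul]
        rfl }
  have : F.lam i = fun a => (f.toHomUnits a : ℂ) := funext fun a => rfl
  rw [this]
  exact Char.isCharacter_hom _

theorem conj_lam (i : ZMod e) (a : Subgroup.normalizer (P : Set G)) :
    conj (F.lam i a) = ZMod.stdAddChar (-(i * F.κ a)) :=
  (AddChar.map_neg_eq_conj _ _).symm

end Frame

end Cfsg.Agent.Fg24.Brauer
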