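import Cfsg.Agent.Fg24.Brauer.Large
import Mathlib.GroupTheory.Exponent

/-!
# When `t ≥ 3`: `p = 2 ^ a + 1`, `e = 2` and there is a subgroup of index `p`
-/

set_option autoImplicit false
set_option linter.unusedSectionVars false

open Cfsg

namespace Cfsg.Agent.Fg24.Brauer

universe u

variable {G : Type u} [Group G] [Fintype G] {p : ℕ} [Fact p.Prime] {P : Sylow p G} {e : ℕ}
  {D : BlockData P e} {n t A c : ℕ} [NeZero e] (F : Frame P e) (H : Main D n t A c)
include F H

/-- The centralizer of the involution outside the complement consists of conjugate involutions. -/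
theorem Main.centralizer_involution (ht : 3 ≤ t) :
    ∃ u : G, u * u = 1 ∧ u ≠ 1 ∧ u ∈ Subgroup.zpowers F.y ∧
      Nat.card (Subgroup.centralizer ({u} : Set G)) = e * t ∧
      Subgroup.zpowers F.y ≤ Subgroup.centralizer ({u} : Set G) ∧
      ∀ w ∈ Subgroup.centralizer ({u} : Set G), w ∉ Subgroup.zpowers F.y →
        IsConj u w ∧ w * w = 1 := by
  classical
  obtain ⟨m, hm, u, huN, huP, hu, hum, hκ, hinv⟩ := H.exists_involution F ht
  obtain ⟨hC, hcube⟩ := H.values F ht hm huN huP hu hκ hinv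
  have hu1 : u ≠ 1 := fun h => huP (h ▸ one_mem _)
  have huQ : u ∈ Subgroup.zpowers F.y := hum ▸ pow_mem (Subgroup.mem_zpowers F.y) m
  have hQC : Subgroup.zpowers F.y ≤ Subgroup.centralizer ({u} : Set G) := by
    rw [Subgroup.zpowers_le, Subgroup.mem_centralizer_singleton_iff, hum]
    exact ((Commute.refl F.y).pow_right m).eq
  refine ⟨u, hu, hu1, huQ, hC, hQC, fun w hw hwQ => ?_⟩
  set C := Subgroup.centralizer ({u} : Set G) with hCdef
  set S := Finset.univ.filter fun v : G => IsConj u v ∧ IsConj u (u * v) with hS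
  set T := Finset.univ.filter fun v : G => v ∈ C ∧ v ∉ Subgroup.zpowers F.y with hT
  have hsq : ∀ v : G, IsConj u v → v * v = 1 ∧ v ≠ 1 := by
    intro v hv
    obtain ⟨d, rfl⟩ := isConj_iff.1 hv
    exact ⟨by rw [show d * u * d⁻¹ * (d * u * d⁻¹) = d * (u * u) * d⁻¹ by group, hu]; group,
      fun h => hu1 (conj_eq_one_iff.1 h)⟩
  have hST : S ⊆ T := by
    intro v hv
    obtain ⟨h1, h2⟩ := (Finset.mem_filter.1 hv).2
    obtain ⟨hv2, hv1⟩ := hsq v h1
    obtain ⟨huv, huv1⟩ := hsq _ h2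
    have hcomm : v * u = u * v := by
      calc v * u = (u * u) * (v * u) * (v * v) := by rw [hu, hv2]; group
        _ = u * (u * v * (u * v)) * v := by group
        _ = u * v := by rw [huv]; group
    refine Finset.mem_filter.2 ⟨Finset.mem_univ _, Subgroup.mem_centralizer_singleton_iff.2 hcomm,
      fun hvQ => huv1 ?_⟩
    have hvN : v ∈ Subgroup.normalizer (P : Set G) :=
      (Subgroup.zpowers_le.2 F.y_mem) hvQ
    have hvP : v ∉ (P : Subgroup G) := by
      intro h
      have h3 := orderOf_dvd_of_pow_eq_one (show v ^ 2 = 1 by rw [pow_two, hv2])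
      rw [← Nat.card_zpowers, F.setup.zpowers_eq h hv1, F.setup.card] at h3
      have := Nat.le_of_dvd two_pos h3
      have := H.et
      have := Nat.mul_le_mul H.two_le_e ht
      omega
    obtain ⟨j, rfl⟩ := (isOfFinOrder_of_finite F.y).mem_powers_iff_mem_zpowers.2 hvQ
    have h4 := hinv _ hvN hvP hv2
    simp only at h4
    rw [F.κ_pow F.y_mem, F.κ_y, nsmul_one, ZMod.natCast_eq_natCast_iff] at h4
    have h5 : F.y ^ j = u := by
      rw [hum, pow_eq_pow_iff_modEq, F.y_order]
      exact h4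
    show u * F.y ^ j = 1
    rw [h5, hu]
  have hScard : S.card = e * n := by
    have h := count_pairs hu
    rw [hcube, hC] at h
    have h1 : S.card * (e * t) ^ 2 = e * n * (e * t) ^ 2 := by exact_mod_cast h
    exact Nat.eq_of_mul_eq_mul_right (pow_pos (Nat.mul_pos F.e_pos (by omega)) 2) h1
  have hTcard : T.card + e = e * t := by
    rw [← hC, Nat.card_eq_fintype_card, Fintype.card_subtype, hT,
      ← Finset.card_filter_add_card_filter_not (s := Finset.univ.filter fun v : G => v ∈ C)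
        (fun v => v ∈ Subgroup.zpowers F.y), Finset.filter_filter, Finset.filter_filter, add_comm]
    congr 1
    conv_lhs => rw [← F.y_order, ← Nat.card_zpowers, Nat.card_eq_fintype_card, Fintype.card_subtype]
    exact congrArg Finset.card (Finset.filter_congr fun v _ => ⟨fun h => ⟨hQC h, h⟩, fun h => h.2⟩)
  have hTn : T.card ≤ S.card := by
    rw [H.t_eq] at hTcard
    rw [hScard]
    linarith
  have hwT : w ∈ T := Finset.mem_filter.2 ⟨Finset.mem_univ _, hw, hwQ⟩
  rw [← Finset.eq_of_subset_of_card_le hST hTn] at hwT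
  have hc := (Finset.mem_filter.1 hwT).2.1
  exact ⟨hc, (hsq w hc).1⟩

/-- `p - 1` is a power of `2` and there is a subgroup of index `p`. -/
theorem Main.exists_index (ht : 3 ≤ t) :
    e = 2 ∧ ∃ a : ℕ, p = 2 ^ a + 1 ∧ ∃ K : Subgroup G, K.index = p := by
  classical
  obtain ⟨u, hu, hu1, huQ, hC, hQC, hall⟩ := H.centralizer_involution F ht
  set C := Subgroup.centralizer ({u} : Set G) with hCdef
  set Q := Subgroup.zpowers F.y with hQ
  have hQe : Nat.card Q = e := by rw [hQ, Nat.card_zpowers, F.y_order]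
  have hinv : ∀ w ∈ C, w ∉ Q → ∀ q ∈ Q, w * q * w = q⁻¹ := by
    intro w hw hwQ q hq
    have h := (hall (w * q) (mul_mem hw (hQC hq))
      fun h => hwQ (by simpa using mul_mem h (inv_mem hq))).2
    rw [eq_inv_iff_mul_eq_one]
    exact (mul_assoc (w * q) w q).trans h
  have hinv' : ∀ w ∈ C, w ∉ Q → w * F.y * w⁻¹ = F.y⁻¹ := fun w hw hwQ => by
    rw [inv_eq_of_mul_eq_one_right (hall w hw hwQ).2]
    exact hinv w hw hwQ F.y (Subgroup.mem_zpowers _)
  obtain ⟨w, hw, hwQ⟩ : ∃ w ∈ C, w ∉ Q := by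
    by_contra h
    push Not at h
    have h2 := Subgroup.card_le_of_le (show C ≤ Q from h)
    rw [hC, hQe] at h2
    have := Nat.mul_le_mul_left e ht
    have := H.two_le_e
    omega
  obtain ⟨w', hw', hw'Q, hww⟩ : ∃ w' ∈ C, w' ∉ Q ∧ w⁻¹ * w' ∉ Q := by
    by_contra h
    push Not at h
    have hsub : (Finset.univ.filter fun g : G => g ∈ C) ⊆
        (Finset.univ.filter fun g : G => g ∈ Q) ∪
          (Finset.univ.filter fun g : G => g ∈ Q).image (w * ·) := by
      intro g hg
      by_cases hgQ : g ∈ Q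
      · exact Finset.mem_union_left _ (Finset.mem_filter.2 ⟨Finset.mem_univ _, hgQ⟩)
      · exact Finset.mem_union_right _ (Finset.mem_image.2 ⟨w⁻¹ * g,
          Finset.mem_filter.2 ⟨Finset.mem_univ _, h g (Finset.mem_filter.1 hg).2 hgQ⟩,
          mul_inv_cancel_left w g⟩)
    have h2 := (Finset.card_le_card hsub).trans ((Finset.card_union_le _ _).trans
      (Nat.add_le_add_left Finset.card_image_le _))
    rw [← Fintype.card_subtype, ← Fintype.card_subtype, ← Nat.card_eq_fintype_card,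
      ← Nat.card_eq_fintype_card, show Nat.card {g : G // g ∈ C} = e * t from hC,
      show Nat.card {g : G // g ∈ Q} = e from hQe] at h2
    have := Nat.mul_le_mul_left e ht
    have := H.two_le_e
    omega
  have he2 : e = 2 := by
    have h1 := hinv' w hw hwQ
    have h2 := hinv' w' hw' hw'Q
    have hx := hinv' (w⁻¹ * w') (mul_mem (inv_mem hw) hw') hww
    have h3 : w⁻¹ * w' * F.y * (w⁻¹ * w')⁻¹ = F.y := by
      rw [show w⁻¹ * w' * F.y * (w⁻¹ * w')⁻¹ = w⁻¹ * (w' * F.y * w'⁻¹) * w by group, h2, ← h1]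
      group
    have h4 : F.y ^ 2 = 1 := by
      rw [pow_two]
      nth_rewrite 1 [← h3]
      rw [hx, inv_mul_cancel]
    have := H.two_le_e
    have h5 := Nat.le_of_dvd two_pos (orderOf_dvd_of_pow_eq_one h4)
    rw [F.y_order] at h5
    omega
  refine ⟨he2, ?_⟩
  have hQu : ∀ q ∈ Q, q ≠ 1 → q = u := by
    intro q hq hq1
    have h2 : Nat.card Q = 2 := by rw [hQe, he2]
    obtain ⟨x, y, hxy, huniv⟩ := Nat.card_eq_two_iff.1 h2
    have key : ∀ r : Q, r = x ∨ r = y := fun r => by
      have : r ∈ ({x, y} : Set Q) := huniv ▸ Set.mem_univ r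
      simpa using this
    have e1 : (⟨q, hq⟩ : Q) ≠ 1 := fun h => hq1 (congrArg Subtype.val h)
    have e2 : (⟨u, huQ⟩ : Q) ≠ 1 := fun h => hu1 (congrArg Subtype.val h)
    refine congrArg Subtype.val (?_ : (⟨q, hq⟩ : Q) = ⟨u, huQ⟩)
    rcases key 1 with h | h <;> rcases key ⟨q, hq⟩ with h' | h' <;>
      rcases key ⟨u, huQ⟩ with h'' | h'' <;>
      first
        | exact absurd (h'.trans h.symm) e1
        | exact absurd (h''.trans h.symm) e2
        | exact h'.trans h''.symm
  have hconj : ∀ v ∈ C, v ≠ 1 → IsConj u v ∧ v * v = 1 := by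
    intro v hv hv1
    by_cases hvQ : v ∈ Q
    · rw [hQu v hvQ hv1]; exact ⟨IsConj.refl u, hu⟩
    · exact hall v hv hvQ
  have hsq : ∀ v ∈ C, v * v = 1 := fun v hv => by
    by_cases h : v = 1
    · rw [h, mul_one]
    · exact (hconj v hv h).2
  have hcomm : ∀ v ∈ C, ∀ v' ∈ C, v * v' = v' * v := by
    intro v hv v' hv'
    have h := hsq _ (mul_mem hv hv')
    calc v * v' = (v * v')⁻¹ := (inv_eq_of_mul_eq_one_right h).symm
      _ = v'⁻¹ * v⁻¹ := mul_inv_rev _ _
      _ = v' * v := by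
          rw [inv_eq_of_mul_eq_one_right (hsq v hv), inv_eq_of_mul_eq_one_right (hsq v' hv')]
  have : Fact (Nat.Prime 2) := ⟨Nat.prime_two⟩
  have hpg : IsPGroup 2 C := fun v => ⟨1, Subtype.ext (by
    rw [pow_one, Subgroup.coe_pow, pow_two, hsq v v.2]; rfl)⟩
  obtain ⟨a, ha⟩ := IsPGroup.iff_card.1 hpg
  refine ⟨a, by rw [← ha, hC, H.et], Subgroup.normalizer (C : Set G), ?_⟩
  -- the stabilizer of `u` in the normalizer of `C` is `C`
  have hCv : ∀ v ∈ C, v ≠ 1 → Subgroup.centralizer ({v} : Set G) = C := by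
    intro v hv hv1
    refine (Subgroup.eq_of_le_of_card_ge (fun x hx => Subgroup.mem_centralizer_singleton_iff.2
      (hcomm x hx v hv)) ?_).symm
    obtain ⟨d, rfl⟩ := isConj_iff.1 (hconj v hv hv1).1
    rw [BlockThms.card_centralizer_conj]
  set N := Subgroup.normalizer (C : Set G) with hN
  have huC : u ∈ C := hQC huQ
  let g : N → {v : C // v ≠ 1} := fun d => ⟨⟨(d : G) * u * (d : G)⁻¹,
    (Subgroup.mem_normalizer_iff.1 d.2 u).1 huC⟩, fun h => hu1 (conj_eq_one_iff.1
      (congrArg Subtype.val h))⟩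
  have hfib : ∀ v : {v : C // v ≠ 1}, (Finset.univ.filter fun d : N => g d = v).card = Nat.card C := by
    rintro ⟨⟨v, hv⟩, hv1⟩
    have hv1' : v ≠ 1 := fun h => hv1 (Subtype.ext h)
    obtain ⟨d₀, hd₀⟩ := isConj_iff.1 (hconj v hv hv1').1
    have hd₀N : d₀ ∈ N := by
      refine Subgroup.mem_normalizer_iff.2 fun x => ?_
      have hCv' := hCv v hv hv1'
      constructor
      · intro hx
        change x ∈ C at hx
        show d₀ * x * d₀⁻¹ ∈ C
        rw [← hCv', Subgroup.mem_centralizer_singleton_iff, ← hd₀]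
        calc d₀ * x * d₀⁻¹ * (d₀ * u * d₀⁻¹) = d₀ * (x * u) * d₀⁻¹ := by group
          _ = d₀ * (u * x) * d₀⁻¹ := by rw [hcomm x hx u huC]
          _ = d₀ * u * d₀⁻¹ * (d₀ * x * d₀⁻¹) := by group
      · intro hx
        change d₀ * x * d₀⁻¹ ∈ C at hx
        show x ∈ C
        rw [← hCv', Subgroup.mem_centralizer_singleton_iff, ← hd₀] at hx
        rw [hCdef, Subgroup.mem_centralizer_singleton_iff]
        calc x * u = d₀⁻¹ * ((d₀ * x * d₀⁻¹) * (d₀ * u * d₀⁻¹)) * d₀ := by group
          _ = d₀⁻¹ * ((d₀ * u * d₀⁻¹) * (d₀ * x * d₀⁻¹)) * d₀ := by rw [hx]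
          _ = u * x := by group
    rw [← Nat.card_eq_finsetCard]
    refine Nat.card_congr
      { toFun := fun d => ⟨d₀⁻¹ * (d.1 : G), ?_⟩
        invFun := fun x => ⟨⟨d₀ * x, mul_mem hd₀N (Subgroup.le_normalizer x.2)⟩,
          Finset.mem_filter.2 ⟨Finset.mem_univ _, Subtype.ext (Subtype.ext ?_)⟩⟩
        left_inv := fun d => Subtype.ext (Subtype.ext (mul_inv_cancel_left _ _))
        right_inv := fun x => Subtype.ext (inv_mul_cancel_left _ _) }
    · have h3 : (d.1 : G) * u * (d.1 : G)⁻¹ = d₀ * u * d₀⁻¹ := by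
        rw [hd₀]
        exact congrArg (fun z : {v : C // v ≠ 1} => ((z : C) : G)) (Finset.mem_filter.1 d.2).2
      refine Subgroup.mem_centralizer_singleton_iff.2 ?_
      calc d₀⁻¹ * (d.1 : G) * u = d₀⁻¹ * ((d.1 : G) * u * (d.1 : G)⁻¹) * d.1 := by group
        _ = u * (d₀⁻¹ * d.1) := by rw [h3]; group
    · show d₀ * (x : G) * u * (d₀ * (x : G))⁻¹ = v
      rw [← hd₀, mul_assoc d₀, hcomm _ x.2 u huC]
      group
  have hNcard : Nat.card N = (Nat.card C - 1) * Nat.card C := by
    rw [Nat.card_eq_fintype_card, ← Finset.card_univ,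
      Finset.card_eq_sum_card_fiberwise (t := Finset.univ) (f := g) fun d _ => Finset.mem_univ _,
      Finset.sum_congr rfl fun v _ => hfib v, Finset.sum_const, Finset.card_univ, smul_eq_mul,
      Fintype.card_subtype_compl, Fintype.card_subtype_eq, ← Nat.card_eq_fintype_card]
  have h := Subgroup.index_mul_card N
  rw [hNcard, hC, H.card, H.np_eq, ← H.et, he2, show 2 * t + 1 - 2 = 2 * t - 1 by omega] at h
  rw [← H.et, he2]
  refine Nat.eq_of_mul_eq_mul_right (show 0 < (2 * t - 1) * (2 * t) from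
    Nat.mul_pos (by omega) (by omega)) (h.trans ?_)
  ring

end Cfsg.Agent.Fg24.Brauer
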