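import Cfsg.Agent.Fg24.Brauer.Values
import Cfsg.Agent.Char.ClassAlg

/-!
# The values at an involution of the normalizer
-/

set_option autoImplicit false
set_option linter.unusedSectionVars false

open Cfsg
open scoped ComplexConjugate

namespace Cfsg.Agent.Fg24.Brauer

universe u

open scoped Classical in
/-- The conjugates `v` of `u` with `u v` conjugate to `u`, counted through the characters. -/
theorem count_pairs {G : Type u} [Group G] [Fintype G] {u : G} (hu : u * u = 1) :
    ((Finset.univ.filter fun v : G => IsConj u v ∧ IsConj u (u * v)).card : ℂ) *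
        (Nat.card (Subgroup.centralizer ({u} : Set G)) : ℂ) ^ 2 =
      (Nat.card G : ℂ) * ∑ χ : IrrCharacter G, (χ : G → ℂ) u ^ 3 / (χ : G → ℂ) 1 := by
  set K := Finset.univ.filter (IsConj u) with hK
  set a := (Finset.univ.filter fun v : G => IsConj u v ∧ IsConj u (u * v)).card with ha
  set C := (Nat.card (Subgroup.centralizer ({u} : Set G)) : ℂ) with hCdef
  set I := ((Subgroup.centralizer ({u} : Set G)).index : ℂ) with hI
  have hKc : (K.card : ℂ) = I := by
    rw [hI, ← Char.card_isConj_eq_index, hK, Nat.card_eq_fintype_card, Fintype.card_subtype]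
  have hreal : ∀ χ : IrrCharacter G, conj ((χ : G → ℂ) u) = (χ : G → ℂ) u := fun χ => by
    rw [← Char.IsChar.inv_eq_conj (Char.IsIrr.isCharacter χ.2), inv_eq_of_mul_eq_one_right hu]
  have hconj2 : ∀ g : G, ∑ χ : IrrCharacter G, (χ : G → ℂ) u * conj ((χ : G → ℂ) g) =
      ∑ χ : IrrCharacter G, (χ : G → ℂ) g * (χ : G → ℂ) u := by
    intro g
    have h : conj (∑ χ : IrrCharacter G, (χ : G → ℂ) u * conj ((χ : G → ℂ) g)) =
        ∑ χ : IrrCharacter G, (χ : G → ℂ) g * (χ : G → ℂ) u := by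
      rw [map_sum]
      exact Finset.sum_congr rfl fun χ _ => by rw [map_mul, Complex.conj_conj, hreal, mul_comm]
    rw [← h, Char.second_orthogonality]
    split_ifs <;> simp
  have horth' : ∀ g : G, ∑ χ : IrrCharacter G, (χ : G → ℂ) g * (χ : G → ℂ) u =
      if IsConj u g then C else 0 := fun g => by
    rw [← hconj2, hCdef, Char.second_orthogonality]
    congr!
  have hrow : ∀ x ∈ K, (K.filter fun y => IsConj u (x * y)).card = a := by
    intro x hx
    obtain ⟨c, rfl⟩ := isConj_iff.1 (Finset.mem_filter.1 hx).2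
    have e1 : ∀ g : G, IsConj u (c * g * c⁻¹) ↔ IsConj u g := fun g =>
      ⟨fun h => h.trans (isConj_iff.2 ⟨c⁻¹, by group⟩),
        fun h => h.trans (isConj_iff.2 ⟨c, rfl⟩)⟩
    refine Finset.card_nbij' (fun y => c⁻¹ * y * c) (fun v => c * v * c⁻¹) ?_ ?_ ?_ ?_
    · intro y hy
      simp only [hK, Finset.coe_filter, Finset.mem_filter, Finset.mem_univ, true_and,
        Set.mem_setOf_eq] at hy ⊢
      refine ⟨(e1 _).1 ?_, (e1 _).1 ?_⟩
      · rw [show c * (c⁻¹ * y * c) * c⁻¹ = y by group]; exact hy.1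
      · rw [show c * (u * (c⁻¹ * y * c)) * c⁻¹ = c * u * c⁻¹ * y by group]; exact hy.2
    · intro v hv
      simp only [hK, Finset.coe_filter, Finset.mem_filter, Finset.mem_univ, true_and,
        Set.mem_setOf_eq] at hv ⊢
      refine ⟨(e1 _).2 hv.1, ?_⟩
      rw [show c * u * c⁻¹ * (c * v * c⁻¹) = c * (u * v) * c⁻¹ by group]
      exact (e1 _).2 hv.2
    · intro y _; group
    · intro v _; group
  have hLHS : ∑ x ∈ K, ∑ y ∈ K, ∑ χ : IrrCharacter G, (χ : G → ℂ) (x * y) * (χ : G → ℂ) u =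
      I * (a : ℂ) * C := by
    rw [Finset.sum_congr rfl fun x hx => show _ = (a : ℂ) * C by
      rw [Finset.sum_congr rfl fun y _ => horth' (x * y), ← Finset.sum_filter, Finset.sum_const,
        hrow x hx, nsmul_eq_mul], Finset.sum_const, nsmul_eq_mul, hKc, mul_assoc]
  have hRHS : ∑ x ∈ K, ∑ y ∈ K, ∑ χ : IrrCharacter G, (χ : G → ℂ) (x * y) * (χ : G → ℂ) u =
      I * I * ∑ χ : IrrCharacter G, (χ : G → ℂ) u ^ 3 / (χ : G → ℂ) 1 := by
    rw [Finset.sum_congr rfl fun x _ => Finset.sum_comm, Finset.sum_comm, Finset.mul_sum]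
    refine Finset.sum_congr rfl fun χ _ => ?_
    simp only [← Finset.sum_mul]
    have h : (χ : G → ℂ) 1 * ∑ x ∈ K, ∑ y ∈ K, (χ : G → ℂ) (x * y) =
        I * I * (χ : G → ℂ) u * (χ : G → ℂ) u := by
      rw [hK, hI]
      convert Char.sum_classes_mul χ.2 u u
    have h1 := Char.IsIrr.one_ne_zero χ.2
    field_simp
    linear_combination (χ : G → ℂ) u * h
  have hIC : I * C = (Nat.card G : ℂ) := by
    rw [hI, hCdef, ← Nat.cast_mul, Subgroup.index_mul_card]
  have hI0 : I ≠ 0 := fun h => Char.card_ne_zero (G := G) (by rw [← hIC, h, zero_mul])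
  have h := hLHS.symm.trans hRHS
  rw [mul_assoc, mul_assoc] at h
  have h' := mul_left_cancel₀ hI0 h
  rw [← hIC]
  linear_combination C * h'

variable {G : Type u} [Group G] [Fintype G] {p : ℕ} [Fact p.Prime] {P : Sylow p G} {e : ℕ}
  {D : BlockData P e} {n t A c : ℕ} [NeZero e] (F : Frame P e)
include F

/-- The exceptional characters do not vanish on the normalizer. -/
theorem Pre.c_ne_zero (H : Pre D n t A c) (ht : 2 ≤ t) (hn2 : 2 ≤ n) : c ≠ 0 := by
  classical
  intro hc
  obtain ⟨η, hη⟩ : D.Y.Nonempty := Finset.card_pos.1 (by rw [H.cardY']; omega)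
  have hmu : ∀ i, F.mu η i = 0 := fun i => by
    have h := H.sum_mu_Y F hη
    rw [hc] at h
    exact Finset.sum_eq_zero_iff.1 h i (Finset.mem_univ i)
  have hD : charDegree (η : G → ℂ) = e := by rw [H.degY η hη, if_pos hc]
  set ζ : G → ℂ := (η : G → ℂ) * fun g => conj ((η : G → ℂ) g) with hζ
  have hζc : IsCharacter G ζ := Char.isCharacter_mul (Char.IsIrr.isCharacter η.2)
    (Char.isCharacter_conj (Char.IsIrr.isCharacter η.2))
  have hη0 : ∀ a : Subgroup.normalizer (P : Set G), (a : G) ∉ (P : Subgroup G) →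
      (η : G → ℂ) a = 0 := fun a ha => by
    rw [F.apply_mu η a.2 ha]
    simp [hmu]
  have hM : ∀ i, F.M ζ i = F.M ζ 0 := by
    intro i
    simp only [Frame.M]
    congr 1
    refine Finset.sum_congr rfl fun a _ => ?_
    by_cases ha : (a : G) ∈ (P : Subgroup G)
    · rw [F.lam_mem ha, F.lam_mem ha]
    · rw [hζ, Pi.mul_apply, hη0 a ha, zero_mul, zero_mul, zero_mul]
  have hM0 : F.M ζ 0 ≠ 0 := by
    simp only [Frame.M]
    refine mul_ne_zero (inv_ne_zero (Nat.cast_ne_zero.2 Nat.card_pos.ne')) ?_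
    have h1 : ∀ a : Subgroup.normalizer (P : Set G), ζ a * conj (F.lam 0 a) =
        ((Complex.normSq ((η : G → ℂ) a) : ℝ) : ℂ) := fun a => by
      rw [← Complex.mul_conj, Frame.lam, zero_mul, AddChar.map_zero_eq_one, map_one, mul_one]
      rfl
    rw [Finset.sum_congr rfl fun a _ => h1 a, ← Complex.ofReal_sum, Complex.ofReal_ne_zero]
    refine (lt_of_lt_of_le ?_ (Finset.single_le_sum (fun a _ => Complex.normSq_nonneg _)
      (Finset.mem_univ (1 : Subgroup.normalizer (P : Set G))))).ne'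
    exact Complex.normSq_pos.2 (Char.IsIrr.one_ne_zero η.2)
  choose m hm using (Char.isCharacter_iff.1 hζc).2
  have hexp : ∀ g, ζ g = ∑ χ : IrrCharacter G, (m χ : ℂ) * (χ : G → ℂ) g := fun g => by
    conv_lhs => rw [Char.classFun_expansion (Char.isClassFunction_of_isCharacter hζc)]
    simp only [Finset.sum_apply, Pi.smul_apply, smul_eq_mul, hm]
  have hMexp : ∀ i, F.M ζ i = ∑ χ : IrrCharacter G, (m χ : ℂ) * (F.mu χ i : ℂ) := fun i => by
    simp only [← F.M_eq_mu, Frame.M, hexp, Finset.sum_mul, Finset.mul_sum]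
    rw [Finset.sum_comm]
    exact Finset.sum_congr rfl fun χ _ => Finset.sum_congr rfl fun a _ => by ring
  have hpos : ∀ θ ∈ D.setA, 1 ≤ m θ := by
    intro θ hθ
    have h0 : F.mu θ 0 = 0 := by
      by_contra h0
      have h := F.sum_mu_degree 0
      rw [H.index, ← Finset.add_sum_erase _ _ (Finset.mem_univ θ),
        ← Finset.add_sum_erase _ _ (Finset.mem_erase.2
          ⟨(H.mem_setA hθ).2.1.symm, Finset.mem_univ (Blocks.triv G)⟩),
        (H.mem_setA hθ).2.2.2, H.mu_triv_zero F, one_mul,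
        Blocks.charDegree_eq (n := 1) (by simp [Blocks.triv])] at h
      have := Nat.le_mul_of_pos_left (n * p + 1) (Nat.pos_of_ne_zero h0)
      omega
    obtain ⟨i, -, hi⟩ := Finset.exists_ne_zero_of_sum_ne_zero
      (show ∑ i : ZMod e, F.mu θ i ≠ 0 by rw [H.sum_mu_A F hθ]; omega)
    have hi0 : i ≠ 0 := fun h => hi (h ▸ h0)
    obtain ⟨θ', -, -, hu⟩ := H.exists_A F hi0 fun η' hη' => by rw [H.mu_Y F hη' hη]; exact hmu i
    have hθθ : θ = θ' := by
      by_contra h
      exact hi (hu θ h)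
    subst hθθ
    rw [Nat.one_le_iff_ne_zero]
    intro hmθ
    refine hM0 ?_
    rw [← hM i, hMexp]
    refine Finset.sum_eq_zero fun χ _ => ?_
    by_cases h : χ = θ
    · rw [h, hmθ, Nat.cast_zero, zero_mul]
    · rw [hu χ h, Nat.cast_zero, mul_zero]
  have htrivm : m (Blocks.triv G) = 1 := by
    have h := hm (Blocks.triv G)
    have h2 : classInner ζ ((Blocks.triv G : IrrCharacter G) : G → ℂ) = 1 := by
      rw [← Char.classInner_irr_self η.2]
      simp [classInner, hζ, Blocks.triv]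
    rw [h2] at h
    exact_mod_cast h.symm
  have hdeg : ∑ χ : IrrCharacter G, m χ * charDegree (χ : G → ℂ) = e * e := by
    have h := hexp 1
    rw [hζ, Pi.mul_apply, degree_cast, hD, Complex.conj_natCast] at h
    simp only [degree_cast] at h
    exact_mod_cast h.symm
  have hle : 1 + A * (n * p + 1) ≤ e * e := by
    rw [← hdeg, D.sum_split, htrivm, Blocks.charDegree_eq (n := 1) (by simp [Blocks.triv]),
      one_mul]
    have h1 : A * (n * p + 1) ≤ ∑ χ ∈ D.setA, m χ * charDegree (χ : G → ℂ) := by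
      rw [← H.card_setA, ← smul_eq_mul, ← Finset.sum_const]
      refine Finset.sum_le_sum fun χ hχ => ?_
      rw [(H.mem_setA hχ).2.2.2]
      exact Nat.le_mul_of_pos_left _ (hpos χ hχ)
    omega
  have hcount := H.count
  rw [hc, add_zero] at hcount
  have he := H.two_le_e
  obtain ⟨k, rfl⟩ : ∃ k, e = k + 1 := ⟨e - 1, by omega⟩
  have hAn : A * (n + 1) = k := by omega
  have hp : (k + 1) * 2 + 1 ≤ p := by
    rw [← H.et]
    exact Nat.succ_le_succ (Nat.mul_le_mul_left _ ht)
  have h2 := Nat.mul_le_mul_right (n + 1) hle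
  have h3 : (n + 1) + k * (n * p + 1) ≤ (k + 1) * (k + 1) * (n + 1) := by
    rw [← hAn]
    calc _ = (1 + A * (n * p + 1)) * (n + 1) := by ring
      _ ≤ _ := by rw [hAn]; exact h2
  have h4 : k * (n * ((k + 1) * 2 + 1) + 1) ≤ k * (n * p + 1) :=
    Nat.mul_le_mul_left _ (Nat.succ_le_succ (Nat.mul_le_mul_left _ hp))
  have h5 : k * (n * (k + 1) + 1) + n * k * k + 2 * (n * k) + (n + 1) ≤ k * (n * ((k + 1) * 2 + 1) + 1) + (n + 1) := by
    nlinarith
  nlinarith [Nat.mul_le_mul_right (k * k) hn2]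

/-- When `t ≥ 3` the exceptional characters do not vanish on the normalizer. -/
theorem Main.c_eq_one (H : Main D n t A c) (ht : 3 ≤ t) : c = 1 :=
  H.c_or.resolve_left (H.toPre.c_ne_zero F H.two_le (by have := H.t_eq; omega))

variable (H : Main D n t A c)
include H

/-- The linear character of the exceptional characters. -/
theorem Main.exists_i0 (hc : c = 1) :
    ∃ i0 : ZMod e, i0 ≠ 0 ∧ (∀ η ∈ D.Y, ∀ i, F.mu η i = if i = i0 then 1 else 0) ∧
      ∀ χ, χ ∉ D.Y → F.mu χ i0 = 0 := by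
  classical
  obtain ⟨η, hη⟩ : D.Y.Nonempty := Finset.card_pos.1 (by rw [H.cardY']; have := H.two_le; omega)
  have hs : ∑ i : ZMod e, F.mu η i = 1 := by rw [H.sum_mu_Y F hη, hc]
  obtain ⟨i0, -, hi⟩ := Finset.exists_ne_zero_of_sum_ne_zero (hs ▸ one_ne_zero)
  have hone : ∀ i, F.mu η i = if i = i0 then 1 else 0 := by
    intro i
    rw [← Finset.add_sum_erase _ _ (Finset.mem_univ i0)] at hs
    split_ifs with h
    · rw [h]; omega
    · exact Finset.sum_eq_zero_iff.1
        (show ∑ j ∈ Finset.univ.erase i0, F.mu η j = 0 by omega) i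
        (Finset.mem_erase.2 ⟨h, Finset.mem_univ i⟩)
  have hY : ∀ χ ∈ D.Y, ∀ i, F.mu χ i = if i = i0 then 1 else 0 := fun χ hχ i =>
    (H.mu_Y F hχ hη i).trans (hone i)
  have h := F.sum_mu_degree i0
  rw [H.index, ← Finset.sum_add_sum_compl D.Y, Finset.sum_congr rfl (g := fun _ => p - e)
    (fun χ hχ => by rw [hY χ hχ, if_pos rfl, one_mul, H.degY' χ hχ, hc, if_neg one_ne_zero]),
    Finset.sum_const, smul_eq_mul, H.cardY', ← H.np_eq, Nat.add_eq_left] at h
  have hz : ∀ χ, χ ∉ D.Y → F.mu χ i0 = 0 := fun χ hχ =>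
    (mul_eq_zero.1 (Finset.sum_eq_zero_iff.1 h χ (Finset.mem_compl.2 hχ))).resolve_right
      (Blocks.charDegree_pos χ.2).ne'
  refine ⟨i0, fun h0 => ?_, hY, hz⟩
  have h1 := H.mu_triv_zero F
  rw [← h0, hz _ (Finset.disjoint_left.1 D.disj D.triv_mem)] at h1
  exact zero_ne_one h1

end Cfsg.Agent.Fg24.Brauer
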