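import Cfsg.Agent.Fg24.Brauer.Involution

/-!
# The case `t ≥ 3`: a subgroup of index `p`
-/

set_option autoImplicit false
set_option linter.unusedSectionVars false

open Cfsg
open scoped ComplexConjugate

namespace Cfsg.Agent.Fg24.Brauer

universe u

variable {G : Type u} [Group G] [Fintype G] {p : ℕ} [Fact p.Prime] {P : Sylow p G} {e : ℕ}
  {D : BlockData P e} {n t A c : ℕ} [NeZero e] (F : Frame P e) (H : Main D n t A c)
include F H

theorem Main.exists_involution (ht : 3 ≤ t) :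
    ∃ m : ℕ, e = 2 * m ∧ ∃ u : G, u ∈ Subgroup.normalizer (P : Set G) ∧ u ∉ (P : Subgroup G) ∧
      u * u = 1 ∧ u = F.y ^ m ∧ F.κ u = (m : ZMod e) ∧
      ∀ v ∈ Subgroup.normalizer (P : Set G), v ∉ (P : Subgroup G) → v * v = 1 →
        F.κ v = (m : ZMod e) := by
  have hcount := H.count'
  rw [H.c_eq_one F ht] at hcount
  obtain ⟨m, hm⟩ : 2 ∣ e := by
    by_contra he
    have he' : e % 2 = 1 := Nat.two_dvd_ne_zero.1 he
    have hp := (Fact.out : p.Prime).eq_two_or_odd
    have hpe := H.et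
    have h1 : (A * t) % 2 = 1 := by omega
    have h2 : t % 2 = 1 := by
      rw [Nat.mul_mod] at h1
      rcases Nat.mod_two_eq_zero_or_one t with h | h <;> rw [h] at h1 ⊢
      simp at h1
    have h3 : (e * t) % 2 = 1 := by rw [Nat.mul_mod, he', h2]
    have := Nat.mul_le_mul H.two_le_e ht
    omega
  have hm0 : 0 < m := by have := H.two_le_e; omega
  have hκ : F.κ (F.y ^ m) = (m : ZMod e) := by rw [F.κ_pow F.y_mem, F.κ_y, nsmul_one]
  have hne : (m : ZMod e) ≠ 0 := by
    rw [Ne, ZMod.natCast_eq_zero_iff]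
    intro h
    have := Nat.le_of_dvd hm0 h
    omega
  refine ⟨m, hm, F.y ^ m, pow_mem F.y_mem m,
    fun h => hne (hκ ▸ (F.κ_eq_zero _ (pow_mem F.y_mem m)).2 h), ?_, rfl, hκ, fun v hv hvP hv2 => ?_⟩
  · rw [← pow_add, ← two_mul, ← hm]
    exact orderOf_dvd_iff_pow_eq_one.1 F.y_order.dvd
  · have h1 : F.κ v + F.κ v = 0 := by rw [← F.κ_mul _ hv _ hv, hv2, F.κ_one]
    have h2 : (F.κ v).val ≠ 0 := fun h => hvP ((F.κ_eq_zero _ hv).1 ((ZMod.val_eq_zero _).1 h))
    have h3 : e ∣ (F.κ v).val + (F.κ v).val := by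
      rw [← ZMod.natCast_eq_zero_iff, Nat.cast_add, ZMod.natCast_zmod_val, h1]
    obtain ⟨q, hq⟩ := h3
    have hlt := ZMod.val_lt (F.κ v)
    have hq1 : q = 1 := by
      rcases Nat.lt_or_ge q 2 with h | h
      · rcases Nat.eq_zero_or_pos q with rfl | h'
        · omega
        · omega
      · have := Nat.mul_le_mul_left e h
        omega
    rw [hq1, mul_one] at hq
    rw [← ZMod.natCast_zmod_val (F.κ v), show (F.κ v).val = m by omega]

/-- The sign of a linear character at the involution. -/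
theorem Main.sign {m : ℕ} (hm : e = 2 * m) (i : ZMod e) :
    ZMod.stdAddChar (i * (m : ZMod e)) * ZMod.stdAddChar (i * (m : ZMod e)) = 1 := by
  rw [← AddChar.map_add_eq_mul, ← mul_add, ← Nat.cast_add, ← two_mul, ← hm, ZMod.natCast_self,
    mul_zero, AddChar.map_zero_eq_one]

/-- The values at the involution and the orthogonality relations. -/
theorem Main.values (ht : 3 ≤ t) {m : ℕ} (hm : e = 2 * m) {u : G}
    (huN : u ∈ Subgroup.normalizer (P : Set G)) (huP : u ∉ (P : Subgroup G)) (hu : u * u = 1)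
    (hκ : F.κ u = (m : ZMod e))
    (hinv : ∀ v ∈ Subgroup.normalizer (P : Set G), v ∉ (P : Subgroup G) → v * v = 1 →
      F.κ v = (m : ZMod e)) :
    Nat.card (Subgroup.centralizer ({u} : Set G)) = e * t ∧
      (Nat.card G : ℂ) * ∑ χ : IrrCharacter G, (χ : G → ℂ) u ^ 3 / (χ : G → ℂ) 1 =
        ((e * n * (e * t) ^ 2 : ℕ) : ℂ) := by
  classical
  have hp : (p : ℂ) ≠ 0 := Nat.cast_ne_zero.2 (Fact.out : p.Prime).ne_zero
  obtain ⟨i0, hi0, hY, hi0z⟩ := H.exists_i0 F (H.c_eq_one F ht)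
  have hcount := H.count'
  rw [H.c_eq_one F ht] at hcount
  have hval : ∀ χ : IrrCharacter G,
      (χ : G → ℂ) u = ∑ i : ZMod e, (F.mu χ i : ℂ) * ZMod.stdAddChar (i * (m : ZMod e)) := by
    intro χ; rw [F.apply_mu χ huN huP, hκ]
  set ε : ℂ := ZMod.stdAddChar (i0 * (m : ZMod e)) with hε
  have hε2 : ε * ε = 1 := H.sign F hm i0
  have hYu : ∀ χ ∈ D.Y, (χ : G → ℂ) u = ε := by
    intro χ hχ
    rw [hval, Finset.sum_eq_single i0 (fun i _ hi => by rw [hY χ hχ, if_neg hi]; simp)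
      (fun h => absurd (Finset.mem_univ _) h), hY χ hχ, if_pos rfl, Nat.cast_one, one_mul]
  have hBu : ∀ χ ∈ D.setB, (χ : G → ℂ) u = 0 := fun χ hχ => by
    rw [hval]; simp [H.mu_B F hχ]
  -- the constituents of the linear characters
  have hcover : ∀ i : ZMod e, i ≠ 0 → i ≠ i0 →
      ∃ θ ∈ D.setA, F.mu θ i = 1 ∧ ∀ χ, χ ≠ θ → F.mu χ i = 0 := fun i h1 h2 =>
    H.exists_A F h1 fun η hη => by rw [hY η hη, if_neg h2]
  have hnotA : ∀ χ, χ ∉ D.setA → χ ∉ D.Y → ∀ i : ZMod e, i ≠ 0 → F.mu χ i = 0 := by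
    intro χ hA hYn i hi
    by_cases h : i = i0
    · rw [h]; exact hi0z χ hYn
    · obtain ⟨θ, hθ, -, hz⟩ := hcover i hi h
      exact hz χ fun h2 => hA (h2 ▸ hθ)
  have hO : ∀ χ ∈ D.setO, χ ∉ D.setA ∧ χ ∉ D.Y := fun χ hχ =>
    ⟨fun h => (BlockData.not_mem_setO hχ).1 (H.mem_setA h).1, (BlockData.not_mem_setO hχ).2⟩
  set k : IrrCharacter G → ℕ := fun χ => ∑ i : ZMod e, F.mu χ i with hk
  have hk0 : ∀ χ ∈ D.setO, F.mu χ 0 = k χ := fun χ hχ => (Finset.sum_eq_single 0
    (fun i _ hi => hnotA χ (hO χ hχ).1 (hO χ hχ).2 i hi)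
    (fun h => absurd (Finset.mem_univ _) h)).symm
  have hOu : ∀ χ ∈ D.setO, (χ : G → ℂ) u = (k χ : ℂ) := by
    intro χ hχ
    rw [hval, Finset.sum_eq_single 0 (fun i _ hi => by
      rw [hnotA χ (hO χ hχ).1 (hO χ hχ).2 i hi]; simp) (fun h => absurd (Finset.mem_univ _) h),
      hk0 χ hχ, zero_mul, AddChar.map_zero_eq_one, mul_one]
  have hksq : ∑ χ ∈ D.setO, (k χ : ℂ) ^ 2 = (n : ℂ) := by exact_mod_cast H.sum_out_sq F
  -- the characters in `A`
  have hA0 : ∀ θ ∈ D.setA, F.mu θ 0 = 0 ∧ F.mu θ i0 = 0 := by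
    intro θ hθ
    refine ⟨?_, hi0z θ fun h => Finset.disjoint_left.1 D.disj (H.mem_setA hθ).1 h⟩
    by_contra h0
    have h := F.sum_mu_degree 0
    rw [H.index, ← Finset.add_sum_erase _ _ (Finset.mem_univ θ),
      ← Finset.add_sum_erase _ _ (Finset.mem_erase.2
        ⟨(H.mem_setA hθ).2.1.symm, Finset.mem_univ (Blocks.triv G)⟩),
      (H.mem_setA hθ).2.2.2, H.mu_triv_zero F, one_mul,
      Blocks.charDegree_eq (n := 1) (by simp [Blocks.triv])] at h
    have := Nat.le_mul_of_pos_left (n * p + 1) (Nat.pos_of_ne_zero h0)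
    omega
  have hR : indFun (Subgroup.normalizer (P : Set G)) (F.lam 0) u = (t : ℂ) := by
    rw [← F.sum_mu_apply, D.sum_split, H.mu_triv_zero F,
      Finset.sum_eq_zero (s := D.setA) (fun θ hθ => by rw [(hA0 θ hθ).1]; simp),
      Finset.sum_eq_zero (s := D.setB) (fun θ hθ => by rw [H.mu_B F hθ]; simp),
      Finset.sum_eq_zero (s := D.Y) (fun θ hθ => by rw [hY θ hθ, if_neg hi0.symm]; simp),
      Finset.sum_congr rfl (s₁ := D.setO) (g := fun χ => (k χ : ℂ) ^ 2) (fun χ hχ => by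
        rw [hk0 χ hχ, hOu χ hχ]; ring), hksq, H.t_eq]
    simp [Blocks.triv]
    ring
  have hind : ∀ i : ZMod e, indFun (Subgroup.normalizer (P : Set G)) (F.lam i) u =
      ZMod.stdAddChar (i * (m : ZMod e)) * (t : ℂ) := by
    intro i
    rw [← hR, Char.indFun_apply, Char.indFun_apply, mul_left_comm]
    congr 1
    rw [Finset.mul_sum]
    refine Finset.sum_congr rfl fun x _ => ?_
    by_cases hx : x⁻¹ * u * x ∈ Subgroup.normalizer (P : Set G)
    · rw [Char.extendByZero_of_mem _ _ hx, Char.extendByZero_of_mem _ _ hx, Frame.lam, Frame.lam]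
      have hne : x⁻¹ * u * x ≠ 1 := fun h => huP (by
        rw [show u = x * (x⁻¹ * u * x) * x⁻¹ by group, h, mul_one, mul_inv_cancel]
        exact one_mem _)
      have hsq : x⁻¹ * u * x * (x⁻¹ * u * x) = 1 := by
        rw [show x⁻¹ * u * x * (x⁻¹ * u * x) = x⁻¹ * (u * u) * x by group, hu]; group
      have hnP : x⁻¹ * u * x ∉ (P : Subgroup G) := by
        intro h
        have h1 := orderOf_dvd_of_pow_eq_one (show (x⁻¹ * u * x) ^ 2 = 1 by rw [pow_two, hsq])
        rw [← Nat.card_zpowers, F.setup.zpowers_eq h hne, F.setup.card] at h1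
        have := Nat.le_of_dvd two_pos h1
        have := H.et
        have := Nat.mul_le_mul H.two_le_e ht
        omega
      show ZMod.stdAddChar (i * F.κ (x⁻¹ * u * x)) = _ * ZMod.stdAddChar (0 * F.κ _)
      rw [hinv _ hx hnP hsq, zero_mul, AddChar.map_zero_eq_one, mul_one]
    · rw [Char.extendByZero_of_not_mem _ _ hx, Char.extendByZero_of_not_mem _ _ hx, mul_zero]
  have hAu : ∀ θ ∈ D.setA, (θ : G → ℂ) u * (θ : G → ℂ) u = (t : ℂ) ^ 2 := by
    intro θ hθ
    obtain ⟨i, -, hi⟩ := Finset.exists_ne_zero_of_sum_ne_zero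
      (show ∑ i : ZMod e, F.mu θ i ≠ 0 by rw [H.sum_mu_A F hθ]; omega)
    obtain ⟨θ', -, h1, hz⟩ := hcover i (fun h => hi (h ▸ (hA0 θ hθ).1))
      (fun h => hi (h ▸ (hA0 θ hθ).2))
    have hθθ : θ = θ' := by
      by_contra h
      exact hi (hz θ h)
    subst hθθ
    have h := F.sum_mu_apply i u
    rw [Finset.sum_eq_single θ (fun χ _ hχ => by rw [hz χ hχ]; simp)
      (fun h => absurd (Finset.mem_univ _) h), h1, Nat.cast_one, one_mul, hind] at h
    rw [h]
    linear_combination (t : ℂ) ^ 2 * H.sign F hm i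
  have hnp : ((n : ℂ) * p + 1) ≠ 0 := by exact_mod_cast Nat.succ_ne_zero (n * p)
  have hsumA : ∑ θ ∈ D.setA, (θ : G → ℂ) u = -1 - ε := by
    have h := Char.regular_eq_sum (G := G) u
    rw [if_neg (fun h : u = 1 => huP (h ▸ one_mem _)), D.sum_split,
      Finset.sum_congr rfl (s₁ := D.setA) (g := fun θ => ((n : ℂ) * p + 1) * (θ : G → ℂ) u)
        (fun θ hθ => by rw [degree_cast, (H.mem_setA hθ).2.2.2]; push_cast; ring),
      ← Finset.mul_sum, Finset.sum_eq_zero (s := D.setB) (fun θ hθ => by rw [hBu θ hθ, mul_zero]),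
      Finset.sum_congr rfl (s₁ := D.Y) (g := fun _ => ((p - e : ℕ) : ℂ) * ε) (fun η hη => by
        rw [degree_cast, H.degY' η hη, H.c_eq_one F ht, if_neg one_ne_zero, hYu η hη]),
      Finset.sum_const, H.cardY', nsmul_eq_mul,
      Finset.sum_congr rfl (s₁ := D.setO) (g := fun χ => (p : ℂ) * (k χ : ℂ) ^ 2) (fun χ hχ => by
        rw [degree_cast, H.deg_out F hχ, hOu χ hχ]; push_cast [hk]; ring),
      ← Finset.mul_sum, hksq] at h
    simp only [Blocks.triv, mul_one, add_zero] at h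
    push_cast at h
    refine mul_left_cancel₀ hnp ?_
    have htX : ((n : ℂ) * p + 1) = (t : ℂ) * ((p - e : ℕ) : ℂ) := by exact_mod_cast H.np_eq
    linear_combination h + ε * htX
  constructor
  · have h := Char.second_orthogonality (G := G) u u
    rw [if_pos (IsConj.refl u), Finset.sum_congr rfl (g := fun χ : IrrCharacter G =>
      (χ : G → ℂ) u * (χ : G → ℂ) u) (fun χ _ => by
        rw [← Char.IsChar.inv_eq_conj (Char.IsIrr.isCharacter χ.2),
          inv_eq_of_mul_eq_one_right hu]), D.sum_split,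
      Finset.sum_congr rfl hAu, Finset.sum_eq_zero (s := D.setB) (fun χ hχ => by
        rw [hBu χ hχ, mul_zero]), Finset.sum_const, H.card_setA,
      Finset.sum_congr rfl (s₁ := D.Y) (g := fun _ => (1 : ℂ)) (fun χ hχ => by
        rw [hYu χ hχ, hε2]), Finset.sum_const, H.cardY',
      Finset.sum_congr rfl (s₁ := D.setO) (g := fun χ => (k χ : ℂ) ^ 2) (fun χ hχ => by
        rw [hOu χ hχ]; ring), hksq] at h
    simp only [Blocks.triv, mul_one, nsmul_eq_mul, add_zero] at h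
    have h2 : (1 + A * t ^ 2 + t + n : ℕ) = Nat.card (Subgroup.centralizer ({u} : Set G)) := by
      exact_mod_cast h
    rw [← h2, ← hcount, H.t_eq]
    ring
  · have hX : ((p - e : ℕ) : ℂ) ≠ 0 := Nat.cast_ne_zero.2 (by
      have := H.et; have := Nat.le_mul_of_pos_right e (show 0 < t by omega); omega)
    have ht0 : (t : ℂ) ≠ 0 := Nat.cast_ne_zero.2 (by omega)
    have htX : ((n : ℂ) * p + 1) = (t : ℂ) * ((p - e : ℕ) : ℂ) := by exact_mod_cast H.np_eq
    rw [D.sum_split, Finset.sum_congr rfl (s₁ := D.setA)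
        (g := fun θ => ((t : ℂ) ^ 2 / ((n : ℂ) * p + 1)) * (θ : G → ℂ) u) (fun θ hθ => by
          rw [degree_cast, (H.mem_setA hθ).2.2.2]; push_cast
          field_simp
          linear_combination (θ : G → ℂ) u * hAu θ hθ),
      ← Finset.mul_sum, hsumA, Finset.sum_eq_zero (s := D.setB) (fun χ hχ => by
        rw [hBu χ hχ]; simp),
      Finset.sum_congr rfl (s₁ := D.Y) (g := fun _ => ε / ((p - e : ℕ) : ℂ)) (fun η hη => by
        rw [hYu η hη, degree_cast, H.degY' η hη, H.c_eq_one F ht, if_neg one_ne_zero,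
          pow_succ, pow_two, hε2, one_mul]),
      Finset.sum_const, H.cardY',
      Finset.sum_congr rfl (s₁ := D.setO) (g := fun χ => (k χ : ℂ) ^ 2 / p) (fun χ hχ => by
        rw [degree_cast, H.deg_out F hχ, hOu χ hχ]
        have hk1 : (k χ : ℂ) ≠ 0 := Nat.cast_ne_zero.2 fun h => (Blocks.charDegree_pos χ.2).ne' (by
          rw [H.deg_out F hχ]; simp only [hk] at h; rw [h, mul_zero])
        show _ = _
        push_cast [hk] at hk1 ⊢
        field_simp),
      ← Finset.sum_div, hksq, H.card]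
    have hp' : (p : ℂ) = (e : ℂ) * t + 1 := by exact_mod_cast H.et.symm
    have htn : (t : ℂ) = (n : ℂ) + 1 := by exact_mod_cast H.t_eq
    have hXv : ((p - e : ℕ) : ℂ) = (e : ℂ) * n + 1 := by
      have h1 : p = e * n + e + 1 := by rw [← H.et, H.t_eq]; ring
      exact_mod_cast (show p - e = e * n + 1 by omega)
    simp only [Blocks.triv, one_pow, nsmul_eq_mul, add_zero]
    push_cast
    rw [htX]
    field_simp
    rw [hXv, hp', htn]
    ring

end Cfsg.Agent.Fg24.Brauer
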