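import Cfsg.Agent.Fg24.Brauer.Frame
import Cfsg.Agent.Char.Induced

/-!
# Multiplicities of the linear characters of the normalizer
-/

set_option autoImplicit false
set_option linter.unusedSectionVars false

open Cfsg
open scoped ComplexConjugate

namespace Cfsg.Agent.Fg24.Brauer.Frame

universe u

variable {G : Type u} [Group G] [Fintype G] {p : ℕ} [Fact p.Prime] {P : Sylow p G} {e : ℕ}
  [NeZero e] (F : Frame P e)
include F

theorem sum_std (v : ZMod e) : ∑ i : ZMod e, ZMod.stdAddChar (i * v) = if v = 0 then (e : ℂ) else 0 := by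
  have h := AddChar.sum_mulShift v (ZMod.isPrimitive_stdAddChar e)
  rw [h]
  split_ifs <;> simp [ZMod.card]

open scoped Classical in
theorem sum_kappa (φ : G → ℂ) (v : ZMod e) :
    ∑ i : ZMod e, F.M φ i * ZMod.stdAddChar (i * v) = (p : ℂ)⁻¹ *
      ∑ a ∈ Finset.univ.filter (fun a : Subgroup.normalizer (P : Set G) => F.κ a = v), φ a := by
  have hp : (p : ℂ) ≠ 0 := Nat.cast_ne_zero.2 (Fact.out : p.Prime).ne_zero
  have he : (e : ℂ) ≠ 0 := Nat.cast_ne_zero.2 F.e_pos.ne'
  simp only [M, Finset.mul_sum, Finset.sum_mul]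
  rw [Finset.sum_comm, Finset.sum_filter]
  refine Finset.sum_congr rfl fun a _ => ?_
  have h : ∀ i : ZMod e, (Nat.card (Subgroup.normalizer (P : Set G)) : ℂ)⁻¹ *
      (φ a * conj (F.lam i a)) * ZMod.stdAddChar (i * v) =
      ((Nat.card (Subgroup.normalizer (P : Set G)) : ℂ)⁻¹ * φ a) *
        ZMod.stdAddChar (i * (v - F.κ a)) := fun i => by
    rw [F.conj_lam, show i * (v - F.κ a) = -(i * F.κ a) + i * v by ring, AddChar.map_add_eq_mul]
    ring
  rw [Finset.sum_congr rfl fun i _ => h i, ← Finset.mul_sum, F.sum_std, F.card_normalizer]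
  push_cast
  by_cases hv : F.κ a = v
  · rw [if_pos hv, if_pos (by rw [hv, sub_self])]
    field_simp
  · rw [if_neg hv, if_neg fun h2 => hv (sub_eq_zero.1 h2).symm]
    simp

open scoped Classical in
/-- The values on the normalizer outside `P`. -/
theorem apply_eq {φ : G → ℂ} (hφ : IsClassFunction G φ) {h : G}
    (hh : h ∈ Subgroup.normalizer (P : Set G)) (hP : h ∉ (P : Subgroup G)) :
    φ h = ∑ i : ZMod e, F.M φ i * ZMod.stdAddChar (i * F.κ h) := by
  rw [F.sum_kappa]
  have hp : (p : ℂ) ≠ 0 := Nat.cast_ne_zero.2 (Fact.out : p.Prime).ne_zero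
  have h1 : ∀ a ∈ Finset.univ.filter (fun a : Subgroup.normalizer (P : Set G) => F.κ a = F.κ h),
      φ a = φ h := by
    intro a ha
    have h2 : (a : G) * h⁻¹ ∈ (P : Subgroup G) := by
      refine (F.κ_eq_zero _ (mul_mem a.2 (inv_mem hh))).1 ?_
      rw [F.κ_mul _ a.2 _ (inv_mem hh), F.κ_inv hh, (Finset.mem_filter.1 ha).2, add_neg_cancel]
    have h3 := F.class_coset hφ hh hP h2
    rwa [inv_mul_cancel_right] at h3
  have h4 : (Finset.univ.filter
      (fun a : Subgroup.normalizer (P : Set G) => F.κ a = F.κ h)).card = p := by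
    refine Eq.trans ?_ F.setup.card
    rw [← Nat.card_eq_finsetCard]
    refine Nat.card_congr
      { toFun := fun a => ⟨(a.1 : G) * h⁻¹, ?_⟩
        invFun := fun z => ⟨⟨(z : G) * h, mul_mem (Subgroup.le_normalizer z.2) hh⟩,
          Finset.mem_filter.2 ⟨Finset.mem_univ _, ?_⟩⟩
        left_inv := fun a => Subtype.ext (Subtype.ext (inv_mul_cancel_right _ _))
        right_inv := fun z => Subtype.ext (mul_inv_cancel_right _ _) }
    · refine (F.κ_eq_zero _ (mul_mem a.1.2 (inv_mem hh))).1 ?_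
      rw [F.κ_mul _ a.1.2 _ (inv_mem hh), F.κ_inv hh, (Finset.mem_filter.1 a.2).2, add_neg_cancel]
    · show F.κ ((z : G) * h) = F.κ h
      rw [F.κ_mul _ (Subgroup.le_normalizer z.2) _ hh,
        (F.κ_eq_zero _ (Subgroup.le_normalizer z.2)).2 z.2, zero_add]
  rw [Finset.sum_congr rfl h1, Finset.sum_const, h4, nsmul_eq_mul, inv_mul_cancel_left₀ hp]

open scoped Classical in
/-- The multiplicity of the trivial character of `P`. -/
theorem sum_M (φ : G → ℂ) :
    ∑ i : ZMod e, F.M φ i = (p : ℂ)⁻¹ * ∑ z : (P : Subgroup G), φ z := by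
  have h := F.sum_kappa φ 0
  simp only [mul_zero, AddChar.map_zero_eq_one, mul_one] at h
  rw [h]
  congr 1
  refine Finset.sum_bij' (fun a ha => (⟨a, (F.κ_eq_zero _ a.2).1 (Finset.mem_filter.1 ha).2⟩ :
      (P : Subgroup G)))
    (fun z _ => (⟨z, Subgroup.le_normalizer z.2⟩ : Subgroup.normalizer (P : Set G))) ?_ ?_ ?_ ?_ ?_
  · exact fun a _ => Finset.mem_univ _
  · exact fun z _ => Finset.mem_filter.2 ⟨Finset.mem_univ _,
      (F.κ_eq_zero _ (Subgroup.le_normalizer z.2)).2 z.2⟩
  all_goals intros; rfl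

theorem M_eq_classInner [Fintype (Subgroup.normalizer (P : Set G))] (φ : G → ℂ) (i : ZMod e) :
    F.M φ i = classInner (fun a : Subgroup.normalizer (P : Set G) => φ a) (F.lam i) := by
  rw [M, classInner]
  congr 1
  exact Finset.sum_congr (Finset.ext fun _ => by simp) fun _ _ => rfl

/-- The multiplicity as a natural number. -/
noncomputable def mu (χ : IrrCharacter G) (i : ZMod e) : ℕ :=
  open scoped Classical in
  if h : ∃ k : ℕ, F.M (χ : G → ℂ) i = k then h.choose else 0

theorem M_eq_mu (χ : IrrCharacter G) (i : ZMod e) : F.M (χ : G → ℂ) i = (F.mu χ i : ℂ) := by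
  classical
  have h : ∃ k : ℕ, F.M (χ : G → ℂ) i = k := by
    rw [F.M_eq_classInner]
    exact Char.classInner_isCharacter_eq_natCast
      (Char.isCharacter_res _ (Char.IsIrr.isCharacter χ.2)) (F.isCharacter_lam i)
  rw [mu, dif_pos h]
  exact h.choose_spec

theorem apply_mu (χ : IrrCharacter G) {h : G}
    (hh : h ∈ Subgroup.normalizer (P : Set G)) (hP : h ∉ (P : Subgroup G)) :
    (χ : G → ℂ) h = ∑ i : ZMod e, (F.mu χ i : ℂ) * ZMod.stdAddChar (i * F.κ h) := by
  rw [F.apply_eq (Char.isClassFunction_of_isIrr χ.2) hh hP]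
  simp only [F.M_eq_mu]

open scoped Classical in
theorem sum_mu_eq (χ : IrrCharacter G) :
    (p : ℂ) * ((∑ i : ZMod e, F.mu χ i : ℕ) : ℂ) = ∑ z : (P : Subgroup G), (χ : G → ℂ) z := by
  push_cast
  simp only [← F.M_eq_mu]
  rw [F.sum_M, mul_inv_cancel_left₀ (Nat.cast_ne_zero.2 (Fact.out : p.Prime).ne_zero)]

open scoped Classical in
/-- The induced characters. -/
theorem sum_mu_apply (i : ZMod e) (g : G) :
    ∑ χ : IrrCharacter G, (F.mu χ i : ℂ) * (χ : G → ℂ) g =
      indFun (Subgroup.normalizer (P : Set G)) (F.lam i) g := by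
  conv_rhs => rw [Char.classFun_expansion (Char.isClassFunction_indFun _ _)]
  simp only [Finset.sum_apply, Pi.smul_apply, smul_eq_mul]
  refine Finset.sum_congr rfl fun χ _ => ?_
  rw [Char.classInner_indFun_left _ _ (Char.isClassFunction_of_isIrr χ.2),
    ← Char.classInner_conj_symm, ← F.M_eq_classInner, F.M_eq_mu, Complex.conj_natCast]

/-- The degrees of the constituents of an induced character. -/
theorem sum_mu_degree (i : ZMod e) :
    ∑ χ : IrrCharacter G, F.mu χ i * charDegree (χ : G → ℂ) =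
      (Subgroup.normalizer (P : Set G)).index := by
  classical
  have h := F.sum_mu_apply i 1
  rw [Char.indFun_apply_one, F.lam_mem (one_mem _), mul_one] at h
  simp only [degree_cast] at h
  exact_mod_cast h

theorem mu_triv {i : ZMod e} (hi : i ≠ 0) : F.mu (Blocks.triv G) i = 0 := by
  classical
  have h1 : F.M (fun _ : G => (1 : ℂ)) i = 0 := by
    obtain ⟨hy, hyk⟩ := And.intro F.y_mem F.κ_y
    rw [M]
    refine mul_eq_zero_of_right _ ?_
    simp only [one_mul, ← map_sum]
    refine (map_eq_zero _).2 ?_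
    set y' : Subgroup.normalizer (P : Set G) := ⟨F.y, hy⟩
    have h2 : ZMod.stdAddChar i * ∑ a, F.lam i a = ∑ a, F.lam i a := by
      rw [Finset.mul_sum]
      refine Fintype.sum_equiv (Equiv.mulLeft y') _ _ fun a => ?_
      show ZMod.stdAddChar i * ZMod.stdAddChar (i * F.κ a) = ZMod.stdAddChar (i * F.κ (F.y * a))
      rw [F.κ_mul _ hy _ a.2, hyk, mul_add, mul_one, AddChar.map_add_eq_mul]
    by_contra hne
    refine hi (ZMod.injective_stdAddChar ?_)
    rw [AddChar.map_zero_eq_one]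
    exact (mul_eq_right₀ hne).1 h2
  have h3 := F.M_eq_mu (Blocks.triv G) i
  rw [show ((Blocks.triv G : IrrCharacter G) : G → ℂ) = fun _ => 1 from rfl, h1] at h3
  exact_mod_cast h3.symm

end Cfsg.Agent.Fg24.Brauer.Frame
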