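import Cfsg.Agent.Fg24.Brauer.Mult
import Cfsg.Agent.Char.Linear

/-!
# The multiplicities in the main case
-/

set_option autoImplicit false
set_option linter.unusedSectionVars false

open Cfsg
open scoped ComplexConjugate

namespace Cfsg.Agent.Fg24.Brauer

universe u

variable {G : Type u} [Group G] [Fintype G] {p : ℕ} [Fact p.Prime] {P : Sylow p G} {e : ℕ}
  {D : BlockData P e} {n t A c : ℕ}

open scoped Classical in
/-- The non-exceptional characters of sign `1`, the trivial one excepted. -/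
noncomputable def BlockData.setA (D : BlockData P e) : Finset (IrrCharacter G) :=
  (D.X.erase (Blocks.triv G)).filter fun χ => D.a χ = 1

open scoped Classical in
/-- The non-exceptional characters of sign `-1`. -/
noncomputable def BlockData.setB (D : BlockData P e) : Finset (IrrCharacter G) :=
  (D.X.erase (Blocks.triv G)).filter fun χ => ¬ D.a χ = 1

open scoped Classical in
/-- The characters outside the principal block. -/
noncomputable def BlockData.setO (D : BlockData P e) : Finset (IrrCharacter G) := (D.X ∪ D.Y)ᶜ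

theorem BlockData.sum_split (D : BlockData P e) {M : Type*} [AddCommMonoid M]
    (f : IrrCharacter G → M) :
    ∑ χ, f χ = f (Blocks.triv G) + (∑ χ ∈ D.setA, f χ + ∑ χ ∈ D.setB, f χ) +
      ∑ χ ∈ D.Y, f χ + ∑ χ ∈ D.setO, f χ := by
  classical
  rw [← Finset.sum_add_sum_compl (D.X ∪ D.Y), Finset.sum_union D.disj,
    ← Finset.add_sum_erase _ _ D.triv_mem,
    ← Finset.sum_filter_add_sum_filter_not (D.X.erase (Blocks.triv G)) (fun χ => D.a χ = 1)]
  congr 3 <;> simp [BlockData.setA, BlockData.setB, BlockData.setO]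

theorem Pre.mem_setA (H : Pre D n t A c) {χ : IrrCharacter G} (h : χ ∈ D.setA) :
    χ ∈ D.X ∧ χ ≠ Blocks.triv G ∧ D.a χ = 1 ∧ charDegree (χ : G → ℂ) = n * p + 1 := by
  classical
  rw [BlockData.setA, Finset.mem_filter, Finset.mem_erase] at h
  obtain ⟨⟨h1, h2⟩, h3⟩ := h
  rcases H.degX χ h2 h1 with h4 | h4
  · exact ⟨h2, h1, h3, h4.2⟩
  · rw [h4.1] at h3; omega

theorem Pre.mem_setB (H : Pre D n t A c) {χ : IrrCharacter G} (h : χ ∈ D.setB) :
    χ ∈ D.X ∧ D.a χ = -1 ∧ charDegree (χ : G → ℂ) = p - 1 := by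
  classical
  rw [BlockData.setB, Finset.mem_filter, Finset.mem_erase] at h
  obtain ⟨⟨h1, h2⟩, h3⟩ := h
  rcases H.degX χ h2 h1 with h4 | h4
  · exact absurd h4.1 h3
  · exact ⟨h2, h4.1, h4.2⟩

theorem BlockData.not_mem_setO {χ : IrrCharacter G} (h : χ ∈ D.setO) :
    χ ∉ D.X ∧ χ ∉ D.Y := by
  classical
  simpa [BlockData.setO] using h

theorem Pre.card_setA (H : Pre D n t A c) : D.setA.card = A := by
  classical
  rw [← H.cardA, BlockData.setA]

theorem Pre.cardY' (H : Pre D n t A c) : D.Y.card = t := by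
  rw [D.cardY, show p - 1 = e * t by have := H.et; omega,
    Nat.mul_div_cancel_left t (show 0 < e by have := H.two_le_e; omega)]

theorem Main.count' (H : Main D n t A c) : A * t + c + 1 = e := by
  rw [H.t_eq]; exact H.count

theorem Main.degY' (H : Main D n t A c) (θ : IrrCharacter G) (hθ : θ ∈ D.Y) :
    charDegree (θ : G → ℂ) = if c = 0 then e else p - e := by
  rw [H.degY θ hθ]
  rcases H.c_or with h | h <;> simp [h]

theorem Main.np_eq (H : Main D n t A c) : n * p + 1 = t * (p - e) := by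
  have h1 : p = e * n + e + 1 := by rw [← H.et, H.t_eq]; ring
  rw [show p - e = e * n + 1 by omega, H.t_eq, h1]
  ring

theorem BlockData.sum_P (D : BlockData P e) (hP : Nat.card (P : Subgroup G) = p) {χ : IrrCharacter G}
    (hχ : χ ∈ D.X) [Fintype (P : Subgroup G)] :
    ∑ z : (P : Subgroup G), (χ : G → ℂ) z =
      (charDegree (χ : G → ℂ) : ℂ) + ((p : ℂ) - 1) * (D.a χ : ℂ) := by
  classical
  rw [← Finset.add_sum_erase _ _ (Finset.mem_univ 1), OneMemClass.coe_one, degree_cast,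
    Finset.sum_congr rfl (g := fun _ => (D.a χ : ℂ)) (fun i hi =>
      D.val_P hχ i.2 fun h => Finset.ne_of_mem_erase hi (Subtype.ext h)),
    Finset.sum_const, Finset.card_erase_of_mem (Finset.mem_univ _), Finset.card_univ,
    ← Nat.card_eq_fintype_card, hP, nsmul_eq_mul, Nat.cast_sub (Fact.out : p.Prime).pos,
    Nat.cast_one]

variable [NeZero e] (F : Frame P e) (H : Pre D n t A c)
include F H

theorem Pre.out_P {χ : IrrCharacter G} (hχ : χ ∈ D.setO) {z : G} (hz : z ∈ (P : Subgroup G))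
    (hz1 : z ≠ 1) : (χ : G → ℂ) z = 0 := by
  obtain ⟨h1, h2⟩ := BlockData.not_mem_setO hχ
  rw [← F.avg_eq hz hz1 (χ : G → ℂ)]
  exact D.out χ h1 h2 z hz hz1

theorem Pre.sum_mu_triv : ∑ i : ZMod e, F.mu (Blocks.triv G) i = 1 := by
  classical
  have h := F.sum_mu_eq (Blocks.triv G)
  simp only [Blocks.triv, Finset.sum_const, Finset.card_univ, ← Nat.card_eq_fintype_card,
    F.setup.card, nsmul_eq_mul, mul_one] at h
  have h2 := mul_left_cancel₀ (Nat.cast_ne_zero.2 (Fact.out : p.Prime).ne_zero)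
    (h.trans (mul_one _).symm)
  exact_mod_cast h2

theorem Pre.mu_triv_zero : F.mu (Blocks.triv G) 0 = 1 := by
  have h := H.sum_mu_triv F
  rwa [Finset.sum_eq_single 0 (fun i _ hi => F.mu_triv hi)
    (fun h => absurd (Finset.mem_univ _) h)] at h

theorem Pre.sum_mu_A {χ : IrrCharacter G} (hχ : χ ∈ D.setA) :
    ∑ i : ZMod e, F.mu χ i = n + 1 := by
  classical
  obtain ⟨h1, -, ha, hd⟩ := H.mem_setA hχ
  have h := F.sum_mu_eq χ
  rw [D.sum_P F.setup.card h1, ha, hd] at h
  have h2 : (p : ℂ) * ((∑ i : ZMod e, F.mu χ i : ℕ) : ℂ) = (p : ℂ) * ((n + 1 : ℕ) : ℂ) := by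
    rw [h]; push_cast; ring
  exact_mod_cast mul_left_cancel₀ (Nat.cast_ne_zero.2 (Fact.out : p.Prime).ne_zero) h2

theorem Pre.mu_B {χ : IrrCharacter G} (hχ : χ ∈ D.setB) (i : ZMod e) : F.mu χ i = 0 := by
  classical
  obtain ⟨h1, ha, hd⟩ := H.mem_setB hχ
  have h := F.sum_mu_eq χ
  rw [D.sum_P F.setup.card h1, ha, hd, Nat.cast_sub (Fact.out : p.Prime).pos] at h
  have h2 : (p : ℂ) * ((∑ i : ZMod e, F.mu χ i : ℕ) : ℂ) = (p : ℂ) * 0 := by
    rw [h]; push_cast; ring
  have h3 : ∑ i : ZMod e, F.mu χ i = 0 := by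
    exact_mod_cast mul_left_cancel₀ (Nat.cast_ne_zero.2 (Fact.out : p.Prime).ne_zero) h2
  exact Finset.sum_eq_zero_iff.1 h3 i (Finset.mem_univ i)

theorem Pre.deg_out {χ : IrrCharacter G} (hχ : χ ∈ D.setO) :
    charDegree (χ : G → ℂ) = p * ∑ i : ZMod e, F.mu χ i := by
  classical
  have h := F.sum_mu_eq χ
  rw [Finset.sum_eq_single 1 (fun z _ hz =>
      H.out_P F hχ z.2 fun h => hz (Subtype.ext h)) (fun h => absurd (Finset.mem_univ _) h),
    OneMemClass.coe_one, degree_cast] at h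
  exact_mod_cast h.symm

theorem Pre.sum_out_sq : ∑ χ ∈ D.setO, (∑ i : ZMod e, F.mu χ i) ^ 2 = n := by
  classical
  refine Nat.eq_of_mul_eq_mul_right (pow_pos (Fact.out : p.Prime).pos 2) ?_
  rw [Finset.sum_mul, ← H.outSq]
  refine Finset.sum_congr (by simp [BlockData.setO]) fun χ hχ => ?_
  rw [H.deg_out F (by simpa [BlockData.setO] using hχ), mul_pow, mul_comm]

/-- The exceptional characters restrict equally to the normalizer. -/
theorem Pre.mu_Y {η η' : IrrCharacter G} (hη : η ∈ D.Y) (hη' : η' ∈ D.Y) (i : ZMod e) :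
    F.mu η i = F.mu η' i := by
  classical
  have hsum : ∀ χ ∈ D.Y, ((n : ℂ) * p + 1) * (∑ z : (P : Subgroup G), (χ : G → ℂ) z -
      (χ : G → ℂ) 1) = -∑ g ∈ Finset.univ.filter (fun g : G => ¬ p ∣ orderOf g), (χ : G → ℂ) g := by
    intro χ hχ
    have h0 := Char.classInner_irr_ne χ.2 (Blocks.triv G).2 (fun h =>
      Finset.disjoint_right.1 D.disj hχ ((Subtype.ext h : χ = Blocks.triv G) ▸ D.triv_mem))
    simp only [classInner, Blocks.triv, map_one, mul_one, mul_eq_zero, inv_eq_zero,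
      Char.card_ne_zero, false_or] at h0
    rw [F.sum_eq H.card (Char.isClassFunction_of_isIrr χ.2)] at h0
    linear_combination h0
  have hreg : ∀ g : G, ¬ p ∣ orderOf g → (η : G → ℂ) g = (η' : G → ℂ) g := fun g hg =>
    D.regY η hη η' hη' g hg
  have h1 : ∑ z : (P : Subgroup G), (η : G → ℂ) z = ∑ z : (P : Subgroup G), (η' : G → ℂ) z := by
    have e1 := hsum η hη
    rw [Finset.sum_congr rfl fun g hg => hreg g (Finset.mem_filter.1 hg).2, ← hsum η' hη',
      hreg 1 not_dvd_one_order] at e1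
    have hne : ((n : ℂ) * p + 1) ≠ 0 := by exact_mod_cast Nat.succ_ne_zero (n * p)
    exact sub_left_injective (mul_left_cancel₀ hne e1)
  have h2 : F.M (η : G → ℂ) i - F.M (η' : G → ℂ) i = 0 := by
    simp only [Frame.M, ← mul_sub, ← Finset.sum_sub_distrib, ← sub_mul]
    refine mul_eq_zero_of_right _ ?_
    rw [← Finset.sum_filter_add_sum_filter_not Finset.univ
      (fun a : Subgroup.normalizer (P : Set G) => (a : G) ∈ (P : Subgroup G))]
    rw [Finset.sum_eq_zero (s := Finset.univ.filter fun a : Subgroup.normalizer (P : Set G) =>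
      ¬ (a : G) ∈ (P : Subgroup G)) (fun a ha => by
        rw [hreg _ (F.regular a.2 (Finset.mem_filter.1 ha).2), sub_self, zero_mul]), add_zero]
    refine Eq.trans (Finset.sum_bij'
      (fun a ha => (⟨a, (Finset.mem_filter.1 ha).2⟩ : (P : Subgroup G)))
      (fun (z : ↥(P : Subgroup G)) _ =>
        (⟨z, Subgroup.le_normalizer z.2⟩ : Subgroup.normalizer (P : Set G)))
      (t := Finset.univ) (g := fun z : ↥(P : Subgroup G) => (η : G → ℂ) z - (η' : G → ℂ) z)
      (fun a _ => Finset.mem_univ _) (fun z _ => Finset.mem_filter.2 ⟨Finset.mem_univ _, z.2⟩)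
      (fun _ _ => rfl) (fun _ _ => rfl) (fun a ha => ?_)) ?_
    · rw [F.lam_mem (Finset.mem_filter.1 ha).2, map_one, mul_one]
    · rw [Finset.sum_sub_distrib, h1, sub_self]
  rw [sub_eq_zero, F.M_eq_mu, F.M_eq_mu] at h2
  exact_mod_cast h2

theorem Pre.sum_mu_Y {η : IrrCharacter G} (hη : η ∈ D.Y) :
    ∑ i : ZMod e, F.mu η i = c := by
  classical
  have hp : p.Prime := Fact.out
  set N : IrrCharacter G → ℕ := fun χ => charDegree (χ : G → ℂ) * ∑ i : ZMod e, F.mu χ i
  have htot : ∑ χ, N χ = e * (n * p + 1) := by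
    have h : (p : ℂ) * ((∑ χ, N χ : ℕ) : ℂ) = (Nat.card G : ℂ) := by
      have e1 : ∀ χ : IrrCharacter G, (p : ℂ) * (N χ : ℂ) =
          ∑ z : (P : Subgroup G), (χ : G → ℂ) 1 * (χ : G → ℂ) z := fun χ => by
        rw [← Finset.mul_sum, ← F.sum_mu_eq, degree_cast]
        simp only [N, Nat.cast_mul]
        ring
      rw [Nat.cast_sum, Finset.mul_sum, Finset.sum_congr rfl fun χ _ => e1 χ]
      rw [Finset.sum_comm, Finset.sum_congr rfl fun (z : (P : Subgroup G)) _ =>
        Char.regular_eq_sum (z : G)]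
      simp only [OneMemClass.coe_eq_one, Finset.sum_ite_eq', Finset.mem_univ, if_true]
    rw [H.card] at h
    have h2 : ((∑ χ, N χ : ℕ) : ℂ) = ((e * (n * p + 1) : ℕ) : ℂ) :=
      mul_left_cancel₀ (Nat.cast_ne_zero.2 hp.ne_zero) (h.trans (by push_cast; ring))
    exact Nat.cast_inj.1 h2
  have e2 : ∑ χ ∈ D.setO, N χ = p * n := by
    rw [← H.sum_out_sq F, Finset.mul_sum]
    exact Finset.sum_congr rfl fun χ hχ => by show _ * _ = _; rw [H.deg_out F hχ]; ring
  set dY := if c = 0 then e else c * p - e with hdY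
  set f := ∑ i : ZMod e, F.mu η i with hf
  rw [D.sum_split, Finset.sum_congr rfl (s₁ := D.setA) (g := fun _ => (n * p + 1) * (n + 1))
      (fun χ hχ => by show _ * _ = _; rw [(H.mem_setA hχ).2.2.2, H.sum_mu_A F hχ]),
    Finset.sum_eq_zero (s := D.setB) (fun χ hχ => by
      show _ * _ = 0
      rw [Finset.sum_eq_zero fun i _ => H.mu_B F hχ i, mul_zero]),
    Finset.sum_congr rfl (s₁ := D.Y) (g := fun _ => dY * f) (fun χ hχ => by
      show _ * _ = _
      rw [H.degY χ hχ, hf, Finset.sum_congr rfl fun i _ => H.mu_Y F hχ hη i]),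
    e2, Finset.sum_const, Finset.sum_const, H.card_setA,
    H.cardY'] at htot
  have htriv : N (Blocks.triv G) = 1 := by
    show _ * _ = 1
    rw [H.sum_mu_triv F, mul_one]
    exact Blocks.charDegree_eq (by simp [Blocks.triv])
  rw [htriv] at htot
  simp only [smul_eq_mul, add_zero] at htot
  have h4 : t * (dY * f) = (n * p + 1) * c := by
    have h5 : e * (n * p + 1) = (A * (n + 1) + c + 1) * (n * p + 1) := by rw [H.count]
    linarith
  by_cases hc0 : c = 0
  · rw [hc0, mul_zero] at h4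
    rw [hdY, if_pos hc0] at h4
    rcases mul_eq_zero.1 h4 with h | h
    · have hpe := H.et; rw [h, mul_zero] at hpe; exact absurd hpe (Fact.out : p.Prime).one_lt.ne
    · rw [hc0]; exact (mul_eq_zero.1 h).resolve_left (by have := H.two_le_e; omega)
  · rw [hdY, if_neg hc0, ← mul_assoc, ← H.mulY hc0] at h4
    exact Nat.eq_of_mul_eq_mul_left (Nat.succ_pos _) h4

/-- A linear character missing the exceptional characters lies in exactly one character of
degree `np + 1`. -/
theorem Pre.exists_A {i : ZMod e} (hi : i ≠ 0) (hY : ∀ η ∈ D.Y, F.mu η i = 0) :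
    ∃ θ ∈ D.setA, F.mu θ i = 1 ∧ ∀ χ, χ ≠ θ → F.mu χ i = 0 := by
  classical
  have hp : p.Prime := Fact.out
  have h := F.sum_mu_degree i
  rw [H.index] at h
  by_cases hA : ∀ θ ∈ D.setA, F.mu θ i = 0
  · exfalso
    rw [D.sum_split, F.mu_triv hi, Finset.sum_eq_zero (s := D.setA) (fun θ hθ => by
        rw [hA θ hθ, zero_mul]), Finset.sum_eq_zero (s := D.setB) (fun θ hθ => by
        rw [H.mu_B F hθ, zero_mul]), Finset.sum_eq_zero (s := D.Y) (fun θ hθ => by
        rw [hY θ hθ, zero_mul])] at h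
    simp only [zero_mul, zero_add] at h
    refine hp.not_dvd_one ((Nat.dvd_add_right (dvd_mul_left p n)).1 (h ▸ ?_))
    exact Finset.dvd_sum fun χ hχ => (H.deg_out F hχ ▸ dvd_mul_right p _).mul_left _
  push Not at hA
  obtain ⟨θ, hθ, hθ0⟩ := hA
  rw [← Finset.add_sum_erase _ _ (Finset.mem_univ θ), (H.mem_setA hθ).2.2.2] at h
  have h1 : F.mu θ i = 1 := by
    by_contra h1
    have := Nat.mul_le_mul_right (n * p + 1) (show 2 ≤ F.mu θ i by omega)
    omega
  refine ⟨θ, hθ, h1, fun χ hχ => ?_⟩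
  rw [h1, one_mul, Nat.add_eq_left] at h
  have := Finset.sum_eq_zero_iff.1 h χ (Finset.mem_erase.2 ⟨hχ, Finset.mem_univ χ⟩)
  exact (mul_eq_zero.1 this).resolve_right (Blocks.charDegree_pos χ.2).ne'

end Cfsg.Agent.Fg24.Brauer
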